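import Mathlib

/-!
# The maximal unipotent subgroup of `Sp₄`

An element is a quadruple `(a, b, c, d)`: the first coordinate of the short root, the long simple
root, the short and the long non-simple root.
-/

set_option autoImplicit false
set_option linter.unusedSectionVars false

namespace Cfsg.Agent.SpFourCore

/-- A Sylow subgroup of `Sp₄(K)` in the characteristic of `K`. -/
@[ext] structure Syl (K : Type*) where
  /-- short simple root -/
  a : K
  /-- long simple root -/
  b : K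
  /-- short root -/
  c : K
  /-- long root -/
  d : K

namespace Syl

variable {K : Type*} [Field K]

instance : One (Syl K) := ⟨⟨0, 0, 0, 0⟩⟩
instance : Mul (Syl K) :=
  ⟨fun x y => ⟨x.a + y.a, x.b + y.b, x.c + y.c + x.a * y.b, x.d + y.d + 2 * x.a * y.c + x.a ^ 2 * y.b⟩⟩
instance : Inv (Syl K) :=
  ⟨fun x => ⟨-x.a, -x.b, -x.c + x.a * x.b, -x.d + 2 * x.a * x.c - x.a ^ 2 * x.b⟩⟩

@[simp] theorem one_a : (1 : Syl K).a = 0 := rfl
@[simp] theorem one_b : (1 : Syl K).b = 0 := rfl
@[simp] theorem one_c : (1 : Syl K).c = 0 := rfl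
@[simp] theorem one_d : (1 : Syl K).d = 0 := rfl
@[simp] theorem mul_a (x y : Syl K) : (x * y).a = x.a + y.a := rfl
@[simp] theorem mul_b (x y : Syl K) : (x * y).b = x.b + y.b := rfl
@[simp] theorem mul_c (x y : Syl K) : (x * y).c = x.c + y.c + x.a * y.b := rfl
@[simp] theorem mul_d (x y : Syl K) :
    (x * y).d = x.d + y.d + 2 * x.a * y.c + x.a ^ 2 * y.b := rfl
@[simp] theorem inv_a (x : Syl K) : x⁻¹.a = -x.a := rfl
@[simp] theorem inv_b (x : Syl K) : x⁻¹.b = -x.b := rfl
@[simp] theorem inv_c (x : Syl K) : x⁻¹.c = -x.c + x.a * x.b := rfl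
@[simp] theorem inv_d (x : Syl K) : x⁻¹.d = -x.d + 2 * x.a * x.c - x.a ^ 2 * x.b := rfl

instance : Group (Syl K) where
  mul_assoc x y z := by ext <;> simp <;> ring
  one_mul x := by ext <;> simp
  mul_one x := by ext <;> simp
  inv_mul_cancel x := by ext <;> simp <;> ring

/-- The coordinates. -/
def equiv : Syl K ≃ K × K × K × K where
  toFun x := (x.a, x.b, x.c, x.d)
  invFun x := ⟨x.1, x.2.1, x.2.2.1, x.2.2.2⟩
  left_inv _ := rfl
  right_inv _ := rfl

instance [Finite K] : Finite (Syl K) := Finite.of_equiv _ equiv.symm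

theorem natCard : Nat.card (Syl K) = Nat.card K ^ 4 := by
  rw [Nat.card_congr equiv, Nat.card_prod, Nat.card_prod, Nat.card_prod]; ring

theorem commute_iff (x y : Syl K) : x * y = y * x ↔ x.a * y.b = y.a * x.b ∧
    2 * x.a * y.c + x.a ^ 2 * y.b = 2 * y.a * x.c + y.a ^ 2 * x.b := by
  constructor
  · intro h
    have h1 := congrArg Syl.c h
    have h2 := congrArg Syl.d h
    simp only [mul_c, mul_d] at h1 h2
    exact ⟨by linear_combination h1, by linear_combination h2⟩
  · rintro ⟨h1, h2⟩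
    ext <;> simp only [mul_a, mul_b, mul_c, mul_d]
    · ring
    · ring
    · linear_combination h1
    · linear_combination h2

/-- The abelian maximal subgroup `a = 0`. -/
def subA : Subgroup (Syl K) where
  carrier := {x | x.a = 0}
  one_mem' := rfl
  mul_mem' {x y} hx hy := by
    show x.a + y.a = 0
    rw [show x.a = 0 from hx, show y.a = 0 from hy, add_zero]
  inv_mem' {x} hx := by
    show -x.a = 0
    rw [show x.a = 0 from hx, neg_zero]

/-- The subgroup `b = 0`; elementary abelian in characteristic two. -/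
def subB : Subgroup (Syl K) where
  carrier := {x | x.b = 0}
  one_mem' := rfl
  mul_mem' {x y} hx hy := by
    show x.b + y.b = 0
    rw [show x.b = 0 from hx, show y.b = 0 from hy, add_zero]
  inv_mem' {x} hx := by
    show -x.b = 0
    rw [show x.b = 0 from hx, neg_zero]

/-- The subgroup `a = b = 0`. -/
def subAB : Subgroup (Syl K) := subA ⊓ subB

@[simp] theorem mem_subA {x : Syl K} : x ∈ subA ↔ x.a = 0 := Iff.rfl
@[simp] theorem mem_subB {x : Syl K} : x ∈ subB ↔ x.b = 0 := Iff.rfl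
@[simp] theorem mem_subAB {x : Syl K} : x ∈ subAB ↔ x.a = 0 ∧ x.b = 0 := Iff.rfl

instance : (subA : Subgroup (Syl K)).Normal := ⟨fun x hx g => by simp_all⟩
instance : (subB : Subgroup (Syl K)).Normal := ⟨fun x hx g => by simp_all⟩
instance : (subAB : Subgroup (Syl K)).Normal := ⟨fun x hx g => by simp_all⟩

theorem conj_eq (g x : Syl K) : g * x * g⁻¹ = ⟨x.a, x.b, x.c + g.a * x.b - x.a * g.b,
    x.d + 2 * g.a * x.c - 2 * x.a * g.c + g.a ^ 2 * x.b - x.a ^ 2 * g.b⟩ := by
  ext <;> simp <;> ring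

theorem mem_center_iff_of_two_ne (h2 : (2 : K) ≠ 0) (x : Syl K) :
    x ∈ Subgroup.center (Syl K) ↔ x.a = 0 ∧ x.b = 0 ∧ x.c = 0 := by
  rw [Subgroup.mem_center_iff]
  constructor
  · intro h
    have h1 := (commute_iff _ _).1 (h ⟨1, 0, 0, 0⟩)
    have h3 := (commute_iff _ _).1 (h ⟨0, 1, 0, 0⟩)
    simp at h1 h3
    obtain ⟨hb, hd⟩ := h1
    have hb' : x.b = 0 := by linear_combination hb
    refine ⟨h3.1.symm, hb', ?_⟩
    rw [hb'] at hd
    simpa [h2] using hd
  · rintro ⟨ha, hb, hc⟩ g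
    exact (commute_iff _ _).2 (by simp [ha, hb, hc])

theorem mem_center_iff_of_two_eq (h2 : (2 : K) = 0) (x : Syl K) :
    x ∈ Subgroup.center (Syl K) ↔ x.a = 0 ∧ x.b = 0 := by
  rw [Subgroup.mem_center_iff]
  constructor
  · intro h
    have h1 := (commute_iff _ _).1 (h ⟨1, 0, 0, 0⟩)
    have h3 := (commute_iff _ _).1 (h ⟨0, 1, 0, 0⟩)
    simp at h1 h3
    exact ⟨h3.1.symm, h1.1⟩
  · rintro ⟨ha, hb⟩ g
    exact (commute_iff _ _).2 (by simp [ha, hb, h2])

theorem center_le_subAB : Subgroup.center (Syl K) ≤ subAB := by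
  intro x hx
  by_cases h2 : (2 : K) = 0
  · exact (mem_center_iff_of_two_eq h2 x).1 hx
  · exact ⟨((mem_center_iff_of_two_ne h2 x).1 hx).1, ((mem_center_iff_of_two_ne h2 x).1 hx).2.1⟩

end Syl

end Cfsg.Agent.SpFourCore
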