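import Cfsg.Agent.Lib.Fusion.Normal
import Cfsg.Agent.Lib.Fusion.EssentialShape
import Cfsg.Agent.Lib.Fusion.Alperin
import Cfsg.Agent.Lib.SpFourCore.Model

/-!
# A fusion system over the whole of a finite `p`-group

Automorphisms of the whole group, automizers of normal subgroups as permutation groups in
coordinates, and two criteria for being constrained.
-/

set_option autoImplicit false
set_option linter.unusedSectionVars false
set_option linter.style.haveILetI false

namespace Cfsg.Agent.SpFourCore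

open Cfsg Cfsg.FusionSystem Cfsg.Agent.Fusion.Basic Cfsg.Agent.Fusion.Saturation
  Cfsg.Agent.Fusion.Normal Cfsg.Agent.Fusion.Alperin Cfsg.Agent.Fusion.EssentialShape

variable {G : Type*} [Group G]

section TopAut

variable (F : FusionSystem (⊤ : Subgroup G))

/-- The automorphisms of the whole group belonging to the system. -/
def topAut : Subgroup (MulAut G) :=
  (F.autGroup ⊤).map (MulAut.congr Subgroup.topEquiv).toMonoidHom

variable {F}

theorem autFun_top (α : MulAut (⊤ : Subgroup G)) (x : G) :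
    autFun α x = MulAut.congr Subgroup.topEquiv α x := by
  rw [autFun_of_mem α (Subgroup.mem_top x)]
  rfl

theorem mem_topAut {θ : MulAut G} : θ ∈ topAut F ↔ IsMap F ⊤ θ := by
  constructor
  · rintro ⟨α, hα, rfl⟩
    exact (isMap_of_mem_autGroup le_rfl hα).congr fun x _ => autFun_top α x
  · intro h
    refine ⟨(MulAut.congr Subgroup.topEquiv).symm θ, ?_, MulEquiv.apply_symm_apply _ θ⟩
    refine (mem_autGroup_iff le_rfl).2 (h.congr fun x _ => ?_)
    rw [autFun_top, MulEquiv.apply_symm_apply]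

theorem conj_mem_topAut (g : G) : MulAut.conj g ∈ topAut F :=
  mem_topAut.2 ((isMap_cj le_rfl (Subgroup.mem_top g)).congr fun _ _ => rfl)

end TopAut

variable [Finite G] {p : ℕ} [Fact p.Prime] {F : FusionSystem (⊤ : Subgroup G)}

/-- A map of the whole group into itself is an automorphism of the system. -/
theorem exists_topAut {f : G → G} (hf : IsMap F ⊤ f) : ∃ θ ∈ topAut F, ∀ x, θ x = f x := by
  have himg : img f ⊤ = ⊤ := eq_of_le_card le_top hf.card_img.ge
  obtain ⟨α, hα, hαf⟩ := hf.exists_aut himg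
  refine ⟨_, ⟨α, hα, rfl⟩, fun x => ?_⟩
  rw [← hαf x (Subgroup.mem_top x), autFun_top]
  rfl

theorem topAut_isMap_restrict {θ : MulAut G} (hθ : θ ∈ topAut F) (P : Subgroup G) : IsMap F P θ :=
  (mem_topAut.1 hθ).restrict le_top

/-- An automorphism of the system preserving `P` restricts to the automizer of `P`. -/
theorem exists_restrict {θ : MulAut G} (hθ : θ ∈ topAut F) {P : Subgroup G}
    (hP : ∀ x ∈ P, θ x ∈ P) : ∃ α ∈ F.autGroup P, ∀ x ∈ P, autFun α x = θ x := by
  have h := topAut_isMap_restrict hθ P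
  exact h.exists_aut (eq_of_le_card (img_le hP) h.card_img.ge)

/-- A normal subgroup of the system is invariant under the automorphisms of the system. -/
theorem normal_topAut {Q : Subgroup G} (hQ : F.IsNormal Q) {θ : MulAut G} (hθ : θ ∈ topAut F)
    {x : G} (hx : x ∈ Q) : θ x ∈ Q := by
  have h := normal_img_eq hQ (mem_topAut.1 hθ) le_top
  exact h ▸ mem_img_self _ hx

theorem topAut_inner_of_pow (hG : IsPGroup p G) (hF : F.IsSaturated p) {θ : MulAut G}
    (hθ : θ ∈ topAut F) {k : ℕ} (hk : θ ^ p ^ k = 1) : ∃ g, θ = MulAut.conj g := by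
  classical
  have hS := hG.to_subgroup (⊤ : Subgroup G)
  obtain ⟨α, hα, rfl⟩ := hθ
  have hn : F.IsFullyNormalized (⊤ : Subgroup G) :=
    ⟨le_rfl, fun Q hQ => le_of_eq (by rw [eq_top_of_card le_rfl hQ rfl])⟩
  obtain ⟨R, hR⟩ := (fullyNormalized_fullyAutomized hS hF hn).2
  let a : F.autGroup (⊤ : Subgroup G) := ⟨α, hα⟩
  have hak : a ^ p ^ k = 1 := Subtype.ext ((MulAut.congr Subgroup.topEquiv).injective (by
    rw [SubgroupClass.coe_pow, map_pow]
    exact hk.trans (map_one _).symm))
  have hAp : IsPGroup p (Subgroup.zpowers a) := by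
    obtain ⟨i, -, hi⟩ := (Nat.dvd_prime_pow (Fact.out : p.Prime)).1 (orderOf_dvd_of_pow_eq_one hak)
    exact IsPGroup.of_card (n := i) (by rw [Nat.card_zpowers, hi])
  obtain ⟨c, hc⟩ := exists_conj_le_sylow R hAp
  have hRI : (R : Subgroup (F.autGroup (⊤ : Subgroup G))) =
      (Inn (⊤ : Subgroup G)).subgroupOf (F.autGroup ⊤) := by
    rw [hR]
    congr 1
    refine le_antisymm (fun β hβ => ?_) (inn_le_autInducedBy le_rfl)
    obtain ⟨g, hg, he⟩ := mem_autInducedBy_iff'.1 hβ
    exact mem_inn_iff.2 ⟨g, hg.1, he⟩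
  have hca := hc a (Subgroup.mem_zpowers a)
  rw [hRI] at hca
  have h1 := (inn_normal F (⊤ : Subgroup G)).conj_mem _ hca c⁻¹
  rw [show c⁻¹ * (c * a * c⁻¹) * c⁻¹⁻¹ = a by group, Subgroup.mem_subgroupOf] at h1
  obtain ⟨g, -, hg⟩ := mem_inn_iff.1 h1
  exact ⟨g, MulEquiv.ext fun x => by
    show MulAut.congr Subgroup.topEquiv α x = _
    rw [← autFun_top, hg x (Subgroup.mem_top x)]
    rfl⟩

theorem essential_ne_top (hG : IsPGroup p G) (hF : F.IsSaturated p) {E : Subgroup G}
    (hE : F.IsEssential p E) : E ≠ ⊤ :=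
  (essential_lt (hG.to_subgroup ⊤) hF hE).ne

theorem centralizer_le_essential {E : Subgroup G} (hE : F.IsEssential p E) {g : G}
    (hg : ∀ x ∈ E, x * g = g * x) : g ∈ E :=
  centric_centralizerIn_le hE.1 ⟨Subgroup.mem_top g, Subgroup.mem_centralizer_iff.2 hg⟩

theorem center_le_essential {E : Subgroup G} (hE : F.IsEssential p E) :
    Subgroup.center G ≤ E := fun g hg =>
  centralizer_le_essential hE fun x _ => Subgroup.mem_center_iff.1 hg x

theorem autGroup_mem {E : Subgroup G} {α : MulAut E} {x : G} (hx : x ∈ E) : autFun α x ∈ E :=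
  autFun_mem α hx

/-- An element stabilizing an invariant chain of an essential subgroup lies in it. -/
theorem mem_of_stabilizes (hG : IsPGroup p G) {E : Subgroup G}
    (hE : F.IsEssential p E) {g : G} (hg : g ∈ Subgroup.normalizer (E : Set G))
    (A B : Subgroup G) (hAB : A ≤ B)
    (hA : ∀ α ∈ F.autGroup E, ∀ x ∈ A ⊓ E, autFun α x ∈ A)
    (hB : ∀ α ∈ F.autGroup E, ∀ x ∈ B ⊓ E, autFun α x ∈ B)
    (h1 : ∀ x ∈ A ⊓ E, g * x * g⁻¹ = x)
    (h2 : ∀ x ∈ B ⊓ E, x⁻¹ * (g * x * g⁻¹) ∈ A)
    (h3 : ∀ x ∈ E, x⁻¹ * (g * x * g⁻¹) ∈ B) : g ∈ E := by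
  have hS := hG.to_subgroup (⊤ : Subgroup G)
  have hgN : g ∈ normalizerIn (⊤ : Subgroup G) E := ⟨Subgroup.mem_top g, hg⟩
  refine le_of_le_pCore hE.1 (essential_radical hE hS) hgN ?_
  let C : ℕ → Subgroup E := fun i => if i = 0 then ⊥ else if i = 1 then A.subgroupOf E
    else if i = 2 then B.subgroupOf E else ⊤
  refine mem_pCore_of_stabilizes (hS.to_le le_top) (F.autGroup E) C 3 (by simp [C]) (by simp [C])
    (fun i hi => ?_) (fun i hi a ha x hx => ?_) fun i hi x hx => ?_
  · rcases i with _ | _ | _ | i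
    · simp [C]
    · simp only [C, Nat.reduceEqDiff, if_false, if_true]
      exact Subgroup.comap_mono hAB
    · simp [C]
    · omega
  · rcases i with _ | _ | _ | i
    · simp only [C, if_true, Subgroup.mem_bot] at hx ⊢
      rw [hx, map_one]
    · simp only [C, Nat.reduceEqDiff, if_false, if_true, Subgroup.mem_subgroupOf] at hx ⊢
      rw [← autFun_apply]
      exact hA a ha _ ⟨hx, x.2⟩
    · simp only [C, Nat.reduceEqDiff, if_false, if_true, Subgroup.mem_subgroupOf] at hx ⊢
      rw [← autFun_apply]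
      exact hB a ha _ ⟨hx, x.2⟩
    · simp [C]
  · have hval : ((conjAut (⊤ : Subgroup G) E ⟨g, hgN⟩ x : E) : G) = g * x * g⁻¹ := rfl
    rcases i with _ | _ | _ | i
    · simp only [C, zero_add, Nat.reduceEqDiff, if_false, if_true, Subgroup.mem_subgroupOf] at hx
      simp only [C, if_true, Subgroup.mem_bot]
      refine Subtype.ext ?_
      show (x : G)⁻¹ * ((conjAut (⊤ : Subgroup G) E ⟨g, hgN⟩ x : E) : G) = 1
      rw [hval, h1 _ ⟨hx, x.2⟩, inv_mul_cancel]
    · simp only [C, Nat.reduceAdd, Nat.reduceEqDiff, if_false, if_true,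
        Subgroup.mem_subgroupOf] at hx ⊢
      show (x : G)⁻¹ * ((conjAut (⊤ : Subgroup G) E ⟨g, hgN⟩ x : E) : G) ∈ A
      rw [hval]
      exact h2 _ ⟨hx, x.2⟩
    · simp only [C, Nat.reduceEqDiff, if_false, if_true, Subgroup.mem_subgroupOf]
      show (x : G)⁻¹ * ((conjAut (⊤ : Subgroup G) E ⟨g, hgN⟩ x : E) : G) ∈ B
      rw [hval]
      exact h3 _ x.2
    · omega

/-- A normal subgroup with abelian centralizer makes the system constrained. -/
theorem constrained_of_abelian (hG : IsPGroup p G) (hF : F.IsSaturated p) {Q : Subgroup G}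
    (hQ : F.IsNormal Q)
    (hab : ∀ x y : G, (∀ q ∈ Q, q * x = x * q) → (∀ q ∈ Q, q * y = y * q) → x * y = y * x) :
    F.IsConstrained p := by
  have hS := hG.to_subgroup (⊤ : Subgroup G)
  set C := centralizerIn (⊤ : Subgroup G) Q with hC
  have hmem : ∀ {x}, x ∈ C ↔ ∀ q ∈ Q, q * x = x * q := fun {x} =>
    ⟨fun h => Subgroup.mem_centralizer_iff.1 h.2,
      fun h => ⟨Subgroup.mem_top x, Subgroup.mem_centralizer_iff.2 h⟩⟩
  have hCn : ∀ g : G, ∀ x ∈ C, g * x * g⁻¹ ∈ C := fun g x hx => hmem.2 fun q hq => by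
    have hq' : g⁻¹ * q * g ∈ Q := by
      have := (Subgroup.mem_normalizer_iff.1 (le_normalizer_of_stronglyClosed
        (normal_stronglyClosed hQ) (Subgroup.mem_top g⁻¹)) q).1 hq
      rwa [inv_inv] at this
    calc q * (g * x * g⁻¹) = g * ((g⁻¹ * q * g) * x) * g⁻¹ := by group
      _ = g * (x * (g⁻¹ * q * g)) * g⁻¹ := by rw [hmem.1 hx _ hq']
      _ = g * x * g⁻¹ * q := by group
  have hCinv : ∀ P : Subgroup G, (P = ⊤ ∨ F.IsEssential p P) →
      ∀ α ∈ F.autGroup P, ∀ x ∈ C ⊓ P, autFun α x ∈ C := by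
    intro P hP α hα x hx
    obtain ⟨hQP, hQinv⟩ := normal_invariant hS hQ hP
    have hm := isMap_of_mem_autGroup (le_top : P ≤ ⊤) hα
    refine hmem.2 fun q hq => ?_
    rw [← hQinv α hα] at hq
    rw [← SetLike.mem_coe, coe_img_of_hom (hm.isHom.mono hQP)] at hq
    obtain ⟨q, hq, rfl⟩ := hq
    rw [← hm.map_mul (hQP hq) hx.2, ← hm.map_mul hx.2 (hQP hq), hmem.1 hx.1 q hq]
  have hCnorm : F.IsNormal C := by
    refine normal_of_invariant hS hF fun P hP => ?_
    have hCP : C ≤ P := by
      rcases hP with rfl | hP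
      · exact le_top
      refine le_of_normalizer_inf_le hS le_top le_top
        (fun g _ => mem_normalizer_of_forall (hCn g)) fun g hg hgN => ?_
      refine mem_of_stabilizes hG hP hgN C C le_rfl
        (fun α hα => hCinv P (Or.inr hP) α hα) (fun α hα => hCinv P (Or.inr hP) α hα)
        (fun x hx => ?_) (fun x hx => ?_) fun x hx => ?_
      · rw [hab g x (hmem.1 hg) (hmem.1 hx.1), mul_inv_cancel_right]
      · rw [hab g x (hmem.1 hg) (hmem.1 hx.1), mul_inv_cancel_right, inv_mul_cancel]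
        exact one_mem C
      · have h1 := C.mul_mem (hCn x⁻¹ g hg) (C.inv_mem hg)
        rw [inv_inv] at h1
        rwa [show x⁻¹ * (g * x * g⁻¹) = x⁻¹ * g * x * g⁻¹ by group]
    refine ⟨hCP, fun α hα => ?_⟩
    have hm := isMap_of_mem_autGroup (le_top : P ≤ ⊤) hα
    exact eq_of_le_card (img_le fun x hx => hCinv P hP α hα x ⟨hx, hCP hx⟩)
      ((hm.restrict hCP).card_img).ge
  refine ⟨hF, C ⊔ Q, isNormal_sup hCnorm hQ, le_top, fun R hR => ?_⟩
  obtain ⟨f, hf, rfl⟩ := isConj_iff_map.1 hR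
  rw [normal_img_eq (isNormal_sup hCnorm hQ) hf le_rfl]
  exact fun x hx => Subgroup.mem_sup_left (hmem.2 fun q hq =>
    Subgroup.mem_centralizer_iff.1 hx.2 q (Subgroup.mem_sup_right hq))

/-- Only one essential subgroup, invariant under the automorphisms of the system. -/
theorem constrained_of_single (hG : IsPGroup p G) (hF : F.IsSaturated p) (E₀ : Subgroup G)
    (honly : ∀ E, F.IsEssential p E → E = E₀)
    (hinv : F.IsEssential p E₀ → ∀ θ ∈ topAut F, ∀ x ∈ E₀, θ x ∈ E₀) : F.IsConstrained p := by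
  have hS := hG.to_subgroup (⊤ : Subgroup G)
  by_cases hex : ∃ E, F.IsEssential p E
  · obtain ⟨E, hE⟩ := hex
    obtain rfl := honly E hE
    refine ⟨hF, E, normal_of_invariant hS hF fun P hP => ?_, hE.1⟩
    rcases hP with rfl | hP
    · refine ⟨le_top, fun α hα => ?_⟩
      have hm := isMap_of_mem_autGroup le_rfl hα
      refine eq_of_le_card (img_le fun x hx => ?_) ((hm.restrict le_top).card_img).ge
      rw [autFun_top]
      exact hinv hE _ ⟨α, hα, rfl⟩ x hx
    · obtain rfl := honly P hP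
      exact ⟨le_rfl, fun α _ => autFun_img α⟩
  · refine ⟨hF, ⊤, normal_of_invariant hS hF fun P hP => ?_, le_rfl, fun R hR => ?_⟩
    · obtain rfl : P = ⊤ := hP.resolve_right fun h => hex ⟨P, h⟩
      exact ⟨le_rfl, fun α _ => autFun_img α⟩
    · rw [eq_top_of_card le_rfl hR rfl]
      exact inf_le_left

section Perm

variable {V : Type*} {P : Subgroup G}

/-- An automorphism of a subgroup in coordinates. -/
def autPerm (e : P ≃ V) : MulAut P →* Equiv.Perm V where
  toFun α := e.symm.trans (α.toEquiv.trans e)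
  map_one' := Equiv.ext fun v => e.apply_symm_apply v
  map_mul' α β := Equiv.ext fun v => by simp [Equiv.Perm.mul_apply]

@[simp] theorem autPerm_apply (e : P ≃ V) (α : MulAut P) (v : V) :
    autPerm e α v = e (α (e.symm v)) := rfl

theorem autPerm_injective (e : P ≃ V) : Function.Injective (autPerm e) := fun α β h =>
  MulEquiv.ext fun x => e.injective (by simpa using Equiv.congr_fun h (e x))

/-- The automizer in coordinates. -/
def autImage (F : FusionSystem (⊤ : Subgroup G)) (e : P ≃ V) : Subgroup (Equiv.Perm V) :=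
  (F.autGroup P).map (autPerm e)

theorem autImage_map_add [Add V] (e : P ≃ V) (he : ∀ x y, e (x * y) = e x + e y)
    (x : autImage F e) (v w : V) :
    (x : Equiv.Perm V) (v + w) = (x : Equiv.Perm V) v + (x : Equiv.Perm V) w := by
  obtain ⟨α, -, hα⟩ := x.2
  rw [← hα]
  simp only [autPerm_apply]
  rw [← he, ← map_mul]
  congr 2
  exact e.injective (by rw [he]; simp)

variable [P.Normal]

theorem autFun_conjNormal (g : G) {x : G} (hx : x ∈ P) :
    autFun (MulAut.conjNormal g : MulAut P) x = g * x * g⁻¹ := by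
  rw [autFun_of_mem _ hx]
  exact MulAut.conjNormal_apply g ⟨x, hx⟩

theorem conjNormal_mem (F : FusionSystem (⊤ : Subgroup G)) (g : G) :
    (MulAut.conjNormal g : MulAut P) ∈ F.autGroup P :=
  (mem_autGroup_iff le_top).2 ((isMap_cj le_top (Subgroup.mem_top g)).congr fun x hx =>
    (autFun_conjNormal g hx).symm)

theorem autInducedBy_top : autInducedBy (⊤ : Subgroup G) P =
    (MulAut.conjNormal : G →* MulAut P).range := by
  ext α
  rw [mem_autInducedBy_iff']
  constructor
  · rintro ⟨g, -, h⟩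
    exact ⟨g, autFun_ext fun x hx => by rw [autFun_conjNormal g hx, h x hx]; rfl⟩
  · rintro ⟨g, rfl⟩
    exact ⟨g, ⟨Subgroup.mem_top g, mem_normalizer_of_forall fun x hx =>
      Subgroup.Normal.conj_mem inferInstance x hx g⟩, fun x hx => autFun_conjNormal g hx⟩

theorem fullyNormalized_of_normal (F : FusionSystem (⊤ : Subgroup G)) :
    F.IsFullyNormalized P := by
  refine ⟨le_top, fun Q _ => card_le_card fun g _ => ⟨Subgroup.mem_top g, ?_⟩⟩
  exact mem_normalizer_of_forall fun x hx => Subgroup.Normal.conj_mem inferInstance x hx g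

theorem conj_mem_autImage (e : P ≃ V) (g : G) : autPerm e (MulAut.conjNormal g) ∈ autImage F e :=
  ⟨_, conjNormal_mem F g, rfl⟩

/-- The conjugations form a Sylow subgroup of the automizer. -/
theorem exists_sylow_autImage (hG : IsPGroup p G) (hF : F.IsSaturated p) (e : P ≃ V) :
    ∃ U : Sylow p (autImage F e), ∀ x : autImage F e,
      x ∈ U ↔ ∃ g, (x : Equiv.Perm V) = autPerm e (MulAut.conjNormal g) := by
  obtain ⟨-, R, hR⟩ := fullyNormalized_fullyAutomized (hG.to_subgroup ⊤) hF
    (fullyNormalized_of_normal (P := P) F)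
  refine ⟨R.mapSurjective ((autPerm e).subgroupMap_surjective (F.autGroup P)), fun x => ?_⟩
  show x ∈ (R.mapSurjective ((autPerm e).subgroupMap_surjective (F.autGroup P))).toSubgroup ↔ _
  rw [Sylow.coe_mapSurjective]
  constructor
  · rintro ⟨a, ha, rfl⟩
    rw [SetLike.mem_coe, hR, Subgroup.mem_subgroupOf, autInducedBy_top] at ha
    obtain ⟨g, hg⟩ := ha
    exact ⟨g, by rw [hg]; rfl⟩
  · rintro ⟨g, hg⟩
    refine ⟨⟨_, conjNormal_mem F g⟩, ?_, Subtype.ext hg.symm⟩
    rw [SetLike.mem_coe, hR, Subgroup.mem_subgroupOf, autInducedBy_top]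
    exact ⟨g, rfl⟩

/-- For an essential subgroup this Sylow subgroup is not normal. -/
theorem not_normal_autImage (hG : IsPGroup p G) (hF : F.IsSaturated p) (e : P ≃ V)
    (hE : F.IsEssential p P) {U : Sylow p (autImage F e)}
    (hU : ∀ x : autImage F e,
      x ∈ U ↔ ∃ g, (x : Equiv.Perm V) = autPerm e (MulAut.conjNormal g)) :
    ¬ (U : Subgroup (autImage F e)).Normal := by
  intro hn
  refine essential_ne_top hG hF hE (Subgroup.eq_top_iff' _ |>.2 fun g => ?_)
  have hS := hG.to_subgroup (⊤ : Subgroup G)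
  let K : Subgroup (F.autGroup P) :=
    (U : Subgroup (autImage F e)).comap ((autPerm e).subgroupMap (F.autGroup P))
  have hK : K.Normal := hn.comap _
  have hKp : IsPGroup p K := U.2.comap_of_injective _ fun a b h =>
    Subtype.ext (autPerm_injective e (congrArg Subtype.val h))
  have hle : K ≤ pCore p (F.autGroup P) :=
    le_sSup (show K ∈ {N : Subgroup (F.autGroup P) | N.Normal ∧ IsPGroup p N} from ⟨hK, hKp⟩)
  have hgN : g ∈ normalizerIn (⊤ : Subgroup G) P :=
    ⟨Subgroup.mem_top g, mem_normalizer_of_forall fun x hx =>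
      Subgroup.Normal.conj_mem inferInstance x hx g⟩
  refine le_of_le_pCore hE.1 (essential_radical hE hS) hgN (hle ((hU _).2 ⟨g, ?_⟩))
  show autPerm e (conjAut (⊤ : Subgroup G) P ⟨g, hgN⟩) = _
  congr 1

/-- An element normalizing the Sylow subgroup extends to an automorphism of the system. -/
theorem exists_topAut_of_normalizes (hG : IsPGroup p G) (hF : F.IsSaturated p) (e : P ≃ V)
    {U : Sylow p (autImage F e)}
    (hU : ∀ x : autImage F e,
      x ∈ U ↔ ∃ g, (x : Equiv.Perm V) = autPerm e (MulAut.conjNormal g))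
    {x : autImage F e} (hx : x ∈ Subgroup.normalizer ((U : Subgroup (autImage F e)) : Set _)) :
    ∃ θ ∈ topAut F, ∀ v, θ (e.symm v : G) = e.symm ((x : Equiv.Perm V) v) := by
  have hS := hG.to_subgroup (⊤ : Subgroup G)
  obtain ⟨α, hα, hαx⟩ := x.2
  have hm := isMap_of_mem_autGroup (le_top : P ≤ ⊤) hα
  obtain ⟨θ, hθ, hθe⟩ := exists_extension hS hF hm
    (by rw [autFun_img]
        exact fullyNormalized_fullyCentralized hS hF (fullyNormalized_of_normal F))
  have htop : nSub (⊤ : Subgroup G) P (autFun α) = ⊤ := by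
    refine Subgroup.eq_top_iff' _ |>.2 fun g => mem_nSub.2 ⟨Subgroup.mem_top g,
      mem_normalizer_of_forall fun y hy => Subgroup.Normal.conj_mem inferInstance y hy g, ?_⟩
    let u : autImage F e := ⟨_, conj_mem_autImage e g⟩
    obtain ⟨h, hh⟩ := (hU _).1 ((Subgroup.mem_normalizer_iff.1 hx u).1 ((hU u).2 ⟨g, rfl⟩))
    refine ⟨h, Subgroup.mem_top h, fun y hy => ?_⟩
    have h1 : α * MulAut.conjNormal g * α⁻¹ = MulAut.conjNormal h := autPerm_injective e (by
      rw [map_mul, map_mul, map_inv, hαx, ← hh]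
      rfl)
    rw [← autFun_conjNormal g hy, ← autFun_conjNormal h (autFun_mem α hy), ← h1, autFun_mul,
      autFun_mul, autFun_inv_apply]
  rw [htop] at hθ
  obtain ⟨θ', hθ', hθ''⟩ := exists_topAut hθ
  refine ⟨θ', hθ', fun v => ?_⟩
  rw [hθ'', hθe _ (SetLike.coe_mem _), autFun_apply, ← hαx]
  simp

end Perm

namespace Syl

variable {K : Type*} [Field K] [Finite K]

theorem isPGroup {p : ℕ} [Fact p.Prime] [CharP K p] : IsPGroup p (Syl K) := by
  have : Fintype K := Fintype.ofFinite K
  obtain ⟨n, -, hn⟩ := FiniteField.card K p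
  exact IsPGroup.of_card (n := (n : ℕ) * 4) (by rw [natCard, Nat.card_eq_fintype_card, hn, pow_mul])

end Syl

end Cfsg.Agent.SpFourCore
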