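import Cfsg.Agent.Lib.SpFourCore.Spread

/-!
# The automizer of a maximal elementary abelian subgroup in characteristic two

`X` acts additively on `K³`, its Sylow subgroup consists of the maps `(b, c + a b, d + a² b)`, it is
not normal, and `X` leaves a nonzero subgroup `Q` of the centre `b = 0` invariant.  Then the centre
meets each of its other conjugates in one and the same axis; if it is the axis of `d` the torus
forces `k³ = 1`.
-/

set_option autoImplicit false
set_option linter.unusedSectionVars false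
set_option linter.style.haveILetI false

namespace Cfsg.Agent.SpFourCore.EvenLin

variable {K : Type*} [Field K]

/-- The root group on the module. -/
def shift (a : K) : Equiv.Perm (K × K × K) where
  toFun v := (v.1, v.2.1 + a * v.1, v.2.2 + a ^ 2 * v.1)
  invFun v := (v.1, v.2.1 - a * v.1, v.2.2 - a ^ 2 * v.1)
  left_inv v := by simp
  right_inv v := by simp

@[simp] theorem shift_apply (a : K) (v : K × K × K) :
    shift a v = (v.1, v.2.1 + a * v.1, v.2.2 + a ^ 2 * v.1) := rfl

variable (K) in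
/-- The centre. -/
def centre : AddSubgroup (K × K × K) := (AddMonoidHom.fst K (K × K)).ker

variable (K) in
/-- The axis of the short root. -/
def cAxis : AddSubgroup (K × K × K) where
  carrier := {v | v.1 = 0 ∧ v.2.2 = 0}
  zero_mem' := ⟨rfl, rfl⟩
  add_mem' {v w} hv hw := ⟨show v.1 + w.1 = 0 by rw [hv.1, hw.1, add_zero],
    show v.2.2 + w.2.2 = 0 by rw [hv.2, hw.2, add_zero]⟩
  neg_mem' {v} hv := ⟨show -v.1 = 0 by rw [hv.1, neg_zero], show -v.2.2 = 0 by rw [hv.2, neg_zero]⟩

variable (K) in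
/-- The axis of the long root. -/
def dAxis : AddSubgroup (K × K × K) where
  carrier := {v | v.1 = 0 ∧ v.2.1 = 0}
  zero_mem' := ⟨rfl, rfl⟩
  add_mem' {v w} hv hw := ⟨show v.1 + w.1 = 0 by rw [hv.1, hw.1, add_zero],
    show v.2.1 + w.2.1 = 0 by rw [hv.2, hw.2, add_zero]⟩
  neg_mem' {v} hv := ⟨show -v.1 = 0 by rw [hv.1, neg_zero], show -v.2.1 = 0 by rw [hv.2, neg_zero]⟩

theorem mem_centre {v : K × K × K} : v ∈ centre K ↔ v.1 = 0 := Iff.rfl
theorem mem_cAxis {v : K × K × K} : v ∈ cAxis K ↔ v.1 = 0 ∧ v.2.2 = 0 := Iff.rfl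
theorem mem_dAxis {v : K × K × K} : v ∈ dAxis K ↔ v.1 = 0 ∧ v.2.1 = 0 := Iff.rfl

theorem natCard_cAxis : Nat.card (cAxis K) = Nat.card K := Nat.card_congr
  { toFun := fun v => v.1.2.1
    invFun := fun c => ⟨(0, c, 0), rfl, rfl⟩
    left_inv := fun v => Subtype.ext (by ext <;> simp [(mem_cAxis.1 v.2).1, (mem_cAxis.1 v.2).2])
    right_inv := fun _ => rfl }

theorem natCard_dAxis : Nat.card (dAxis K) = Nat.card K := Nat.card_congr
  { toFun := fun v => v.1.2.2
    invFun := fun c => ⟨(0, 0, c), rfl, rfl⟩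
    left_inv := fun v => Subtype.ext (by ext <;> simp [(mem_dAxis.1 v.2).1, (mem_dAxis.1 v.2).2])
    right_inv := fun _ => rfl }

theorem natCard_centre : Nat.card (centre K) = Nat.card K * Nat.card K := by
  rw [← Nat.card_prod]
  exact Nat.card_congr
    { toFun := fun v => v.1.2
      invFun := fun c => ⟨(0, c), rfl⟩
      left_inv := fun v => Subtype.ext (Prod.ext (mem_centre.1 v.2).symm rfl)
      right_inv := fun _ => rfl }

variable {X : Subgroup (Equiv.Perm (K × K × K))}

/-- The hypotheses. -/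
structure Setup (X : Subgroup (Equiv.Perm (K × K × K))) (U : Sylow 2 X) : Prop where
  map_add : ∀ g : X, ∀ v w : K × K × K, (g : Equiv.Perm (K × K × K)) (v + w) =
    (g : Equiv.Perm (K × K × K)) v + (g : Equiv.Perm (K × K × K)) w
  mem_iff : ∀ g : X, g ∈ U ↔ ∃ a, (g : Equiv.Perm (K × K × K)) = shift a
  shift_mem : ∀ a, shift a ∈ X

variable [CharP K 2] {U : Sylow 2 X}

/-- An element as an additive map. -/
def Setup.hom (h : Setup X U) (g : X) : K × K × K →+ K × K × K :=
  AddMonoidHom.mk' (g : Equiv.Perm (K × K × K)) (h.map_add g)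

/-- The image of the centre. -/
def Setup.line (h : Setup X U) (g : X) : AddSubgroup (K × K × K) := (centre K).map (h.hom g)

section

variable (h : Setup X U)
include h

theorem Setup.hom_mul (g k : X) : h.hom (g * k) = (h.hom g).comp (h.hom k) :=
  AddMonoidHom.ext fun _ => rfl

theorem Setup.hom_inv (g : X) (v : K × K × K) : h.hom g⁻¹ (h.hom g v) = v :=
  (g : Equiv.Perm (K × K × K)).symm_apply_apply v

theorem Setup.hom_inv' (g : X) (v : K × K × K) : h.hom g (h.hom g⁻¹ v) = v :=
  (g : Equiv.Perm (K × K × K)).apply_symm_apply v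

theorem Setup.hom_injective (g : X) : Function.Injective (h.hom g) :=
  (g : Equiv.Perm (K × K × K)).injective

theorem Setup.line_one : h.line 1 = centre K := by
  rw [Setup.line, show h.hom 1 = AddMonoidHom.id _ from AddMonoidHom.ext fun _ => rfl,
    AddSubgroup.map_id]

theorem Setup.line_mul (g k : X) : h.line (g * k) = (h.line k).map (h.hom g) := by
  rw [Setup.line, h.hom_mul, ← AddSubgroup.map_map]; rfl

theorem Setup.natCard_line (g : X) : Nat.card (h.line g) = Nat.card K * Nat.card K := by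
  rw [Setup.line, AddSubgroup.card_map_of_injective (h.hom_injective g), natCard_centre]

theorem Setup.shift_series {u : X} (hu : u ∈ U) :
    (∀ v ∈ centre K, h.hom u v = v) ∧ ∀ v, (h.hom u v).1 = v.1 := by
  obtain ⟨a, ha⟩ := (h.mem_iff u).1 hu
  refine ⟨fun v hv => ?_, fun v => ?_⟩
  · show (u : Equiv.Perm (K × K × K)) v = v
    rw [ha]
    ext <;> simp [mem_centre.1 hv]
  · show ((u : Equiv.Perm (K × K × K)) v).1 = v.1
    rw [ha]; rfl

theorem Setup.mem_of_series {g : X} (hZ : ∀ v ∈ centre K, h.hom g v = v)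
    (hq : ∀ v, (h.hom g v).1 = v.1) : g ∈ U := by
  let A : Subgroup X :=
    { carrier := {g | (∀ v ∈ centre K, h.hom g v = v) ∧ ∀ v, (h.hom g v).1 = v.1}
      one_mem' := ⟨fun _ _ => rfl, fun _ => rfl⟩
      mul_mem' := fun {a b} ha hb => ⟨fun v hv => by
          show h.hom a (h.hom b v) = v
          rw [hb.1 v hv, ha.1 v hv], fun v => by
          show (h.hom a (h.hom b v)).1 = v.1
          rw [ha.2, hb.2]⟩
      inv_mem' := fun {a} ha => by
        refine ⟨fun v hv => ?_, fun v => ?_⟩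
        · conv_lhs => rw [← ha.1 v hv]
          exact h.hom_inv a v
        · conv_rhs => rw [← h.hom_inv' a v]
          exact (ha.2 _).symm }
  have hA : IsPGroup 2 A := by
    rintro ⟨a, ha1, ha2⟩
    refine ⟨1, Subtype.ext (Subtype.ext (Equiv.ext fun v => ?_))⟩
    have e : h.hom a (h.hom a v) = v := by
      have hd : h.hom a (h.hom a v - v) = h.hom a v - v :=
        ha1 _ (by rw [mem_centre, Prod.fst_sub, ha2, sub_self])
      have hz : ∀ w : K × K × K, w + w = 0 := fun w => by
        ext <;> exact CharTwo.add_self_eq_zero _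
      calc h.hom a (h.hom a v) = h.hom a ((h.hom a v - v) + v) := by rw [sub_add_cancel]
        _ = h.hom a v - v + h.hom a v := by rw [_root_.map_add, hd]
        _ = (h.hom a v + h.hom a v) - v := by abel
        _ = v := by rw [hz, zero_sub, neg_eq_of_add_eq_zero_left (hz v)]
    show ((a : Equiv.Perm (K × K × K)) ^ (2 ^ 1)) v = v
    rw [pow_one, pow_two]
    exact e
  have := U.3 hA (fun u hu => h.shift_series hu)
  exact SetLike.le_def.1 this.le (show g ∈ A from ⟨hZ, hq⟩)

theorem Setup.mem_normalizer [Finite K] {g : X} (hg : h.line g = centre K) :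
    g ∈ Subgroup.normalizer ((U : Subgroup X) : Set X) := by
  refine Subgroup.mem_normalizer_fintype fun u hu => ?_
  obtain ⟨h1, h2⟩ := h.shift_series hu
  have hin : ∀ v ∈ centre K, h.hom g v ∈ centre K := fun v hv => hg ▸ AddSubgroup.mem_map_of_mem _ hv
  have hout : ∀ v ∈ centre K, h.hom g⁻¹ v ∈ centre K := fun v hv => by
    rw [← hg] at hv
    obtain ⟨w, hw, rfl⟩ := hv
    rwa [h.hom_inv]
  refine h.mem_of_series (fun v hv => ?_) fun v => ?_
  · show h.hom g (h.hom u (h.hom g⁻¹ v)) = v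
    rw [h1 _ (hout v hv), h.hom_inv']
  · show (h.hom g (h.hom u (h.hom g⁻¹ v))).1 = v.1
    have hd : h.hom u (h.hom g⁻¹ v) - h.hom g⁻¹ v ∈ centre K := by
      rw [mem_centre, Prod.fst_sub, h2, sub_self]
    have := mem_centre.1 (hin _ hd)
    rwa [map_sub, h.hom_inv', Prod.fst_sub, sub_eq_zero] at this

theorem Setup.exists_move [Finite K] (hn : ¬ (U : Subgroup X).Normal) :
    ∃ g : X, h.line g ≠ centre K := by
  by_contra hc
  push Not at hc
  exact hn ⟨fun u hu g => (Subgroup.mem_normalizer_iff.1 (h.mem_normalizer (hc g)) u).1 hu⟩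

theorem Setup.fix_of_line [Finite K] {g u : X} (hu : u ∈ U) (hl : h.line (u * g) = h.line g) :
    ∀ v ∈ h.line g, h.hom u v = v := by
  have hn : g⁻¹ * u * g ∈ Subgroup.normalizer ((U : Subgroup X) : Set X) :=
    h.mem_normalizer (by rw [mul_assoc, h.line_mul, hl, ← h.line_mul, inv_mul_cancel, h.line_one])
  have h2 : g⁻¹ * u * g ∈ U := by
    have hpu : IsPGroup 2 (Subgroup.zpowers u) := U.2.to_le (Subgroup.zpowers_le.2 hu)
    have hp : IsPGroup 2 (Subgroup.zpowers (g⁻¹ * u * g)) := by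
      have := hpu.map (MulAut.conj g⁻¹).toMonoidHom
      rwa [MonoidHom.map_zpowers, show (MulAut.conj g⁻¹).toMonoidHom u = g⁻¹ * u * g by simp] at this
    have := hp.to_sup_of_normal_right' U.2 (Subgroup.zpowers_le.2 hn)
    exact SetLike.le_def.1 (U.3 this le_sup_right).le
      (Subgroup.mem_sup_left (Subgroup.mem_zpowers _))
  rintro _ ⟨w, hw, rfl⟩
  have h3 := (h.shift_series h2).1 w hw
  rw [h.hom_mul, h.hom_mul] at h3
  have h4 := congrArg (h.hom g) h3
  simp only [AddMonoidHom.comp_apply, h.hom_inv'] at h4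
  exact h4

/-- A point of a maximal intersection is not a displacement. -/
theorem Setup.not_mem_of_max [Finite K] {g : X} (hg : h.line g ≠ centre K)
    (hmax : ∀ k : X, h.line k ≠ centre K →
      Nat.card (centre K ⊓ h.line k : AddSubgroup _) ≤ Nat.card (centre K ⊓ h.line g : AddSubgroup _))
    {w : K × K × K} (hw : w ∈ h.line g) (hw0 : w.1 ≠ 0) {a : K} (ha : a ≠ 0) :
    ((0, a * w.1, a ^ 2 * w.1) : K × K × K) ∉ centre K ⊓ h.line g := by
  intro hd
  set d : K × K × K := (0, a * w.1, a ^ 2 * w.1)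
  let u : X := ⟨shift a, h.shift_mem a⟩
  have hu : u ∈ U := (h.mem_iff u).2 ⟨a, rfl⟩
  have huw : h.hom u w = w + d := by
    show shift a w = w + d
    ext <;> simp [d]
  by_cases hl : h.line (u * g) = h.line g
  · have := h.fix_of_line hu hl w hw
    rw [huw, add_eq_left] at this
    exact mul_ne_zero ha hw0 (congrArg (fun v : K × K × K => v.2.1) this)
  · have hne : h.line (g⁻¹ * u * g) ≠ centre K := fun e => hl (by
      rw [show u * g = g * (g⁻¹ * u * g) by group, h.line_mul, e]; rfl)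
    set E := h.line g ⊓ h.line (u * g)
    have hE : E.map (h.hom g⁻¹) ≤ centre K ⊓ h.line (g⁻¹ * u * g) := by
      rintro _ ⟨v, ⟨hv1, hv2⟩, rfl⟩
      refine ⟨?_, ?_⟩
      · obtain ⟨v', hv', rfl⟩ := hv1
        rwa [SetLike.mem_coe, h.hom_inv]
      · rw [show g⁻¹ * u * g = g⁻¹ * (u * g) by group, h.line_mul]
        exact AddSubgroup.mem_map_of_mem _ hv2
    have hlt : centre K ⊓ h.line g < E := by
      refine lt_of_le_of_ne (fun v hv => ⟨hv.2, ?_⟩) fun e => ?_
      · rw [h.line_mul]
        exact ⟨v, hv.2, (h.shift_series hu).1 v hv.1⟩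
      · have : w + d ∈ E := ⟨add_mem hw hd.2, by rw [h.line_mul]; exact ⟨w, hw, huw⟩⟩
        rw [← e] at this
        have h1 := mem_centre.1 this.1
        rw [Prod.fst_add, show d.1 = 0 from rfl, add_zero] at h1
        exact hw0 h1
    have h1 := Set.Finite.card_lt_card (Set.toFinite _) hlt
    have h2 := AddSubgroup.card_le_of_le hE
    rw [AddSubgroup.card_map_of_injective (h.hom_injective _)] at h2
    exact absurd (hmax _ hne) (not_le.2 (lt_of_lt_of_le h1 h2))

theorem Setup.natCard_le_inf [Finite K] (g : X) :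
    Nat.card K ≤ Nat.card (centre K ⊓ h.line g : AddSubgroup _) := by
  let f : centre K × h.line g → K × K × K := fun x => (x.1 : K × K × K) + x.2
  have hfib : ∀ y, Nat.card {x // f x = y} ≤ Nat.card (centre K ⊓ h.line g : AddSubgroup _) := by
    intro y
    rcases isEmpty_or_nonempty {x // f x = y} with he | ⟨⟨x0, hx0⟩⟩
    · simp
    refine Nat.card_le_card_of_injective (fun x => ⟨(x.1.1 : K × K × K) - x0.1, ?_, ?_⟩) ?_
    · exact (centre K).sub_mem x.1.1.2 x0.1.2
    · have e : (x.1.1 : K × K × K) - x0.1 = (x0.2 : K × K × K) - x.1.2 := by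
        have := x.2.trans hx0.symm
        simp only [f] at this
        rw [sub_eq_sub_iff_add_eq_add, this, add_comm]
      rw [e]
      exact (h.line g).sub_mem x0.2.2 x.1.2.2
    · rintro ⟨⟨x1, x2⟩, hx⟩ ⟨⟨y1, y2⟩, hy⟩ e
      have e1 : (x1 : K × K × K) = y1 := sub_left_inj.1 (congrArg Subtype.val e)
      have e2 : (x2 : K × K × K) = y2 := by
        have := hx.trans hy.symm
        simp only [f, e1] at this
        exact add_left_cancel this
      exact Subtype.ext (Prod.ext (Subtype.ext e1) (Subtype.ext e2))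
  have hsum : Nat.card (centre K × h.line g) ≤
      Nat.card (K × K × K) * Nat.card (centre K ⊓ h.line g : AddSubgroup _) := by
    classical
    haveI := Fintype.ofFinite (K × K × K)
    rw [← Nat.card_congr (Equiv.sigmaFiberEquiv f), Nat.card_sigma]
    refine (Finset.sum_le_card_nsmul _ _ _ fun y _ => hfib y).trans ?_
    rw [Nat.card_eq_fintype_card (α := K × K × K), smul_eq_mul, Finset.card_univ]
  rw [Nat.card_prod, natCard_centre, h.natCard_line, Nat.card_prod, Nat.card_prod] at hsum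
  have h3 : Nat.card K * Nat.card K * Nat.card K * Nat.card K ≤
      Nat.card K * Nat.card K * Nat.card K * Nat.card (centre K ⊓ h.line g : AddSubgroup _) := by
    calc _ = Nat.card K * Nat.card K * (Nat.card K * Nat.card K) := by ring
      _ ≤ _ := hsum
      _ = _ := by ring
  have hpos : 0 < Nat.card K := Nat.card_pos
  exact Nat.le_of_mul_le_mul_left h3 (by positivity)

/-- A maximal intersection is an axis. -/
theorem Setup.axis_of_max [Finite K] {g : X} (hg : h.line g ≠ centre K)
    (hmax : ∀ k : X, h.line k ≠ centre K →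
      Nat.card (centre K ⊓ h.line k : AddSubgroup _) ≤ Nat.card (centre K ⊓ h.line g : AddSubgroup _)) :
    centre K ⊓ h.line g = cAxis K ∨ centre K ⊓ h.line g = dAxis K := by
  set D := centre K ⊓ h.line g with hDdef
  have hqD := h.natCard_le_inf g
  rw [← hDdef] at hqD
  obtain ⟨w, hw, hw0⟩ : ∃ w ∈ h.line g, w.1 ≠ 0 := by
    by_contra hc
    push Not at hc
    exact hg (AddSubgroup.eq_of_le_of_card_ge hc (by rw [h.natCard_line, natCard_centre]))
  -- the displacements of `w`
  have hDq : Nat.card D ≤ Nat.card K := by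
    let f : D × K → centre K := fun x =>
      ⟨(x.1 : K × K × K) + (0, x.2 * w.1, x.2 ^ 2 * w.1),
        add_mem x.1.2.1 (show (0 : K) = 0 from rfl)⟩
    have hf : Function.Injective f := by
      rintro ⟨⟨x, hx⟩, a⟩ ⟨⟨y, hy⟩, b⟩ e
      have e' : x + (0, a * w.1, a ^ 2 * w.1) = y + (0, b * w.1, b ^ 2 * w.1) := congrArg Subtype.val e
      have hab : a = b := by
        by_contra hne
        refine h.not_mem_of_max hg hmax hw hw0 (sub_ne_zero.2 hne) ?_
        rw [← hDdef]
        have : ((0, (a - b) * w.1, (a - b) ^ 2 * w.1) : K × K × K) = y - x := by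
          have e1 := congrArg (fun v : K × K × K => v.1) e'
          have e2 := congrArg (fun v : K × K × K => v.2.1) e'
          have e3 := congrArg (fun v : K × K × K => v.2.2) e'
          simp at e1 e2 e3
          ext
          · simp [e1]
          · simp only [Prod.snd_sub, Prod.fst_sub]; linear_combination e2
          · simp only [Prod.snd_sub]
            linear_combination e3 + (b * b - a * b) * w.1 * CharTwo.two_eq_zero (R := K)
        rw [this]
        exact sub_mem hy hx
      subst hab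
      exact Prod.ext (Subtype.ext (add_right_cancel e')) rfl
    have := Nat.card_le_card_of_injective f hf
    rw [Nat.card_prod, natCard_centre] at this
    exact Nat.le_of_mul_le_mul_right this Nat.card_pos
  have hD : Nat.card D = Nat.card K := le_antisymm hDq hqD
  -- the first coordinate of the line is everything
  let π : h.line g →+ K := (AddMonoidHom.fst K (K × K)).comp (h.line g).subtype
  have hπ : Function.Surjective π := by
    haveI := Fintype.ofFinite K
    have hker : Nat.card π.ker = Nat.card D := Nat.card_congr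
      { toFun := fun x => ⟨x.1.1, x.2, x.1.2⟩
        invFun := fun x => ⟨⟨x.1, x.2.2⟩, x.2.1⟩
        left_inv := fun _ => rfl
        right_inv := fun _ => rfl }
    have hmul := π.ker.card_eq_card_quotient_mul_card_addSubgroup
    rw [h.natCard_line, hker, hD, Nat.card_congr (QuotientAddGroup.quotientKerEquivRange π).toEquiv] at hmul
    have hr : Nat.card π.range = Nat.card K := (Nat.eq_of_mul_eq_mul_right Nat.card_pos hmul).symm
    rw [← AddMonoidHom.range_eq_top]
    exact AddSubgroup.eq_top_of_card_eq _ hr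
  -- so no point of `D` has both coordinates nonzero
  have havoid : ∀ v ∈ D, v.2.1 = 0 ∨ v.2.2 = 0 := by
    intro v hv
    by_contra hc
    push Not at hc
    obtain ⟨⟨x, hx⟩, hx'⟩ := hπ (v.2.1 ^ 2 / v.2.2)
    have hx1 : x.1 = v.2.1 ^ 2 / v.2.2 := hx'
    refine h.not_mem_of_max hg hmax hx (by rw [hx1]; simp [hc.1, hc.2])
      (div_ne_zero hc.2 hc.1) ?_
    rw [← hDdef]
    convert hv using 1
    ext
    · exact (mem_centre.1 hv.1).symm
    · simp only [hx1]; field_simp [hc.1, hc.2]
    · simp only [hx1]; field_simp [hc.1, hc.2]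
  by_cases hc : ∀ v ∈ D, v.2.2 = 0
  · exact Or.inl (AddSubgroup.eq_of_le_of_card_ge (fun v hv => ⟨mem_centre.1 hv.1, hc v hv⟩)
      (by rw [natCard_cAxis, hD]))
  · push Not at hc
    obtain ⟨v, hv, hv2⟩ := hc
    refine Or.inr (AddSubgroup.eq_of_le_of_card_ge (fun x hx => ⟨mem_centre.1 hx.1, ?_⟩)
      (by rw [natCard_dAxis, hD]))
    by_contra hx1
    have hv1 := (havoid v hv).resolve_right hv2
    have hx2 := (havoid x hx).resolve_left hx1
    rcases havoid _ (add_mem hv hx) with e | e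
    · simp [hv1] at e; exact hx1 e
    · simp [hx2] at e; exact hv2 e

/-- **The axis.** -/
theorem Setup.exists_axis [Finite K] (hn : ¬ (U : Subgroup X).Normal)
    {Q : AddSubgroup (K × K × K)} (hQ : Q ≤ centre K) (hQ0 : Q ≠ ⊥)
    (hQinv : ∀ g : X, ∀ v ∈ Q, h.hom g v ∈ Q) :
    ∃ A : AddSubgroup (K × K × K), (A = cAxis K ∨ A = dAxis K) ∧ Q ≤ A ∧
      (∀ g : X, h.line g ≠ centre K → centre K ⊓ h.line g = A) ∧
      (∀ g : X, ∀ v ∈ A, h.hom g v ∈ A) ∧
      ∀ g : X, ∀ u ∈ U, ∀ v ∈ A, h.hom (g * u * g⁻¹) v = v := by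
  have hQl : ∀ g : X, Q ≤ h.line g := fun g v hv =>
    ⟨h.hom g⁻¹ v, hQ (hQinv _ v hv), h.hom_inv' g v⟩
  obtain ⟨g₁, hg₁⟩ := h.exists_move hn
  haveI : Nonempty {g : X // h.line g ≠ centre K} := ⟨⟨g₁, hg₁⟩⟩
  obtain ⟨⟨g₀, hg₀⟩, hmax⟩ := Finite.exists_max
    fun g : {g : X // h.line g ≠ centre K} => Nat.card (centre K ⊓ h.line g.1 : AddSubgroup _)
  have hax := h.axis_of_max hg₀ fun k hk => hmax ⟨k, hk⟩
  set A := centre K ⊓ h.line g₀ with hA
  have hcardA : Nat.card A = Nat.card K := by
    rcases hax with e | e <;> rw [e]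
    exacts [natCard_cAxis, natCard_dAxis]
  have hall : ∀ g : X, h.line g ≠ centre K → centre K ⊓ h.line g = A := by
    intro g hg
    have hgmax : ∀ k : X, h.line k ≠ centre K → Nat.card (centre K ⊓ h.line k : AddSubgroup _) ≤
        Nat.card (centre K ⊓ h.line g : AddSubgroup _) := fun k hk =>
      (hmax ⟨k, hk⟩).trans (hcardA.le.trans (h.natCard_le_inf g))
    obtain ⟨q, hq, hq0⟩ := (AddSubgroup.bot_or_exists_ne_zero Q).resolve_left hQ0
    have hqA : q ∈ A := ⟨hQ hq, hQl g₀ hq⟩
    have hqg : q ∈ centre K ⊓ h.line g := ⟨hQ hq, hQl g hq⟩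
    rcases hax with e | e <;> rcases h.axis_of_max hg hgmax with e' | e'
    · rw [e, e']
    · rw [e] at hqA; rw [e'] at hqg
      exact absurd (Prod.ext hqA.1 (Prod.ext hqg.2 hqA.2)) hq0
    · rw [e] at hqA; rw [e'] at hqg
      exact absurd (Prod.ext hqA.1 (Prod.ext hqA.2 hqg.2)) hq0
    · rw [e, e']
  have hAle : ∀ g : X, A ≤ h.line g := fun g => by
    by_cases hg : h.line g = centre K
    · rw [hg]; exact inf_le_left
    · rw [← hall g hg]; exact inf_le_right
  refine ⟨A, hax, fun v hv => ⟨hQ hv, hQl g₀ hv⟩, hall, fun g v hv => ?_, fun g u hu v hv => ?_⟩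
  · -- the image of the axis lies in two lines
    have h1 : A.map (h.hom g) ≤ h.line g ⊓ h.line (g * g₀) := by
      rintro _ ⟨x, hx, rfl⟩
      refine ⟨AddSubgroup.mem_map_of_mem _ hx.1, ?_⟩
      rw [h.line_mul]
      exact AddSubgroup.mem_map_of_mem _ hx.2
    have h2 : h.line g ⊓ h.line (g * g₀) ≤ (centre K ⊓ h.line g₀).map (h.hom g) := by
      rintro x ⟨hx1, hx2⟩
      refine ⟨h.hom g⁻¹ x, ⟨?_, ?_⟩, h.hom_inv' g x⟩
      · obtain ⟨y, hy, rfl⟩ := hx1
        rwa [h.hom_inv]
      · rw [h.line_mul] at hx2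
        obtain ⟨y, hy, rfl⟩ := hx2
        rwa [h.hom_inv]
    have h3 : A ≤ h.line g ⊓ h.line (g * g₀) := le_inf (hAle g) (hAle _)
    have h4 : A = A.map (h.hom g) := AddSubgroup.eq_of_le_of_card_ge (h3.trans h2)
      (AddSubgroup.card_map_of_injective (h.hom_injective g)).le
    rw [h4]
    exact AddSubgroup.mem_map_of_mem _ hv
  · obtain ⟨w, hw, rfl⟩ := hAle g hv
    simp only [h.hom_mul, AddMonoidHom.comp_apply, h.hom_inv]
    rw [(h.shift_series hu).1 w hw]

/-- The image in the plane of the elements fixing the long axis. -/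
theorem Setup.exists_spread [Finite K] (hn : ¬ (U : Subgroup X).Normal)
    (hfix : ∀ g : X, ∀ u ∈ U, ∀ v ∈ dAxis K, h.hom (g * u * g⁻¹) v = v) :
    ∃ (G : Subgroup X) (π : G →* Equiv.Perm (K × K)) (φ : K →+ K),
      (∀ g : X, g ∈ G ↔ ∀ v ∈ dAxis K, h.hom g v = v) ∧ Function.Injective π ∧
      (∀ g : G, ∀ v : K × K × K, π g (v.1, v.2.1) = ((h.hom g v).1, (h.hom g v).2.1)) ∧
      (∀ g : X, ∀ u ∈ U, g * u * g⁻¹ ∈ G) ∧ Spread.sl φ ≤ π.range ∧
      (∀ (g : X) (u : G), (u : X) ∈ U → ∀ hgu : g * u * g⁻¹ ∈ G,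
        π ⟨_, hgu⟩ ∈ Spread.sl φ) := by
  let G : Subgroup X :=
    { carrier := {g | ∀ v ∈ dAxis K, h.hom g v = v}
      one_mem' := fun _ _ => rfl
      mul_mem' := fun {a b} ha hb v hv => by
        show h.hom a (h.hom b v) = v
        rw [hb v hv, ha v hv]
      inv_mem' := fun {a} ha v hv => by
        conv_lhs => rw [← ha v hv]
        exact h.hom_inv a v }
  have hUG : (U : Subgroup X) ≤ G := fun u hu v hv =>
    (h.shift_series hu).1 v (mem_centre.2 hv.1)
  let pr : K × K × K → K × K := fun v => (v.1, v.2.1)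
  let act : G → K × K → K × K := fun g w => pr (h.hom g (w.1, w.2, 0))
  have hkey : ∀ (g : G) (v : K × K × K), act g (pr v) = pr (h.hom g v) := fun g v => by
    have e : v = (v.1, v.2.1, 0) + (0, 0, v.2.2) := by ext <;> simp
    conv_rhs => rw [e, _root_.map_add, g.2 (0, 0, v.2.2) ⟨rfl, rfl⟩]
    simp [act, pr]
  have hmul : ∀ (a b : G) (w : K × K), act (a * b) w = act a (act b w) := fun a b w => by
    rw [show act b w = pr (h.hom b (w.1, w.2, 0)) from rfl, hkey]
    rfl
  have hone : ∀ w : K × K, act 1 w = w := fun w => rfl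
  let π : G →* Equiv.Perm (K × K) :=
    { toFun := fun g => ⟨act g, act g⁻¹,
        fun w => by rw [← hmul, inv_mul_cancel, hone],
        fun w => by rw [← hmul, mul_inv_cancel, hone]⟩
      map_one' := Equiv.ext hone
      map_mul' := fun a b => Equiv.ext (hmul a b) }
  have hπ : ∀ (g : G) (v : K × K × K), π g (pr v) = pr (h.hom g v) := hkey
  -- a kernel element is a shift fixing everything
  have hker : ∀ g : G, π g = 1 → g = 1 := by
    intro g hg
    have h1 : ∀ v, pr (h.hom g v) = pr v := fun v => by rw [← hπ, hg]; rfl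
    have hgU : (g : X) ∈ U := by
      have hNp : IsPGroup 2 π.ker := by
        rintro ⟨a, ha⟩
        refine ⟨1, Subtype.ext (Subtype.ext (Subtype.ext (Equiv.ext fun v => ?_)))⟩
        have hv : ∀ v, pr (h.hom a v) = pr v := fun v => by
          rw [← hπ, show π a = 1 from ha]; rfl
        show h.hom a (h.hom a v) = v
        have hd : h.hom a v - v ∈ dAxis K := by
          have := hv v
          simp only [pr, Prod.mk.injEq] at this
          exact ⟨by rw [Prod.fst_sub, this.1, sub_self],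
            by rw [Prod.snd_sub, Prod.fst_sub, this.2, sub_self]⟩
        have hz : ∀ w : K × K × K, w + w = 0 := fun w => by
          ext <;> exact CharTwo.add_self_eq_zero _
        calc h.hom a (h.hom a v) = h.hom a ((h.hom a v - v) + v) := by rw [sub_add_cancel]
          _ = h.hom a v - v + h.hom a v := by rw [_root_.map_add, a.2 _ hd]
          _ = (h.hom a v + h.hom a v) - v := by abel
          _ = v := by rw [hz, zero_sub, neg_eq_of_add_eq_zero_left (hz v)]
      let UG : Sylow 2 G := U.subtype hUG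
      have hsup : IsPGroup 2 ((UG : Subgroup G) ⊔ π.ker : Subgroup G) :=
        UG.2.to_sup_of_normal_right hNp
      exact SetLike.le_def.1 (UG.3 hsup le_sup_left).le (Subgroup.mem_sup_right hg)
    obtain ⟨a, ha⟩ := (h.mem_iff _).1 hgU
    have := congrArg Prod.snd (h1 (1, 0, 0))
    simp only [pr] at this
    rw [show h.hom g (1, 0, 0) = shift a (1, 0, 0) from congrArg (fun f : Equiv.Perm _ => f _) ha] at this
    simp at this
    refine Subtype.ext (Subtype.ext (Equiv.ext fun v => ?_))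
    rw [ha, this]
    simp
  have hπi : Function.Injective π := (injective_iff_map_eq_one π).2 hker
  let UG : Sylow 2 G := U.subtype hUG
  let U' : Sylow 2 π.range := UG.mapSurjective π.rangeRestrict_surjective
  have hshift : ∀ a, (⟨shift a, h.shift_mem a⟩ : X) ∈ G := fun a =>
    hUG ((h.mem_iff _).2 ⟨a, rfl⟩)
  have hπs : ∀ (u : G) (a : K), ((u : X) : Equiv.Perm (K × K × K)) = shift a → π u = Spread.upp a := by
    intro u a ha
    refine Equiv.ext fun w => ?_
    rw [show w = pr (w.1, w.2, 0) from rfl, hπ,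
      show h.hom u (w.1, w.2, 0) = shift a (w.1, w.2, 0) from congrArg (fun f : Equiv.Perm _ => f _) ha]
    rfl
  have hS : Spread.Setup π.range U' := by
    refine ⟨?_, ?_, fun a => ⟨⟨_, hshift a⟩, hπs _ a rfl⟩⟩
    · rintro ⟨_, g, rfl⟩ v w
      show π g (v + w) = π g v + π g w
      have e : ((v + w).1, (v + w).2, (0 : K)) = (v.1, v.2, (0 : K)) + (w.1, w.2, (0 : K)) := by
        ext <;> simp
      show pr (h.hom g ((v + w).1, (v + w).2, 0)) = _
      rw [e, _root_.map_add]
      rfl
    · rintro ⟨_, g, rfl⟩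
      constructor
      · rintro ⟨x, hx, hxg⟩
        obtain ⟨a, ha⟩ := (h.mem_iff _).1 (show (x : X) ∈ U from hx)
        exact ⟨a, (congrArg Subtype.val hxg).symm.trans (hπs x a ha)⟩
      · rintro ⟨a, ha⟩
        exact ⟨⟨_, hshift a⟩, (h.mem_iff _).2 ⟨a, rfl⟩,
          Subtype.ext ((hπs ⟨_, hshift a⟩ a rfl).trans ha.symm)⟩
  have hn' : ¬ (U' : Subgroup π.range).Normal := by
    intro hN
    refine hn ⟨fun u hu g => ?_⟩
    have hgu : g * u * g⁻¹ ∈ G := fun v hv => hfix g u hu v hv
    have hp : IsPGroup 2 (Subgroup.zpowers (⟨_, hgu⟩ : G)) := by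
      have h1 : IsPGroup 2 (Subgroup.zpowers (g * u * g⁻¹)) := by
        have := (U.2.to_le (Subgroup.zpowers_le.2 hu)).map (MulAut.conj g).toMonoidHom
        rwa [MonoidHom.map_zpowers] at this
      refine h1.of_injective ((G.subtype.comp (Subgroup.zpowers (⟨_, hgu⟩ : G)).subtype).codRestrict _
        ?_) ?_
      · rintro ⟨x, j, rfl⟩
        exact ⟨j, (map_zpow G.subtype (⟨_, hgu⟩ : G) j).symm⟩
      · exact fun a b e => Subtype.ext (Subtype.ext (congrArg Subtype.val e :))
    have hp' := hp.map π.rangeRestrict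
    have hle : (U' : Subgroup π.range) ⊔ (Subgroup.zpowers (⟨_, hgu⟩ : G)).map π.rangeRestrict =
        U' := U'.3 (U'.2.to_sup_of_normal_left hp') le_sup_left
    have hm : π.rangeRestrict ⟨_, hgu⟩ ∈ (U' : Subgroup π.range) :=
      hle ▸ Subgroup.mem_sup_right (Subgroup.mem_map_of_mem _ (Subgroup.mem_zpowers _))
    obtain ⟨x, hx, hxe⟩ := hm
    have := hπi (congrArg Subtype.val hxe)
    exact (show (x : X) = g * u * g⁻¹ from congrArg Subtype.val this) ▸ (show (x : X) ∈ U from hx)
  obtain ⟨φ, hsl, hconj, -⟩ := hS.spread (p := 2) hn'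
  refine ⟨G, π, φ, fun g => Iff.rfl, hπi, fun g v => hπ g v, fun g u hu v hv => hfix g u hu v hv, hsl,
    fun g u hu hgu => ?_⟩
  -- conjugates by `X` of upper elements are conjugates inside `G`
  obtain ⟨y, hy⟩ : ∃ y : G, (y : X)⁻¹ * (g * u * g⁻¹) * y ∈ U := by
    have hp : IsPGroup 2 (((U : Subgroup X).map (MulAut.conj g).toMonoidHom).subgroupOf G) :=
      (U.2.map _).comap_subtype
    obtain ⟨P, hP⟩ := hp.exists_le_sylow
    obtain ⟨y, hy⟩ := MulAction.exists_smul_eq G UG P
    refine ⟨y, ?_⟩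
    have h1 : (⟨_, hgu⟩ : G) ∈ (P : Subgroup G) := hP ⟨u, hu, rfl⟩
    rw [← hy] at h1
    obtain ⟨z, hz, hze⟩ := h1
    have : (y : X)⁻¹ * (g * u * g⁻¹) * y = z := by
      have := congrArg Subtype.val hze
      simp at this
      rw [← this]
      group
    rw [this]
    exact hz
  obtain ⟨a, ha⟩ := (h.mem_iff _).1 hy
  have hu' : π.rangeRestrict ⟨_, hUG hy⟩ ∈ U' := ⟨⟨_, hUG hy⟩, hy, rfl⟩
  have := hconj (π.rangeRestrict y) _ hu'
  rw [← map_inv, ← map_mul, ← map_mul] at this
  convert this using 1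
  show π _ = π _
  congr 1
  refine Subtype.ext ?_
  simp [mul_assoc]

/-- **On the long axis the torus has exponent three.** -/
theorem Setup.cube_eq_one [Finite K] (hn : ¬ (U : Subgroup X).Normal)
    (hfix : ∀ g : X, ∀ u ∈ U, ∀ v ∈ dAxis K, h.hom (g * u * g⁻¹) v = v) {k : K} (hk : k ≠ 0) :
    k ^ 3 = 1 := by
  by_cases hq : ∀ x : K, x = 0 ∨ x = 1
  · rcases hq k with e | e
    · exact absurd e hk
    · rw [e, one_pow]
  push Not at hq
  obtain ⟨w, hw0, hw1⟩ := hq
  obtain ⟨G, π, φ, hG, hπi, hπ, hconjG, hsl, -⟩ := h.exists_spread hn hfix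
  obtain ⟨g, hg⟩ := hsl (Spread.exists_torus φ hk)
  have hg' : ∀ v : K × K × K, ((h.hom g v).1, (h.hom g v).2.1) =
      (k * v.1, k⁻¹ * (v.2.1 - φ v.1) + φ (k * v.1)) := fun v => by
    rw [← hπ, hg]; rfl
  have hsG : ∀ a, (⟨shift a, h.shift_mem a⟩ : X) ∈ G := fun a => (hG _).2 fun v hv =>
    (h.shift_series ((h.mem_iff _).2 ⟨a, rfl⟩)).1 v (mem_centre.2 hv.1)
  have hconj : ∀ a : K, ∀ v, h.hom g (shift a v) = shift (k⁻¹ * k⁻¹ * a) (h.hom g v) := by
    intro a v
    have e : g * ⟨_, hsG a⟩ = ⟨_, hsG (k⁻¹ * k⁻¹ * a)⟩ * g := hπi (Equiv.ext fun x => by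
      rw [show x = ((x.1, x.2, (0 : K)).1, (x.1, x.2, (0 : K)).2.1) from rfl, hπ, map_mul]
      show _ = π _ (π g (x.1, x.2))
      rw [hg]
      show ((h.hom g (shift a (x.1, x.2, 0))).1, (h.hom g (shift a (x.1, x.2, 0))).2.1) = _
      rw [hg']
      have h4 : ∀ y : K × K, π ⟨_, hsG (k⁻¹ * k⁻¹ * a)⟩ y = (y.1, y.2 + k⁻¹ * k⁻¹ * a * y.1) := fun y => by
        rw [show y = ((y.1, y.2, (0 : K)).1, (y.1, y.2, (0 : K)).2.1) from rfl, hπ]
        rfl
      rw [h4]
      show _ = (_, _)
      simp only [shift_apply, Spread.shear_apply, Spread.diag_apply, Equiv.Perm.coe_mul,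
        Function.comp_apply, Spread.shear_inv_apply]
      ext
      · rfl
      · field_simp
        ring)
    exact congrArg (fun f : G => h.hom f v) e
  -- compare the last coordinates
  set l : K → K := fun c => (h.hom g (0, c, 0)).2.2
  have key : ∀ a b : K, a ^ 2 * b + l (a * b) = (k⁻¹) ^ 3 * (a ^ 2 * b) := by
    intro a b
    have e := congrArg (fun v : K × K × K => v.2.2) (hconj a (b, 0, 0))
    have hsplit : shift a (b, 0, 0) = (b, 0, 0) + (0, a * b, 0) + (0, 0, a ^ 2 * b) := by
      ext <;> simp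
    rw [hsplit, _root_.map_add, _root_.map_add,
      show h.hom g (0, 0, a ^ 2 * b) = (0, 0, a ^ 2 * b) from (hG _).1 g.2 _ ⟨rfl, rfl⟩] at e
    have h1 : (h.hom g (b, 0, 0)).1 = k * b := congrArg Prod.fst (hg' (b, 0, 0))
    simp only [shift_apply, h1, Prod.snd_add] at e
    have h2 : (k⁻¹ * k⁻¹ * a) ^ 2 * (k * b) = (k⁻¹) ^ 3 * (a ^ 2 * b) := by
      field_simp
    rw [h2] at e
    linear_combination e
  have e1 := key 1 w
  have e2 := key w 1
  rw [mul_one, one_mul] at *
  have h3 : ((k⁻¹) ^ 3 - 1) * (w - w ^ 2) = 0 := by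
    ring_nf at e1 e2 ⊢
    linear_combination e2 - e1
  rcases mul_eq_zero.1 h3 with e | e
  · rw [sub_eq_zero, inv_pow, inv_eq_one] at e
    exact e
  · exfalso
    have : w * (1 - w) = 0 := by linear_combination e
    rcases mul_eq_zero.1 this with e | e
    · exact hw0 e
    · exact hw1 (sub_eq_zero.1 e).symm

end

end Cfsg.Agent.SpFourCore.EvenLin
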