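import Cfsg.Agent.Lib.SpFourCore.Base

/-!
# The nonconstrained systems with nontrivial core on the Sylow subgroup of `Sp₄(2)` and `Sp₄(4)`
-/

set_option autoImplicit false

namespace Cfsg.Agent.SpFourCore

open Cfsg Cfsg.Agent.Fusion.Basic

variable {K : Type*} [Field K]

/-- The axis `a = b = c = 0`. -/
def Syl.IsLong (x : Syl K) : Prop := x.a = 0 ∧ x.b = 0 ∧ x.c = 0

/-- Two essential subgroups, no other, with the long axis invariant. -/
structure IsStandard (F : FusionSystem (⊤ : Subgroup (Syl K))) : Prop where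
  saturated : F.IsSaturated 2
  essential_eq : ∀ E, F.IsEssential 2 E → E = Syl.subA ∨ E = Syl.subB
  essential_A : F.IsEssential 2 (Syl.subA : Subgroup (Syl K))
  essential_B : F.IsEssential 2 (Syl.subB : Subgroup (Syl K))
  top_A : ∀ θ ∈ topAut F, ∀ x ∈ (Syl.subA : Subgroup (Syl K)), θ x ∈ (Syl.subA : Subgroup (Syl K))
  top_B : ∀ θ ∈ topAut F, ∀ x ∈ (Syl.subB : Subgroup (Syl K)), θ x ∈ (Syl.subB : Subgroup (Syl K))
  long_A : ∀ α ∈ F.autGroup (Syl.subA : Subgroup (Syl K)), ∀ x : Syl K,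
    x.IsLong → (autFun α x).IsLong
  long_B : ∀ α ∈ F.autGroup (Syl.subB : Subgroup (Syl K)), ∀ x : Syl K,
    x.IsLong → (autFun α x).IsLong
  long_top : ∀ θ ∈ topAut F, ∀ x : Syl K, x.IsLong → (θ x).IsLong

end Cfsg.Agent.SpFourCore
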