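import Cfsg.Agent.Lib.SpFourCore.EvenLin
import Cfsg.Agent.Lib.SpFourCore.StandardDef

/-!
# Characteristic two: a nonconstrained system with nontrivial core is standard
-/

set_option autoImplicit false
set_option linter.unusedSectionVars false
set_option linter.style.haveILetI false

namespace Cfsg.Agent.SpFourCore

open Cfsg Cfsg.FusionSystem Cfsg.Agent.Fusion.Basic Cfsg.Agent.Fusion.Saturation
  Cfsg.Agent.Fusion.Normal

variable {K : Type*} [Field K] [CharP K 2]

theorem two_eq : (2 : K) = 0 := CharTwo.two_eq_zero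

namespace Syl

theorem mem_center_iff {x : Syl K} : x ∈ Subgroup.center (Syl K) ↔ x.a = 0 ∧ x.b = 0 :=
  mem_center_iff_of_two_eq two_eq x

theorem sq_eq_one_iff {x : Syl K} : x * x = 1 ↔ x.a = 0 ∨ x.b = 0 := by
  constructor
  · intro h
    have h1 := congrArg Syl.c h
    simp [CharTwo.add_self_eq_zero] at h1
    exact h1
  · intro h
    rcases h with h | h <;> ext <;>
      simp [h, CharTwo.add_self_eq_zero, two_eq (K := K)]

theorem comm_of_subA {x y : Syl K} (hx : x ∈ subA) (hy : y ∈ subA) : x * y = y * x :=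
  (commute_iff x y).2 (by simp [mem_subA.1 hx, mem_subA.1 hy])

theorem comm_of_subB {x y : Syl K} (hx : x ∈ subB) (hy : y ∈ subB) : x * y = y * x :=
  (commute_iff x y).2 (by simp [mem_subB.1 hx, mem_subB.1 hy, two_eq (K := K)])

/-- Centralizers of noncentral elements are abelian. -/
theorem comm_of_centralizes {x y z : Syl K} (hx : x ∉ Subgroup.center (Syl K))
    (hy : x * y = y * x) (hz : x * z = z * x) : y * z = z * y := by
  obtain ⟨hy1, hy2⟩ := (commute_iff x y).1 hy
  obtain ⟨hz1, hz2⟩ := (commute_iff x z).1 hz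
  simp only [two_eq (K := K), zero_mul, zero_add] at hy2 hz2
  by_cases ha : x.a = 0
  · have hb : x.b ≠ 0 := fun hb => hx (mem_center_iff.2 ⟨ha, hb⟩)
    simp [ha, hb] at hy1 hz1
    exact comm_of_subA hy1 hz1
  by_cases hb : x.b = 0
  · simp [ha, hb] at hy1 hz1
    exact comm_of_subB hy1 hz1
  have key : ∀ w : Syl K, x.a * w.b = w.a * x.b → x.a ^ 2 * w.b = w.a ^ 2 * x.b →
      w.a * (x.a - w.a) = 0 := by
    intro w h1 h2
    refine mul_right_cancel₀ hb ?_
    linear_combination h2 - x.a * h1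
  refine (commute_iff y z).2 ⟨?_, ?_⟩
  · refine mul_left_cancel₀ ha ?_
    linear_combination y.a * hz1 - z.a * hy1
  · simp only [two_eq (K := K), zero_mul, zero_add]
    refine mul_left_cancel₀ ha ?_
    have hyb : x.a * (y.a ^ 2 * z.b) = y.a ^ 2 * z.a * x.b := by linear_combination y.a ^ 2 * hz1
    have hzb : x.a * (z.a ^ 2 * y.b) = z.a ^ 2 * y.a * x.b := by linear_combination z.a ^ 2 * hy1
    rw [hyb, hzb]
    rcases mul_eq_zero.1 (key y hy1 hy2) with e | e
    · simp [e]
    rcases mul_eq_zero.1 (key z hz1 hz2) with e' | e'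
    · simp [e']
    rw [sub_eq_zero] at e e'
    rw [← e, ← e']

/-- Coordinates on `subA`. -/
def coordA : (subA : Subgroup (Syl K)) ≃ K × K × K where
  toFun x := (x.1.b, x.1.c, x.1.d)
  invFun v := ⟨⟨0, v.1, v.2.1, v.2.2⟩, rfl⟩
  left_inv x := Subtype.ext (Syl.ext x.2.symm rfl rfl rfl)
  right_inv _ := rfl

theorem coordA_mul (x y : (subA : Subgroup (Syl K))) : coordA (x * y) = coordA x + coordA y := by
  have hx : x.1.a = 0 := x.2
  ext <;> simp [coordA, hx]

variable [Finite K]

theorem coordA_conj (g : Syl K) :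
    autPerm coordA (MulAut.conjNormal g) = EvenLin.shift g.a := by
  refine Equiv.ext fun v => ?_
  rw [autPerm_apply]
  show ((_ : Syl K).b, (_ : Syl K).c, (_ : Syl K).d) = _
  rw [MulAut.conjNormal_apply, conj_eq]
  simp [coordA, two_eq (K := K)]

/-- The square map as a bijection. -/
noncomputable def sq : K ≃ K :=
  Equiv.ofBijective (fun x => x ^ 2) (Finite.injective_iff_bijective.1 fun x y h => CharTwo.sq_inj.1 h)

theorem sq_apply (x : K) : sq x = x ^ 2 := rfl

/-- Coordinates on `subB`. -/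
noncomputable def coordB : (subB : Subgroup (Syl K)) ≃ K × K × K where
  toFun x := (sq x.1.a, x.1.d, sq x.1.c)
  invFun v := ⟨⟨sq.symm v.1, 0, sq.symm v.2.2, v.2.1⟩, rfl⟩
  left_inv x := Subtype.ext (Syl.ext (sq.symm_apply_apply _) x.2.symm (sq.symm_apply_apply _) rfl)
  right_inv v := by simp

theorem coordB_mul (x y : (subB : Subgroup (Syl K))) : coordB (x * y) = coordB x + coordB y := by
  have hy : y.1.b = 0 := y.2
  ext <;> simp [coordB, sq_apply, hy, two_eq (K := K), CharTwo.add_sq]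

theorem coordB_conj (g : Syl K) :
    autPerm coordB (MulAut.conjNormal g) = EvenLin.shift g.b := by
  refine Equiv.ext fun v => ?_
  rw [autPerm_apply]
  show (sq (_ : Syl K).a, (_ : Syl K).d, sq (_ : Syl K).c) = _
  rw [MulAut.conjNormal_apply, conj_eq]
  have h1 := sq.apply_symm_apply v.1
  rw [sq_apply] at h1
  have h3 := sq.apply_symm_apply v.2.2
  rw [sq_apply] at h3
  simp [coordB, sq_apply, two_eq (K := K), CharTwo.sub_eq_add, CharTwo.add_sq, mul_pow, h1, h3,
    mul_comm]

theorem natCard_subA : Nat.card (subA : Subgroup (Syl K)) = Nat.card (K × K × K) :=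
  Nat.card_congr coordA

theorem natCard_subB : Nat.card (subB : Subgroup (Syl K)) = Nat.card (K × K × K) :=
  Nat.card_congr coordB

theorem subA_ne_subB : (subA : Subgroup (Syl K)) ≠ subB := fun h => by
  have h1 : (⟨0, 1, 0, 0⟩ : Syl K) ∈ subB := h ▸ (rfl : (0 : K) = 0)
  exact one_ne_zero h1

/-- An automorphism maps `subA` and `subB` among themselves. -/
theorem map_subA_eq (θ : MulAut (Syl K)) (P : Subgroup (Syl K))
    (hP : ∀ x ∈ P, x * x = 1) (hc : Nat.card P = Nat.card (K × K × K)) :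
    P.map θ.toMonoidHom = subA ∨ P.map θ.toMonoidHom = subB := by
  set R := P.map θ.toMonoidHom
  have hR : ∀ x ∈ R, x.a = 0 ∨ x.b = 0 := by
    rintro _ ⟨x, hx, rfl⟩
    refine sq_eq_one_iff.1 ?_
    show θ x * θ x = 1
    rw [← map_mul, hP x hx, map_one]
  have hcR : Nat.card R = Nat.card (K × K × K) := by
    rw [Subgroup.card_map_of_injective θ.injective, hc]
  by_cases hA : ∀ x ∈ R, x.a = 0
  · exact Or.inl (eq_of_le_card (fun x hx => hA x hx) (by rw [hcR, natCard_subA]))
  · push Not at hA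
    obtain ⟨u, hu, hua⟩ := hA
    refine Or.inr (eq_of_le_card (fun x hx => ?_) (by rw [hcR, natCard_subB]))
    by_contra hxb
    have hxa := (hR x hx).resolve_right hxb
    have hub := (hR u hu).resolve_left hua
    rcases hR _ (R.mul_mem hx hu) with e | e
    · simp [hxa] at e; exact hua e
    · simp [hub] at e; exact hxb e

end Syl

section Main

variable [Finite K] {F : FusionSystem (⊤ : Subgroup (Syl K))}

open Syl

/-- Automorphisms of the system do not interchange the two maximal abelian subgroups. -/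
theorem topAut_subA_subB (hF : F.IsSaturated 2) {θ : MulAut (Syl K)} (hθ : θ ∈ topAut F) :
    (∀ x ∈ (subA : Subgroup (Syl K)), θ x ∈ (subA : Subgroup (Syl K))) ∧
      ∀ x ∈ (subB : Subgroup (Syl K)), θ x ∈ (subB : Subgroup (Syl K)) := by
  have hA2 : ∀ x ∈ (subA : Subgroup (Syl K)), x * x = 1 :=
    fun x hx => sq_eq_one_iff.2 (Or.inl hx)
  have hB2 : ∀ x ∈ (subB : Subgroup (Syl K)), x * x = 1 :=
    fun x hx => sq_eq_one_iff.2 (Or.inr hx)
  have hcomp : ∀ (η ξ : MulAut (Syl K)) (P : Subgroup (Syl K)),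
      P.map (η * ξ).toMonoidHom = (P.map ξ.toMonoidHom).map η.toMonoidHom := fun η ξ P => by
    rw [Subgroup.map_map]; rfl
  have hinj : ∀ η : MulAut (Syl K),
      subA.map η.toMonoidHom ≠ (subB : Subgroup (Syl K)).map η.toMonoidHom :=
    fun η h => subA_ne_subB (Subgroup.map_injective η.injective h)
  have hkeepA : (subA : Subgroup (Syl K)).map θ.toMonoidHom = subA := by
    refine (map_subA_eq θ subA hA2 natCard_subA).resolve_right fun hswap => ?_
    have hBA : (subB : Subgroup (Syl K)).map θ.toMonoidHom = subA :=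
      (map_subA_eq θ subB hB2 natCard_subB).resolve_right fun h => hinj θ (hswap.trans h.symm)
    have heven : ∀ j : ℕ, (subA : Subgroup (Syl K)).map (θ ^ (2 * j)).toMonoidHom = subA := by
      intro j
      induction j with
      | zero => exact Subgroup.map_id _
      | succ j ih =>
        rw [show 2 * (j + 1) = 1 + (1 + 2 * j) by ring, pow_add, pow_add, pow_one, hcomp, hcomp, ih,
          hswap, hBA]
    haveI : Finite (MulAut (Syl K)) :=
      Finite.of_injective (fun η : MulAut (Syl K) => (η : Syl K → Syl K)) DFunLike.coe_injective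
    obtain ⟨k, m, hm, hord⟩ := Nat.exists_eq_two_pow_mul_odd (orderOf_pos θ).ne'
    obtain ⟨j, rfl⟩ := hm
    obtain ⟨g, hg⟩ := topAut_inner_of_pow (k := k) Syl.isPGroup hF
      (Subgroup.pow_mem _ hθ (2 * j + 1))
      (by rw [← pow_mul, mul_comm, ← hord, pow_orderOf_eq_one])
    have h1 : (subA : Subgroup (Syl K)).map (θ ^ (2 * j + 1)).toMonoidHom = subB := by
      rw [pow_succ', hcomp, heven j, hswap]
    refine (subA_ne_subB (K := K)) (le_antisymm (fun x hx => ?_) fun x hx => ?_)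
    · have hx' : g⁻¹ * x * g ∈ (subA : Subgroup (Syl K)) := by
        have := Subgroup.Normal.conj_mem (H := (subA : Subgroup (Syl K))) inferInstance x hx g⁻¹
        rwa [inv_inv] at this
      rw [← h1]
      refine ⟨_, hx', ?_⟩
      show (θ ^ (2 * j + 1)) (g⁻¹ * x * g) = x
      rw [hg, MulAut.conj_apply]
      group
    · rw [← h1] at hx
      obtain ⟨y, hy, rfl⟩ := hx
      show (θ ^ (2 * j + 1)) y ∈ _
      rw [hg, MulAut.conj_apply]
      exact Subgroup.Normal.conj_mem inferInstance y hy g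
  have hkeepB : (subB : Subgroup (Syl K)).map θ.toMonoidHom = subB :=
    (map_subA_eq θ subB hB2 natCard_subB).resolve_left fun h => hinj θ (hkeepA.trans h.symm)
  exact ⟨fun x hx => hkeepA.le (Subgroup.mem_map_of_mem _ hx),
    fun x hx => hkeepB.le (Subgroup.mem_map_of_mem _ hx)⟩

/-- The essential subgroups. -/
theorem essential_even (hF : F.IsSaturated 2) {E : Subgroup (Syl K)} (hE : F.IsEssential 2 E) :
    E = subA ∨ E = subB := by
  have hG : IsPGroup 2 (Syl K) := Syl.isPGroup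
  have hS := hG.to_subgroup (⊤ : Subgroup (Syl K))
  have hZE := center_le_essential hE
  by_cases hall : ∀ α ∈ F.autGroup E, ∀ x ∈ Subgroup.center (Syl K) ⊓ E,
      autFun α x ∈ Subgroup.center (Syl K)
  · exfalso
    obtain ⟨g, hg, hgE⟩ := exists_mem_normalizer_not_mem hS
      (lt_top_iff_ne_top.2 (essential_ne_top hG hF hE))
    refine hgE (mem_of_stabilizes hG hE hg.2 _ _ le_rfl hall hall (fun x hx => ?_) (fun x hx => ?_)
      fun x _ => mem_center_iff.2 ?_)
    · rw [Subgroup.mem_center_iff.1 hx.1 g, mul_inv_cancel_right]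
    · rw [Subgroup.mem_center_iff.1 hx.1 g, mul_inv_cancel_right, inv_mul_cancel]
      exact one_mem _
    · rw [conj_eq]
      simp
  push Not at hall
  obtain ⟨α, -, z, ⟨hz, hzE⟩, hw⟩ := hall
  set w := autFun α z with hwdef
  have hwc : ∀ y ∈ E, w * y = y * w := fun y hy => by
    rw [← autFun_apply_inv α y, ← autFun_isHom α _ hzE _ (autFun_mem _ hy),
      ← autFun_isHom α _ (autFun_mem _ hy) _ hzE, Subgroup.mem_center_iff.1 hz]
  have hw2 : w * w = 1 := by
    rw [← autFun_isHom α _ hzE _ hzE, sq_eq_one_iff.2 (Or.inl (mem_center_iff.1 hz).1),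
      (autFun_isHom α).map_one]
  rcases sq_eq_one_iff.1 hw2 with ha | hb
  · left
    have hb : w.b ≠ 0 := fun hb => hw (mem_center_iff.2 ⟨ha, hb⟩)
    have hle : E ≤ subA := fun y hy => by
      have := ((commute_iff w y).1 (hwc y hy)).1
      simpa [ha, hb] using this
    exact le_antisymm hle fun g hg =>
      centralizer_le_essential hE fun x hx => comm_of_subA (hle hx) hg
  · right
    have ha : w.a ≠ 0 := fun ha => hw (mem_center_iff.2 ⟨ha, hb⟩)
    have hle : E ≤ subB := fun y hy => by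
      have := ((commute_iff w y).1 (hwc y hy)).1
      simpa [ha, hb] using this
    exact le_antisymm hle fun g hg =>
      centralizer_le_essential hE fun x hx => comm_of_subB (hle hx) hg

/-- The axis of an essential maximal abelian subgroup, in coordinates. -/
theorem exists_axis_coord (hF : F.IsSaturated 2) {P : Subgroup (Syl K)} [P.Normal]
    (hP : F.IsEssential 2 P) (e : P ≃ K × K × K) (he : ∀ x y, e (x * y) = e x + e y)
    (s : Syl K → K) (hconj : ∀ g, autPerm e (MulAut.conjNormal g) = EvenLin.shift (s g))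
    (hs : Function.Surjective s) {Q : Subgroup (Syl K)} (hQ : F.IsNormal Q) (hQ1 : Q ≠ ⊥)
    (hQP : Q ≤ P) (hQc : ∀ x : P, (x : Syl K) ∈ Q → (e x).1 = 0) :
    ∃ A : AddSubgroup (K × K × K), (A = EvenLin.cAxis K ∨ A = EvenLin.dAxis K) ∧
      (∀ x : P, (x : Syl K) ∈ Q → e x ∈ A) ∧
      (∀ α ∈ F.autGroup P, ∀ x : P, e x ∈ A → e (α x) ∈ A) ∧
      (A = EvenLin.dAxis K → ∀ k : K, k ≠ 0 → k ^ 3 = 1) := by
  have hG : IsPGroup 2 (Syl K) := Syl.isPGroup
  obtain ⟨U, hU⟩ := exists_sylow_autImage hG hF e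
  have h : EvenLin.Setup (autImage F e) U := by
    refine ⟨autImage_map_add e he, fun x => (hU x).trans ⟨?_, ?_⟩, fun a => ?_⟩
    · rintro ⟨g, hg⟩
      exact ⟨s g, hg.trans (hconj g)⟩
    · rintro ⟨a, ha⟩
      obtain ⟨g, rfl⟩ := hs a
      exact ⟨g, ha.trans (hconj g).symm⟩
    · obtain ⟨g, rfl⟩ := hs a
      exact hconj g ▸ conj_mem_autImage e g
  have hn := not_normal_autImage hG hF e hP hU
  have he1 : e 1 = 0 := by
    have := he 1 1
    rw [mul_one] at this
    exact left_eq_add.1 this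
  let Q' : AddSubgroup (K × K × K) :=
    { carrier := {v | (e.symm v : Syl K) ∈ Q}
      zero_mem' := by
        show (e.symm 0 : Syl K) ∈ Q
        rw [← he1, e.symm_apply_apply]
        exact one_mem Q
      add_mem' := fun {v w} hv hw => by
        show (e.symm (v + w) : Syl K) ∈ Q
        have : e.symm (v + w) = e.symm v * e.symm w := e.injective (by simp [he])
        rw [this]
        exact Q.mul_mem hv hw
      neg_mem' := fun {v} hv => by
        show (e.symm (-v) : Syl K) ∈ Q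
        have h1 : e (e.symm v)⁻¹ = -v := by
          have := he (e.symm v) (e.symm v)⁻¹
          rw [mul_inv_cancel, he1, e.apply_symm_apply] at this
          exact (neg_eq_of_add_eq_zero_right this.symm).symm
        rw [← h1, e.symm_apply_apply]
        exact Q.inv_mem hv }
  have hQmem : ∀ x : P, (x : Syl K) ∈ Q → e x ∈ Q' := fun x hx => by
    show (e.symm (e x) : Syl K) ∈ Q
    rwa [e.symm_apply_apply]
  have hQ'c : Q' ≤ EvenLin.centre K := fun v hv => by
    have := hQc (e.symm v) hv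
    rwa [e.apply_symm_apply] at this
  have hQ'0 : Q' ≠ ⊥ := fun h0 => hQ1 ((Subgroup.eq_bot_iff_forall _).2 fun x hx => by
    have h1 := hQmem ⟨x, hQP hx⟩ hx
    rw [h0, AddSubgroup.mem_bot, ← he1] at h1
    exact congrArg Subtype.val (e.injective h1))
  have hQinv : ∀ g : autImage F e, ∀ v ∈ Q', h.hom g v ∈ Q' := fun g v hv => by
    obtain ⟨α, hα, hαg⟩ := g.2
    show (e.symm ((g : Equiv.Perm _) v) : Syl K) ∈ Q
    rw [← hαg, autPerm_apply, e.symm_apply_apply, ← autFun_apply]
    have := normal_img_eq hQ (isMap_of_mem_autGroup le_top hα) hQP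
    exact this ▸ mem_img_self _ hv
  obtain ⟨A, hA, hQA, -, hAinv, hAfix⟩ := h.exists_axis hn hQ'c hQ'0 hQinv
  refine ⟨A, hA, fun x hx => hQA (hQmem x hx), fun α hα x hx => ?_, fun hAd k hk => ?_⟩
  · have := hAinv ⟨_, α, hα, rfl⟩ _ hx
    have e1 : h.hom ⟨_, α, hα, rfl⟩ (e x) = e (α x) := by
      show autPerm e α (e x) = _
      rw [autPerm_apply, e.symm_apply_apply]
    rwa [e1] at this
  · subst hAd
    exact h.cube_eq_one hn hAfix hk

/-- Exponent three for the multiplicative group forces at most four elements. -/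
theorem card_le_four (h : ∀ k : K, k ≠ 0 → k ^ 3 = 1) [Fintype K] : Fintype.card K ≤ 4 := by
  classical
  obtain ⟨g, hg⟩ := IsCyclic.exists_generator (α := Kˣ)
  have h1 := orderOf_eq_card_of_forall_mem_zpowers hg
  rw [Nat.card_eq_fintype_card, Fintype.card_units] at h1
  have h2 : orderOf g ≤ 3 :=
    Nat.le_of_dvd (by norm_num) (orderOf_dvd_of_pow_eq_one (Units.ext (h g g.ne_zero)))
  omega

/-- A nonconstrained system with a normal subgroup is standard, up to the exchange of the axes. -/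
theorem even_standard (hF : F.IsSaturated 2) {Q : Subgroup (Syl K)} (hQ : F.IsNormal Q)
    (hQ1 : Q ≠ ⊥) (hnc : ¬ F.IsConstrained 2) [Fintype K] :
    Fintype.card K ≤ 4 ∧
      ((∀ x ∈ Q, x.d = 0) ∨ (∀ x ∈ Q, x.c = 0)) ∧ ((∀ x ∈ Q, x.c = 0) → IsStandard F) := by
  have hG : IsPGroup 2 (Syl K) := Syl.isPGroup
  have hS := hG.to_subgroup (⊤ : Subgroup (Syl K))
  -- the normal subgroup is central
  have hQZ : ∀ x ∈ Q, x.a = 0 ∧ x.b = 0 := by
    intro x hx
    refine mem_center_iff.1 ?_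
    by_contra hxZ
    exact hnc (constrained_of_abelian hG hF hQ fun y z hy hz =>
      comm_of_centralizes hxZ (hy x hx) (hz x hx))
  -- both candidates are essential
  have hA : F.IsEssential 2 (subA : Subgroup (Syl K)) := by
    by_contra h
    exact hnc (constrained_of_single hG hF subB
      (fun E hE => (essential_even hF hE).resolve_left fun e => h (e ▸ hE))
      fun _ θ hθ => (topAut_subA_subB hF hθ).2)
  have hB : F.IsEssential 2 (subB : Subgroup (Syl K)) := by
    by_contra h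
    exact hnc (constrained_of_single hG hF subA
      (fun E hE => (essential_even hF hE).resolve_right fun e => h (e ▸ hE))
      fun _ θ hθ => (topAut_subA_subB hF hθ).1)
  have hQA : Q ≤ subA := fun x hx => (hQZ x hx).1
  have hQB : Q ≤ subB := fun x hx => (hQZ x hx).2
  obtain ⟨A₁, hA₁, hQ₁, hinv₁, hcube₁⟩ := exists_axis_coord hF hA coordA coordA_mul Syl.a coordA_conj
    (fun a => ⟨⟨a, 0, 0, 0⟩, rfl⟩) hQ hQ1 hQA (fun x hx => (hQZ _ hx).2)
  obtain ⟨A₂, hA₂, hQ₂, hinv₂, hcube₂⟩ := exists_axis_coord hF hB coordB coordB_mul Syl.b coordB_conj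
    (fun b => ⟨⟨0, b, 0, 0⟩, rfl⟩) hQ hQ1 hQB (fun x hx => by
      show (x.1.a) ^ 2 = 0
      rw [(hQZ _ hx).1, zero_pow two_ne_zero])
  have hnot : ¬ ((∀ x ∈ Q, x.d = 0) ∧ (∀ x ∈ Q, x.c = 0)) := fun h =>
    hQ1 ((Subgroup.eq_bot_iff_forall _).2 fun x hx =>
      Syl.ext (hQZ x hx).1 (hQZ x hx).2 (h.2 x hx) (h.1 x hx))
  have h1c : A₁ = EvenLin.cAxis K → ∀ x ∈ Q, x.d = 0 := fun e x hx =>
    (EvenLin.mem_cAxis.1 (e ▸ hQ₁ ⟨x, hQA hx⟩ hx)).2
  have h1d : A₁ = EvenLin.dAxis K → ∀ x ∈ Q, x.c = 0 := fun e x hx =>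
    (EvenLin.mem_dAxis.1 (e ▸ hQ₁ ⟨x, hQA hx⟩ hx)).2
  have h2c : A₂ = EvenLin.cAxis K → ∀ x ∈ Q, x.c = 0 := fun e x hx =>
    pow_eq_zero_iff two_ne_zero |>.1 (EvenLin.mem_cAxis.1 (e ▸ hQ₂ ⟨x, hQB hx⟩ hx)).2
  have h2d : A₂ = EvenLin.dAxis K → ∀ x ∈ Q, x.d = 0 := fun e x hx =>
    (EvenLin.mem_dAxis.1 (e ▸ hQ₂ ⟨x, hQB hx⟩ hx)).2
  refine ⟨?_, ?_, fun hc => ?_⟩
  · refine card_le_four fun k hk => ?_
    rcases hA₁ with e | e
    · rcases hA₂ with e' | e'
      · exact absurd ⟨h1c e, h2c e'⟩ hnot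
      · exact hcube₂ e' k hk
    · exact hcube₁ e k hk
  · rcases hA₁ with e | e
    exacts [Or.inl (h1c e), Or.inr (h1d e)]
  · have e₁ : A₁ = EvenLin.dAxis K := hA₁.resolve_left fun e => hnot ⟨h1c e, hc⟩
    have e₂ : A₂ = EvenLin.cAxis K := hA₂.resolve_right fun e => hnot ⟨h2d e, hc⟩
    have hlongA : ∀ α ∈ F.autGroup (subA : Subgroup (Syl K)), ∀ x : Syl K,
        x.IsLong → (autFun α x).IsLong := by
      intro α hα x hx
      have hxA : x ∈ (subA : Subgroup (Syl K)) := hx.1
      rw [autFun_of_mem α hxA]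
      have := hinv₁ α hα ⟨x, hxA⟩ (e₁ ▸ ⟨hx.2.1, hx.2.2⟩)
      rw [e₁] at this
      exact ⟨(α ⟨x, hxA⟩).2, this.1, this.2⟩
    refine ⟨hF, fun E => essential_even hF, hA, hB, fun θ hθ => (topAut_subA_subB hF hθ).1,
      fun θ hθ => (topAut_subA_subB hF hθ).2, hlongA, fun α hα x hx => ?_, fun θ hθ x hx => ?_⟩
    · have hxB : x ∈ (subB : Subgroup (Syl K)) := hx.2.1
      rw [autFun_of_mem α hxB]
      have := hinv₂ α hα ⟨x, hxB⟩ (e₂ ▸ ⟨by show x.a ^ 2 = 0; rw [hx.1, zero_pow two_ne_zero],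
        by show x.c ^ 2 = 0; rw [hx.2.2, zero_pow two_ne_zero]⟩)
      rw [e₂] at this
      exact ⟨pow_eq_zero_iff two_ne_zero |>.1 this.1, (α ⟨x, hxB⟩).2,
        pow_eq_zero_iff two_ne_zero |>.1 this.2⟩
    · obtain ⟨α, hα, hαθ⟩ := exists_restrict hθ (topAut_subA_subB hF hθ).1
      rw [← hαθ x hx.1]
      exact hlongA α hα x hx

end Main

end Cfsg.Agent.SpFourCore
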