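import Cfsg.Agent.Lib.SpFourCore.Groups.Four

/-!
# Finite groups realising the fusion on `Syl K` for `|K| ≤ 4`
-/

set_option autoImplicit false
set_option linter.unusedSectionVars false

namespace Cfsg.Agent.SpFourCore

open Cfsg.Agent.SpFourCore.Groups Cfsg.Agent.AutPSL.Roots

variable {K : Type} [Field K] [Fintype K] [CharP K 2]

theorem odd_index_id (X : Type) [Group X] : Odd (MonoidHom.id X).range.index := by
  rw [MonoidHom.range_eq_top_of_surjective _ Function.surjective_id, Subgroup.index_top]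
  exact odd_one

theorem exists_two_model (hF : Fintype.card K = 2) :
    ∃ (X : Type) (_ : Group X) (_ : Finite X)
      (φ : X →* Matrix.ProjectiveSpecialLinearGroup (Fin 3) K) (ι : Syl K →* X), IsModel φ ι := by
  have hsq : ∀ a : K, a ^ 2 = a := fun a => by
    have := FiniteField.pow_card a
    rwa [hF] at this
  let χ : Syl K →* Multiplicative K := MonoidHom.mk' (fun s => Multiplicative.ofAdd (s.c + s.d))
    fun s t => by
      rw [← ofAdd_add]
      congr 1
      simp only [Syl.mul_c, Syl.mul_d, CharTwo.two_eq_zero, hsq]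
      linear_combination CharTwo.add_self_eq_zero (s.a * t.b)
  refine ⟨Matrix.ProjectiveSpecialLinearGroup (Fin 3) K × Multiplicative K, inferInstance, inferInstance,
    MonoidHom.fst _ _, proj.prod χ, Prod.fst_surjective, fun s => rfl, ?_, ?_, ?_⟩
  · rintro ⟨u, z⟩ (rfl : u = 1)
    refine ⟨z.toAdd, Prod.ext ?_ ?_⟩
    · exact (map_one proj).symm.trans rfl
    · change z = Multiplicative.ofAdd (0 + z.toAdd)
      rw [zero_add, ofAdd_toAdd]
  · rintro ⟨u, z⟩ (rfl : u = 1)
    exact Subgroup.mem_center_iff.2 fun g => Prod.ext ((mul_one _).trans (one_mul _).symm) (mul_comm _ _)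
  · rw [injective_iff_map_eq_one]
    intro s hs
    obtain ⟨ha, hb, hc⟩ := proj_eq (show proj s = proj 1 by rw [map_one]; exact congrArg Prod.fst hs)
    have h2 : s.c + s.d = 0 := Multiplicative.ofAdd.injective (congrArg Prod.snd hs)
    exact Syl.ext ha hb hc (by simpa [show s.c = 0 from hc] using h2)

/-- The fusion systems with an invariant long root subgroup are realised for `|K| ≤ 4`. -/
theorem exists_group (hq : Fintype.card K ≤ 4) (outer : Prop) :
    ∃ (G : Type) (_ : Group G) (_ : Finite G) (ι : Syl K →* G), Function.Injective ι ∧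
      (∃ T : Sylow 2 G, (T : Subgroup G) = ι.range) ∧
      (∀ g : G, ∀ d : K, ∃ d', g * ι ⟨0, 0, 0, d⟩ * g⁻¹ = ι ⟨0, 0, 0, d'⟩) ∧
      (∃ g ∈ Subgroup.normalizer ((Syl.subA.map ι : Subgroup G) : Set G), ∃ y : Syl K,
        g * ι ⟨0, 0, 1, 0⟩ * g⁻¹ = ι y ∧ y.b ≠ 0) ∧
      (∃ g ∈ Subgroup.normalizer ((Syl.subB.map ι : Subgroup G) : Set G), ∃ y : Syl K,
        g * ι ⟨0, 0, 1, 0⟩ * g⁻¹ = ι y ∧ y.a ≠ 0) ∧
      (¬ outer → ∀ g ∈ Subgroup.normalizer ((ι.range : Subgroup G) : Set G),
        ∃ k : K, ∀ s s', g * ι s * g⁻¹ = ι s' → s'.a = k * s.a ∧ s'.b = k * s.b) ∧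
      (outer → ∀ k : K, k ≠ 0 → ∃ g ∈ Subgroup.normalizer ((ι.range : Subgroup G) : Set G),
        ∀ s, ∃ s', g * ι s * g⁻¹ = ι s' ∧ s'.a = k * s.a ∧ s'.b = s.b) := by
  have h24 : Fintype.card K = 2 ∨ Fintype.card K = 4 := by
    obtain ⟨n, -, hn⟩ := FiniteField.card K 2
    have h2 : (n : ℕ) ≤ 2 := by
      by_contra h
      have := Nat.pow_le_pow_right (show 1 ≤ 2 by norm_num) (show 3 ≤ (n : ℕ) by omega)
      omega
    have h1 := n.pos
    rcases (show (n : ℕ) = 1 ∨ (n : ℕ) = 2 by omega) with e | e <;> rw [e] at hn <;> simp [hn]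
  rcases h24 with hF | hF
  · obtain ⟨X, gX, fX, φ, ι, hm⟩ := exists_two_model hF
    obtain ⟨hT, hA, hB⟩ := hm.common (MonoidHom.id X) Function.injective_id (odd_index_id X)
    rw [MonoidHom.id_comp] at hT hA hB
    refine ⟨X, gX, fX, ι, hm.inj, hT, fun g d => ⟨d, ?_⟩, hA, hB,
      fun _ g hg => hm.scalar (Or.inl hF) hg, fun _ k hk => ⟨1, one_mem _, fun s => ⟨s, ?_, ?_, rfl⟩⟩⟩
    · rw [Subgroup.mem_center_iff.1 (hm.central (hm.axis_central d)) g, mul_inv_cancel_right]
    · rw [one_mul, inv_one, mul_one]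
    · have := FiniteField.pow_card_sub_one_eq_one k hk
      rw [hF, pow_one] at this
      rw [this, one_mul]
  · obtain ⟨X, gX, fX, φ, ι, σ, w, hm, hσ, hgen, hσι⟩ := exists_four hF
    by_cases ho : outer
    · let C : Subgroup (MulAut X) := Subgroup.zpowers σ
      have : Finite (MulAut X) := Finite.of_injective (fun f : MulAut X => (f : X → X))
        DFunLike.coe_injective
      let G := SemidirectProduct X C C.subtype
      have : Finite G := Finite.of_equiv _ (SemidirectProduct.equivProd).symm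
      let f : X →* G := SemidirectProduct.inl
      have hodd : Odd f.range.index := by
        rw [SemidirectProduct.range_inl_eq_ker_rightHom, Subgroup.index_ker,
          MonoidHom.range_eq_top_of_surjective _ SemidirectProduct.rightHom_surjective, Subgroup.card_top,
          Nat.card_zpowers]
        exact (show Odd 3 by decide).of_dvd_nat (orderOf_dvd_of_pow_eq_one hσ)
      obtain ⟨hT, hA, hB⟩ := hm.common f SemidirectProduct.inl_injective hodd
      refine ⟨G, inferInstance, inferInstance, f.comp ι,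
        SemidirectProduct.inl_injective.comp hm.inj, hT, fun g d => ?_, hA, hB,
        fun h => absurd ho h, fun _ k hk => ?_⟩
      · have hc : ι ⟨0, 0, 0, d⟩ ∈ Subgroup.center X := hm.central (hm.axis_central d)
        have h1 : (g.right : MulAut X) (ι ⟨0, 0, 0, d⟩) ∈ Subgroup.center X := by
          refine Subgroup.mem_center_iff.2 fun y => ?_
          obtain ⟨y, rfl⟩ := (g.right : MulAut X).surjective y
          rw [← map_mul, ← map_mul, Subgroup.mem_center_iff.1 hc y]
        obtain ⟨d', hd'⟩ := hm.ker _ ((L34Mult.ker_eq_center hm.surj hm.central _).2 h1)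
        refine ⟨d', ?_⟩
        rw [MonoidHom.comp_apply, MonoidHom.comp_apply, ← hd']
        calc g * f (ι ⟨0, 0, 0, d⟩) * g⁻¹
            = f g.left * (SemidirectProduct.inr g.right * f (ι ⟨0, 0, 0, d⟩) *
              (SemidirectProduct.inr g.right)⁻¹) * (f g.left)⁻¹ := by
              conv_lhs => rw [← SemidirectProduct.inl_left_mul_inr_right g]
              simp only [f, _root_.mul_inv_rev, mul_assoc]
          _ = f g.left * f ((g.right : MulAut X) (ι ⟨0, 0, 0, d⟩)) * (f g.left)⁻¹ := by
              congr 2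
              exact ((SemidirectProduct.inl_aut g.right (ι ⟨0, 0, 0, d⟩)).trans (by rw [map_inv])).symm
          _ = f ((g.right : MulAut X) (ι ⟨0, 0, 0, d⟩)) := by
              rw [← map_mul, ← map_inv, ← map_mul, Subgroup.mem_center_iff.1 h1, mul_inv_cancel_right]
      · obtain ⟨n, rfl⟩ := hgen k hk
        let c : C := ⟨σ, Subgroup.mem_zpowers σ⟩
        have hpow : ∀ (m : ℕ) (s : Syl K), ∃ t, (σ ^ m) (ι s) = ι t ∧ t.a = w ^ m * s.a ∧ t.b = s.b := by
          intro m
          induction m with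
          | zero => exact fun s => ⟨s, rfl, by rw [pow_zero, one_mul], rfl⟩
          | succ m ih =>
            intro s
            obtain ⟨t, ht, ha, hb⟩ := hσι s
            obtain ⟨u, hu, hua, hub⟩ := ih t
            exact ⟨u, by rw [pow_succ, MulAut.mul_apply, ht, hu], by rw [hua, ha, pow_succ]; ring,
              hub.trans hb⟩
        let g : G := SemidirectProduct.inr (c ^ n)
        have hconj : ∀ s, ∃ t, g * f.comp ι s * g⁻¹ = f.comp ι t ∧ t.a = w ^ n * s.a ∧ t.b = s.b := by
          intro s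
          obtain ⟨t, ht, hta, htb⟩ := hpow n s
          refine ⟨t, ?_, hta, htb⟩
          rw [MonoidHom.comp_apply, MonoidHom.comp_apply, ← ht]
          refine ((SemidirectProduct.inl_aut (c ^ n) (ι s)).trans ?_).symm
          rw [map_inv]
        refine ⟨g, mem_normalizer_of_conj ?_, hconj⟩
        rintro _ ⟨s, rfl⟩
        obtain ⟨t, ht, -⟩ := hconj s
        exact ⟨t, ht.symm⟩
    · obtain ⟨hT, hA, hB⟩ := hm.common (MonoidHom.id X) Function.injective_id (odd_index_id X)
      rw [MonoidHom.id_comp] at hT hA hB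
      refine ⟨X, gX, fX, ι, hm.inj, hT, fun g d => ⟨d, ?_⟩, hA, hB,
        fun _ g hg => hm.scalar (Or.inr hF) hg, fun h => absurd h ho⟩
      rw [Subgroup.mem_center_iff.1 (hm.central (hm.axis_central d)) g, mul_inv_cancel_right]

end Cfsg.Agent.SpFourCore
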