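import Cfsg.Agent.Lib.SpFourCore.OddLin

/-!
# Nine elements in the field

The conjugates of the centre other than the centre meet it in the fixed line.  An involution of
the torus fixes exactly one of them in each orbit of the root group; counting leaves 19 or 73
conjugates, and no element of such order acts on 729 points additively.
-/

set_option autoImplicit false
set_option linter.unusedSectionVars false
set_option linter.style.haveILetI false

namespace Cfsg.Agent.SpFourCore.OddLin

theorem zmod_three_sq : ∀ j : ZMod 3, j * j = -1 → False := by decide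

variable {K : Type*} [Field K] {X : Subgroup (Equiv.Perm (K × K × K))} {p : ℕ} [Fact p.Prime]
  {U : Sylow p X} [CharP K p] [Finite K]

/-- `g` fixes the centre and acts on the other layers by the scalars `β`, `γ`. -/
def Setup.Diag (h : Setup X U) (g : X) (β γ : K) : Prop :=
  (∀ v, IsZ v → h.hom g v = v) ∧ (∀ v, (h.hom g v).1 = β * v.1) ∧
    ∀ v : K × K × K, v.1 = 0 → (h.hom g v).2.1 = γ * v.2.1

variable (h : Setup X U)
include h

theorem Setup.sh_add (a b : K) : h.sh a * h.sh b = h.sh (a + b) :=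
  Subtype.ext (Equiv.ext fun v => by
    show shift a (shift b v) = shift (a + b) v
    ext <;> simp <;> ring)

theorem Setup.sh_zero : h.sh 0 = 1 :=
  Subtype.ext (Equiv.ext fun v => by show shift 0 v = v; simp)

theorem Setup.sh_inv (a : K) : (h.sh a)⁻¹ = h.sh (-a) :=
  inv_eq_of_mul_eq_one_right (by rw [h.sh_add, add_neg_cancel, h.sh_zero])

theorem Setup.Diag.mul {a b : X} {β γ β' γ' : K} (ha : h.Diag a β γ) (hb : h.Diag b β' γ') :
    h.Diag (a * b) (β * β') (γ * γ') :=
  ⟨fun v hv => by rw [h.hom_mul, hb.1 v hv, ha.1 v hv],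
    fun v => by rw [h.hom_mul, ha.2.1, hb.2.1]; ring,
    fun v hv => by rw [h.hom_mul, ha.2.2 _ (by rw [hb.2.1, hv, mul_zero]), hb.2.2 v hv]; ring⟩

theorem Setup.Diag.pow {a : X} {β γ : K} (ha : h.Diag a β γ) (n : ℕ) :
    h.Diag (a ^ n) (β ^ n) (γ ^ n) := by
  induction n with
  | zero =>
    rw [pow_zero, pow_zero, pow_zero]
    exact ⟨fun v _ => rfl, fun v => (one_mul _).symm, fun v _ => (one_mul _).symm⟩
  | succ n ih => rw [pow_succ, pow_succ, pow_succ]; exact ih.mul h ha

theorem Setup.Diag.mem_U {a : X} (ha : h.Diag a 1 1) : a ∈ U :=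
  h.mem_of_series ha.1
    (fun v hv => ⟨by rw [Prod.fst_sub, ha.2.1, one_mul, sub_self],
      by rw [Prod.snd_sub, Prod.fst_sub, ha.2.2 v hv, one_mul, sub_self]⟩)
    fun v => by rw [ha.2.1, one_mul]

/-- An element fixing the centre pointwise and normalizing the root group has scalar layers. -/
theorem Setup.exists_diag {g : X} (hg : g ∈ Subgroup.normalizer ((U : Subgroup X) : Set X))
    (hfix : ∀ v, IsZ v → h.hom g v = v) : ∃ κ : K, κ ≠ 0 ∧ h.Diag g (κ * κ) κ := by
  obtain ⟨-, hM⟩ := h.layers hg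
  let γ : K → K := fun c => (h.hom g (0, c, 0)).2.1
  have hrel : ∀ t, ∃ τ, (∀ c, t * c = τ * γ c) ∧
      ∀ v, h.hom g (shift t v) = shift τ (h.hom g v) := fun t => by
    obtain ⟨τ, hτ⟩ := h.exists_sh ((Subgroup.mem_normalizer_iff.1 hg (h.sh t)).1 (h.sh_mem t))
    have hcomm : ∀ v, h.hom g (shift t v) = shift τ (h.hom g v) := fun v => by
      rw [← h.hom_sh, ← h.hom_sh, ← h.hom_mul, ← h.hom_mul, ← hτ]
      congr 2
      group
    refine ⟨τ, fun c => mul_left_cancel₀ h.two_ne ?_, hcomm⟩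
    have hsplit := hcomm (0, c, 0)
    rw [show shift t (0, c, 0) = ((0, c, 0) : K × K × K) + zpt (2 * (t * c)) by
      ext <;> simp [zpt]; ring, _root_.map_add, hfix _ (isZ_zpt _)] at hsplit
    have h2 := congrArg (fun w : K × K × K => w.2.2) hsplit
    simp [zpt, hM (0, c, 0) rfl] at h2
    simp only [γ]
    linear_combination h2
  choose τ hτ hcomm using hrel
  have hτ1 : τ 1 ≠ 0 := fun e => one_ne_zero (by have := hτ 1 1; rwa [e, zero_mul, one_mul] at this)
  have hγ : ∀ c, γ c = (τ 1)⁻¹ * c := fun c => by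
    rw [eq_inv_mul_iff_mul_eq₀ hτ1, ← hτ 1 c, one_mul]
  have hlayer : ∀ v : K × K × K, v.1 = 0 → (h.hom g v).2.1 = (τ 1)⁻¹ * v.2.1 := fun v hv => by
    have e : v = ((0, v.2.1, 0) : K × K × K) + zpt v.2.2 := by ext <;> simp [zpt, hv]
    rw [← hγ]
    conv_lhs => rw [e, _root_.map_add, hfix _ (isZ_zpt _)]
    simp [γ, zpt]
  refine ⟨(τ 1)⁻¹, inv_ne_zero hτ1, hfix, fun v => ?_, hlayer⟩
  have h1 := congrArg (fun w : K × K × K => w.2.1) (hcomm 1 v)
  rw [show shift (1 : K) v = v + ((0, v.1, 2 * v.2.1 + v.1) : K × K × K) by ext <;> simp; ring,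
    _root_.map_add] at h1
  simp [hlayer ((0, v.1, 2 * v.2.1 + v.1) : K × K × K) rfl] at h1
  have h2 : (h.hom g v).1 = (τ 1)⁻¹ * ((τ 1)⁻¹ * v.1) := by
    rw [eq_inv_mul_iff_mul_eq₀ hτ1]
    exact h1.symm
  rw [h2, mul_assoc]

/-- Conjugation of the root group by a diagonal element. -/
theorem Setup.Diag.conj {g : X} {β γ : K} (hg : h.Diag g β γ) (hβ : β ≠ 0) (a : K) :
    g * h.sh a * g⁻¹ = h.sh (γ * a / β) := by
  obtain ⟨τ, hτ⟩ := h.exists_sh ((Subgroup.mem_normalizer_iff.1
    (h.mem_normalizer fun v hv => by rw [hg.1 v hv]; exact hv) (h.sh a)).1 (h.sh_mem a))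
  rw [hτ]
  congr 1
  have e : h.hom g (shift a (1, 0, 0)) = shift τ (h.hom g (1, 0, 0)) := by
    rw [← h.hom_sh, ← h.hom_sh, ← h.hom_mul, ← h.hom_mul, ← hτ]
    congr 2
    group
  rw [show shift a ((1, 0, 0) : K × K × K) = (1, 0, 0) + ((0, a, a ^ 2) : K × K × K) by ext <;> simp,
    _root_.map_add] at e
  have h1 := congrArg (fun w : K × K × K => w.2.1) e
  simp [hg.2.1, hg.2.2 ((0, a, a ^ 2) : K × K × K) rfl] at h1
  rw [eq_div_iff hβ]
  exact h1.symm

/-- **With nine field elements the root group is normal.** -/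
theorem Setup.normal_of_nine (hcard : Nat.card K = 9) {q₀ : K} (hq₀ : q₀ ≠ 0)
    (hfix : ∀ g : X, h.hom g (zpt q₀) = zpt q₀)
    (hhat : ∀ k : K, k ≠ 0 → ∃ g : X, h.Diag g (k⁻¹ * k⁻¹) k⁻¹) : (U : Subgroup X).Normal := by
  classical
  set M := Subgroup.normalizer ((U : Subgroup X) : Set X) with hMdef
  refine Subgroup.normalizer_eq_top_iff.1 ?_
  by_contra hMtop
  rw [← hMdef] at hMtop
  haveI : Fintype K := Fintype.ofFinite K
  have hp3 : p = 3 := by
    obtain ⟨f, hp, hf⟩ := FiniteField.card K p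
    rw [Nat.card_eq_fintype_card, hf] at hcard
    have h9 : p ∣ 3 ^ 2 := by rw [show (3 : ℕ) ^ 2 = 9 by norm_num, ← hcard]; exact dvd_pow_self p f.ne_zero
    exact (Nat.prime_dvd_prime_iff_eq hp (by norm_num)).1 (hp.dvd_of_dvd_pow h9)
  subst hp3
  have h3 : (3 : K) = 0 := by exact_mod_cast CharP.cast_eq_zero K 3
  -- a torus element of order eight
  obtain ⟨k, hk⟩ := IsCyclic.exists_generator (α := Kˣ)
  have hkord : orderOf k = 8 := by
    rw [orderOf_eq_card_of_forall_mem_zpowers hk, Nat.card_eq_fintype_card, Fintype.card_units,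
      ← Nat.card_eq_fintype_card, hcard]
  have hk8 : (k : K) ^ 8 = 1 := by
    rw [← hkord, ← Units.val_pow_eq_pow_val, pow_orderOf_eq_one, Units.val_one]
  have hk4 : (k : K) ^ 4 = -1 := by
    refine (mul_self_eq_one_iff.1 (by rw [← pow_add]; exact hk8)).resolve_left fun e => ?_
    have : k ^ 4 = 1 := Units.ext (by rw [Units.val_pow_eq_pow_val]; exact e)
    have := orderOf_dvd_of_pow_eq_one this
    rw [hkord] at this
    norm_num at this
  obtain ⟨g₀, hg₀⟩ := hhat k k.ne_zero
  have hki8 : ((k : K)⁻¹) ^ 8 = 1 := by rw [inv_pow, hk8, inv_one]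
  have hki4 : ((k : K)⁻¹) ^ 4 = -1 := by rw [inv_pow, hk4, inv_neg, inv_one]
  set w := g₀ ^ 3 with hwdef
  have hw : h.Diag w (((k : K)⁻¹) ^ 6) (((k : K)⁻¹) ^ 3) := by
    have := hg₀.pow h 3
    rwa [← pow_two, ← pow_mul] at this
  have hw8 : w ^ 8 = 1 := by
    have h8 : h.Diag (g₀ ^ 8) 1 1 := by
      have := hg₀.pow h 8
      rwa [mul_pow, hki8, one_mul] at this
    obtain ⟨a, ha⟩ := h.exists_sh h8.mem_U
    rw [hwdef, ← pow_mul, show 3 * 8 = 8 * 3 by norm_num, pow_mul, ha, pow_succ, pow_two, h.sh_add,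
      h.sh_add, show a + a + a = 0 by linear_combination a * h3, h.sh_zero]
  set t := w ^ 4 with htdef
  have ht : h.Diag t 1 (-1) := by
    have := hw.pow h 4
    rwa [show (((k : K)⁻¹) ^ 6) ^ 4 = 1 by
        rw [← pow_mul, show 6 * 4 = 8 * 3 by norm_num, pow_mul, hki8, one_pow],
      show (((k : K)⁻¹) ^ 3) ^ 4 = -1 by
        rw [← pow_mul, show 3 * 4 = 4 * 3 by norm_num, pow_mul, hki4]; norm_num] at this
  have ht2 : t * t = 1 := by rw [htdef, ← pow_add]; exact hw8
  have ht2' : ∀ v, h.hom t (h.hom t v) = v := fun v => by rw [← h.hom_mul, ht2]; rfl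
  have htinv : t⁻¹ = t := inv_eq_of_mul_eq_one_right ht2
  have htM : t ∈ M := h.mem_normalizer fun v hv => by rw [ht.1 v hv]; exact hv
  have htsh : ∀ a, t * h.sh a * t = h.sh (-a) := fun a => by
    have := ht.conj h one_ne_zero a
    rwa [htinv, div_one, neg_one_mul] at this
  -- conjugates of the centre
  let InY : X → K × K × K → Prop := fun g v => IsZ (h.hom g⁻¹ v)
  let Y : X → AddSubgroup (K × K × K) := fun g =>
    { carrier := {v | InY g v}
      zero_mem' := by show IsZ _; rw [map_zero]; exact ⟨rfl, rfl⟩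
      add_mem' := fun {a b} ha hb => by
        show IsZ _
        rw [_root_.map_add]
        exact ⟨by rw [Prod.fst_add, ha.1, hb.1, add_zero],
          by rw [Prod.snd_add, Prod.fst_add, ha.2, hb.2, add_zero]⟩
      neg_mem' := fun {a} ha => by
        show IsZ _
        rw [map_neg]
        exact ⟨by rw [Prod.fst_neg, ha.1, neg_zero], by rw [Prod.snd_neg, Prod.fst_neg, ha.2, neg_zero]⟩ }
  have hYmem : ∀ g v, v ∈ Y g ↔ IsZ (h.hom g⁻¹ v) := fun _ _ => Iff.rfl
  have hYhom : ∀ g a v, v ∈ Y g → h.hom a v ∈ Y (a * g) := fun g a v hv => by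
    rw [hYmem, mul_inv_rev, h.hom_mul, h.hom_inv]
    exact hv
  have hYcard : ∀ g, Nat.card (Y g) = 9 := fun g => by
    rw [← hcard]
    refine (Nat.card_congr (Equiv.ofBijective
      (fun d : K => (⟨h.hom g (zpt d), by rw [hYmem, h.hom_inv]; exact isZ_zpt d⟩ : Y g))
      ⟨fun a b e => congrArg (fun v : K × K × K => v.2.2) (h.hom_injective g (congrArg Subtype.val e) : zpt a = zpt b),
        fun v => ⟨(h.hom g⁻¹ v).2.2, Subtype.ext (by
          show h.hom g (zpt _) = _
          rw [← v.2.eq, h.hom_inv'])⟩⟩)).symm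
  have hqY : ∀ g, zpt q₀ ∈ Y g := fun g => by rw [hYmem, hfix]; exact isZ_zpt _
  have hq3 : Nat.card (AddSubgroup.zmultiples (zpt q₀)) = 3 := by
    rw [Nat.card_zmultiples]
    refine addOrderOf_eq_prime ?_ fun e => hq₀ (congrArg (fun v : K × K × K => v.2.2) e)
    simp [zpt, h3]
  -- a subgroup of a conjugate with a point off the fixed line is the conjugate
  have hfull : ∀ (g : X) (S : AddSubgroup (K × K × K)), S ≤ Y g → zpt q₀ ∈ S →
      ∀ v ∈ S, v ∉ AddSubgroup.zmultiples (zpt q₀) → S = Y g := by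
    intro g S hS hq v hv hvq
    refine AddSubgroup.eq_of_le_of_card_ge hS ?_
    have hlt : AddSubgroup.zmultiples (zpt q₀) < S :=
      lt_of_le_of_ne (AddSubgroup.zmultiples_le_of_mem hq) fun e => hvq (e ▸ hv)
    have h1 := AddSubgroup.card_dvd_of_le hS
    have h2 := AddSubgroup.card_dvd_of_le (AddSubgroup.zmultiples_le_of_mem hq)
    have h4 : Nat.card (AddSubgroup.zmultiples (zpt q₀)) < Nat.card S :=
      Set.Finite.card_lt_card (Set.toFinite _) hlt
    rw [hYcard] at h1 ⊢
    rw [hq3] at h2 h4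
    have := Nat.le_of_dvd (by norm_num) h1
    interval_cases hn : Nat.card S <;> omega
  have hnorm : ∀ {g a : X}, (∀ v ∈ Y g, h.hom a v ∈ Y g) → g⁻¹ * a * g ∈ M := fun {g a} hga => by
    refine h.mem_normalizer fun v hv => ?_
    rw [h.hom_mul, h.hom_mul]
    exact hga _ (by rw [hYmem, h.hom_inv]; exact hv)
  -- off the centre a conjugate meets the middle layer in the fixed line
  have hmid : ∀ g, g ∉ M → ∀ v ∈ Y g, v.1 = 0 → v ∈ AddSubgroup.zmultiples (zpt q₀) := by
    intro g hgM v hv hv1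
    by_contra hvq
    have hc : v.2.1 = 0 := by
      by_contra hc
      set s := q₀ / (2 * v.2.1) with hs
      have hs0 : s ≠ 0 := div_ne_zero hq₀ (mul_ne_zero h.two_ne hc)
      have hsv : h.hom (h.sh s) v = v + zpt q₀ := by
        have h2 := h.two_ne
        rw [h.hom_sh]
        ext <;> simp [zpt, hv1, hs]
        field_simp
      have hS := hfull g ((Y g).comap (h.hom (h.sh s)) ⊓ Y g) inf_le_right
        ⟨by show _ ∈ Y g; rw [hfix]; exact hqY g, hqY g⟩ v
        ⟨by show _ ∈ Y g; rw [hsv]; exact add_mem hv (hqY g), hv⟩ hvq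
      refine hgM (h.ti (h.sh_mem s) (fun e => hs0 ?_) (hnorm fun x hx => (hS.ge hx).1))
      exact shift_injective ((congrArg Subtype.val e).trans (congrArg Subtype.val h.sh_zero).symm)
    refine hgM ?_
    have hvZ : IsZ v := ⟨hv1, hc⟩
    let Zc : AddSubgroup (K × K × K) := Y 1
    have hZc : ∀ x, x ∈ Zc ↔ IsZ x := fun x => by rw [hYmem, inv_one]; rfl
    have hS := hfull g (Zc ⊓ Y g) inf_le_right ⟨(hZc _).2 (isZ_zpt _), hqY g⟩ v ⟨(hZc v).2 hvZ, hv⟩ hvq
    refine h.mem_normalizer fun x hx => ?_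
    have : h.hom g x ∈ Y g := by rw [hYmem, h.hom_inv]; exact hx
    exact (hZc _).1 (hS.ge this).1
  have hpick : ∀ g, g ∉ M → ∃ v ∈ Y g, v.1 ≠ 0 := fun g hgM => by
    by_contra hc
    push Not at hc
    have := AddSubgroup.card_le_of_le (fun v hv => hmid g hgM v hv (hc v hv) :
      Y g ≤ AddSubgroup.zmultiples (zpt q₀))
    rw [hYcard, hq3] at this
    omega
  -- fixed conjugates
  have hfixed : ∀ g, g ∉ M → g⁻¹ * t * g ∈ M → ∀ v ∈ Y g, h.hom t v = v := by
    intro g hgM hgt v hv
    have htv : h.hom t v ∈ Y g := by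
      rw [hYmem, ← h.hom_mul, show g⁻¹ * t = (g⁻¹ * t * g) * g⁻¹ by group, h.hom_mul]
      exact (h.layers hgt).1 _ hv
    obtain ⟨j, hj⟩ := AddSubgroup.mem_zmultiples_iff.1
      (hmid g hgM _ (sub_mem htv hv) (by rw [Prod.fst_sub, ht.2.1, one_mul, sub_self]))
    have h1 : h.hom t (h.hom t v - v) = h.hom t v - v := by rw [← hj, map_zsmul, hfix]
    rw [map_sub, ht2'] at h1
    refine sub_eq_zero.1 ?_
    have h2 : (2 : K) • (h.hom t v - v) = 0 := by
      rw [two_smul]
      nth_rewrite 1 [← h1]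
      abel
    exact (smul_eq_zero.1 h2).resolve_left h.two_ne
  let L : K → K := fun b => (h.hom t (b, 0, 0)).2.1
  have htc : ∀ v, (h.hom t v).2.1 = L v.1 - v.2.1 := fun v => by
    conv_lhs => rw [show v = ((v.1, 0, 0) : K × K × K) + (0, v.2.1, v.2.2) by ext <;> simp, _root_.map_add]
    rw [Prod.snd_add, Prod.fst_add, ht.2.2 (0, v.2.1, v.2.2) rfl]
    ring
  have horbit : ∀ g, g ∉ M → ∃ s, (h.sh s * g)⁻¹ * t * (h.sh s * g) ∈ M := by
    intro g hgM
    obtain ⟨v, hv, hv1⟩ := hpick g hgM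
    refine ⟨(L v.1 / 2 - v.2.1) / v.1, hnorm fun x hx => ?_⟩
    set s := (L v.1 / 2 - v.2.1) / v.1
    set v' := h.hom (h.sh s) v with hv'
    have hv'1 : v'.1 = v.1 := rfl
    have hv'c : v'.2.1 = L v.1 / 2 := by
      show v.2.1 + s * v.1 = _
      simp only [s]
      rw [div_mul_cancel₀ _ hv1]
      ring
    have hz : IsZ (h.hom t v' - v') := by
      refine ⟨by rw [Prod.fst_sub, ht.2.1, one_mul, sub_self], ?_⟩
      rw [Prod.snd_sub, Prod.fst_sub, htc, hv'1, hv'c]
      have := h.two_ne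
      field_simp
      ring
    have htv' : h.hom t v' = v' := by
      have h1 := ht.1 _ hz
      rw [map_sub, ht2'] at h1
      refine sub_eq_zero.1 ((smul_eq_zero.1 (?_ : (2 : K) • (h.hom t v' - v') = 0)).resolve_left h.two_ne)
      rw [two_smul]
      nth_rewrite 1 [← h1]
      abel
    have hS := hfull (h.sh s * g) ((h.hom t).eqLocus (AddMonoidHom.id _) ⊓ Y (h.sh s * g)) inf_le_right
      ⟨hfix t, hqY _⟩ v' ⟨htv', hYhom g _ v hv⟩ fun hq => hv1 (by
        obtain ⟨j, hj⟩ := AddSubgroup.mem_zmultiples_iff.1 hq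
        rw [← hv'1, ← hj]
        simp [zpt])
    have htx : h.hom t x = x := (hS.ge hx).1
    rwa [htx]
  have huniq : ∀ g, g ∉ M → ∀ s, g⁻¹ * t * g ∈ M → (h.sh s * g)⁻¹ * t * (h.sh s * g) ∈ M → s = 0 := by
    intro g hgM s hg1 hg2
    obtain ⟨v, hv, hv1⟩ := hpick g hgM
    have hgM' : h.sh s * g ∉ M := fun e => hgM (by
      have := M.mul_mem (M.inv_mem (Subgroup.le_normalizer (h.sh_mem s))) e
      rwa [inv_mul_cancel_left] at this)
    have e1 := congrArg (fun x : K × K × K => x.2.1) (hfixed g hgM hg1 v hv)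
    have e2 := congrArg (fun x : K × K × K => x.2.1) (hfixed _ hgM' hg2 _ (hYhom g (h.sh s) v hv))
    simp only [htc] at e1 e2
    simp [h.hom_sh] at e2
    have : (2 : K) * (s * v.1) = 0 := by linear_combination e1 - e2
    exact (mul_eq_zero.1 ((mul_eq_zero.1 this).resolve_left h.two_ne)).resolve_right hv1
  -- cosets
  have hmk : ∀ (a g : X), a • (g : X ⧸ M) = ((a * g : X) : X ⧸ M) := fun a g => rfl
  have hfixmk : ∀ g : X, t • (g : X ⧸ M) = g ↔ g⁻¹ * t * g ∈ M := fun g => by
    rw [hmk, QuotientGroup.eq, mul_inv_rev, htinv]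
  have hbase : ∀ g : X, (g : X ⧸ M) = ((1 : X) : X ⧸ M) ↔ g ∈ M := fun g => by
    rw [QuotientGroup.eq, mul_one, inv_mem_iff]
  let R := {x : X ⧸ M // t • x = x ∧ x ≠ ((1 : X) : X ⧸ M)}
  have hRM : ∀ r : R, r.1.out ∉ M := fun r e => r.2.2 (by
    rw [← QuotientGroup.out_eq' r.1, hbase]; exact e)
  have hRt : ∀ r : R, r.1.out⁻¹ * t * r.1.out ∈ M := fun r => (hfixmk _).1 (by
    rw [QuotientGroup.out_eq']; exact r.2.1)
  set N := Nat.card R with hN
  -- the number of conjugates
  have hn : Nat.card (X ⧸ M) = 1 + 9 * N := by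
    let f : Option (K × R) → X ⧸ M := fun o =>
      o.elim ((1 : X) : X ⧸ M) fun sr => h.sh sr.1 • sr.2.1
    have hshM : ∀ s, h.sh s • ((1 : X) : X ⧸ M) = ((1 : X) : X ⧸ M) := fun s => by
      rw [hmk, mul_one, hbase]
      exact Subgroup.le_normalizer (h.sh_mem s)
    have hne : ∀ (s : K) (r : R), h.sh s • r.1 ≠ ((1 : X) : X ⧸ M) := fun s r e => r.2.2 (by
      have e1 := congrArg ((h.sh s)⁻¹ • ·) e
      rw [inv_smul_smul, h.sh_inv, hshM] at e1
      exact e1)
    have hf : Function.Bijective f := by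
      constructor
      · rintro (_ | ⟨s, r⟩) (_ | ⟨s', r'⟩) e
        · rfl
        · exact absurd e.symm (hne s' r')
        · exact absurd e (hne s r)
        · have e1 : h.sh (-s' + s) • r.1 = r'.1 := by
            rw [← h.sh_add, mul_smul, show h.sh s • r.1 = h.sh s' • r'.1 from e, ← h.sh_inv,
              inv_smul_smul]
          have e2 := huniq _ (hRM r) (-s' + s) (hRt r) ((hfixmk _).1 (by
            rw [← hmk, QuotientGroup.out_eq', e1]; exact r'.2.1))
          rw [e2, h.sh_zero, one_smul] at e1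
          rw [show s = s' by linear_combination e2, Subtype.ext e1]
      · intro x
        by_cases hx : x = ((1 : X) : X ⧸ M)
        · exact ⟨none, hx.symm⟩
        obtain ⟨g, rfl⟩ := QuotientGroup.mk_surjective x
        obtain ⟨s, hs⟩ := horbit g fun e => hx ((hbase g).2 e)
        refine ⟨some (-s, ⟨((h.sh s * g : X) : X ⧸ M), (hfixmk _).2 hs, fun e => ?_⟩), ?_⟩
        · apply hx
          have e1 := congrArg ((h.sh s)⁻¹ • ·) e
          simp only [← hmk, inv_smul_smul] at e1
          rw [e1, h.sh_inv, hshM]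
        · show h.sh (-s) • ((h.sh s * g : X) : X ⧸ M) = _
          rw [hmk, ← mul_assoc, h.sh_add, neg_add_cancel, h.sh_zero, one_mul]
    rw [← Nat.card_congr (Equiv.ofBijective f hf), Finite.card_option, Nat.card_prod, hcard, ← hN]
    ring
  have hfixcard : Nat.card {x : X ⧸ M // t • x = x} = 1 + N := by
    have h1 : t • ((1 : X) : X ⧸ M) = ((1 : X) : X ⧸ M) := by rw [hmk, mul_one, hbase]; exact htM
    let f : Option R → {x : X ⧸ M // t • x = x} := fun o =>
      o.elim ⟨_, h1⟩ fun r => ⟨r.1, r.2.1⟩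
    have hf : Function.Bijective f := by
      constructor
      · rintro (_ | r) (_ | r') e
        · rfl
        · exact absurd (congrArg Subtype.val e).symm r'.2.2
        · exact absurd (congrArg Subtype.val e) r.2.2
        · exact congrArg some (Subtype.ext (congrArg Subtype.val e :))
      · rintro ⟨x, hx⟩
        by_cases hx1 : x = ((1 : X) : X ⧸ M)
        · exact ⟨none, Subtype.ext hx1.symm⟩
        · exact ⟨some ⟨x, hx, hx1⟩, rfl⟩
    rw [← Nat.card_congr (Equiv.ofBijective f hf), Finite.card_option, ← hN, add_comm]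
  -- elements conjugating the involution into the normalizer
  have hA : (1 + N) ∣ 9 * Nat.card (X ⧸ M) := by
    let A := {g : X // g⁻¹ * t * g ∈ M}
    have hA1 : Nat.card A = Nat.card M * (1 + N) := by
      rw [← hfixcard, ← Nat.card_prod]
      refine Nat.card_congr ((Equiv.subtypeEquivRight fun g => (hfixmk g).symm).trans
        (QuotientGroup.preimageMkEquivSubgroupProdSet M {x | t • x = x}))
    let Ct : Subgroup X := Subgroup.centralizer {t}
    have hCt : ∀ {c}, c ∈ Ct → c * t = t * c := fun {c} hc =>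
      (Subgroup.mem_centralizer_singleton_iff.1 hc)
    have hA2 : Nat.card A = Nat.card Ct * 9 := by
      rw [← hcard, ← Nat.card_prod]
      have hkey : ∀ s, (h.sh s)⁻¹ * t * h.sh s = t * h.sh (2 * s) := fun s => by
        rw [h.sh_inv, show h.sh (-s) * t = t * (t * h.sh (-s) * t) by
          rw [← mul_assoc, ← mul_assoc, ht2, one_mul], htsh, neg_neg, mul_assoc, h.sh_add, two_mul]
      let f : Ct × K → A := fun cs => ⟨cs.1 * h.sh cs.2, by
        have e : ((cs.1 : X) * h.sh cs.2)⁻¹ * t * (cs.1 * h.sh cs.2) =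
            (h.sh cs.2)⁻¹ * t * h.sh cs.2 := by
          rw [mul_inv_rev, mul_assoc, mul_assoc, ← mul_assoc t, ← hCt cs.1.2]
          group
        rw [e, hkey]
        exact M.mul_mem htM (Subgroup.le_normalizer (h.sh_mem _))⟩
      refine (Nat.card_congr (Equiv.ofBijective f ⟨?_, ?_⟩)).symm
      · rintro ⟨c, s⟩ ⟨c', s'⟩ e
        have e1 : (c : X) * h.sh s = c' * h.sh s' := congrArg Subtype.val e
        have e2 : h.sh (s' - s) ∈ Ct := by
          have : (c'⁻¹ * c : X) = h.sh (s' - s) := by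
            show (c' : X)⁻¹ * (c : X) = _
            rw [sub_eq_add_neg, ← h.sh_add, ← h.sh_inv, inv_mul_eq_iff_eq_mul, ← mul_assoc, ← e1,
              mul_inv_cancel_right]
          exact this ▸ Ct.mul_mem (Ct.inv_mem c'.2) c.2
        have e3 : h.sh (-(s' - s)) = h.sh (s' - s) := by
          rw [← htsh, ← hCt e2, mul_assoc, ht2, mul_one]
        have e4 : (2 : K) * (s' - s) = 0 := by
          have := shift_injective (congrArg Subtype.val e3)
          linear_combination -this
        have : s = s' := (sub_eq_zero.1 ((mul_eq_zero.1 e4).resolve_left h.two_ne)).symm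
        subst this
        exact Prod.ext (Subtype.ext (mul_right_cancel e1)) rfl
      · rintro ⟨g, hg⟩
        set m := g⁻¹ * t * g with hm
        have hmfix : ∀ v, IsZ v → h.hom m v = v := fun v hv => by
          rw [hm, h.hom_mul, h.hom_mul]
          have htg : h.hom t (h.hom g v) = h.hom g v := by
            by_cases hgM : g ∈ M
            · exact ht.1 _ ((h.layers hgM).1 v hv)
            · exact hfixed g hgM hg _ (by rw [hYmem, h.hom_inv]; exact hv)
          rw [htg, h.hom_inv]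
        obtain ⟨κ, hκ0, hκ⟩ := h.exists_diag hg hmfix
        have hm2 : m * m = 1 := by
          rw [hm, show g⁻¹ * t * g * (g⁻¹ * t * g) = g⁻¹ * (t * t) * g by group, ht2, mul_one,
            inv_mul_cancel]
        have hκ1 : κ * κ = 1 := by
          have := (hκ.mul h hκ).2.2 (0, 1, 0) rfl
          rw [hm2] at this
          simpa using (show (1 : K) = κ * κ * 1 from this).symm
        rcases mul_self_eq_one_iff.1 hκ1 with e | e
        · exfalso
          subst e
          rw [one_mul] at hκ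
          obtain ⟨a, ha⟩ := h.exists_sh hκ.mem_U
          have h2a : h.sh (a + a) = h.sh 0 := by rw [← h.sh_add, ← ha, hm2, h.sh_zero]
          have ha0 : a = 0 := by
            have e2 : (2 : K) * a = 0 := by
              rw [two_mul]; exact shift_injective (congrArg Subtype.val h2a)
            exact (mul_eq_zero.1 e2).resolve_left h.two_ne
          rw [ha0, h.sh_zero, hm, mul_assoc, inv_mul_eq_one] at ha
          have ht1 : t = 1 := mul_eq_right.1 ha.symm
          have := (ht.2.2 (0, 1, 0) rfl)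
          rw [ht1] at this
          exact h.two_ne (by
            have e3 : (1 : K) = -1 * 1 := this
            linear_combination e3)
        subst e
        rw [neg_one_mul, neg_neg] at hκ
        obtain ⟨a, ha⟩ := h.exists_sh ((show h.Diag (t * m) 1 1 by
          have := ht.mul h hκ
          rwa [one_mul, neg_one_mul, neg_neg] at this).mem_U)
        have hma : m = t * h.sh a := by rw [← ha, ← mul_assoc, ht2, one_mul]
        refine ⟨(⟨g * (h.sh (a / 2))⁻¹, Subgroup.mem_centralizer_singleton_iff.2 ?_⟩, a / 2),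
          Subtype.ext (inv_mul_cancel_right g _)⟩
        have e := hkey (a / 2)
        rw [mul_div_cancel₀ _ h.two_ne, ← hma, hm] at e
        calc g * (h.sh (a / 2))⁻¹ * t
            = g * ((h.sh (a / 2))⁻¹ * t * h.sh (a / 2)) * (h.sh (a / 2))⁻¹ := by group
          _ = g * (g⁻¹ * t * g) * (h.sh (a / 2))⁻¹ := by rw [e]
          _ = t * (g * (h.sh (a / 2))⁻¹) := by group
    obtain ⟨d, hd⟩ := Ct.card_subgroup_dvd_card
    refine ⟨d, Nat.eq_of_mul_eq_mul_left (Nat.card_pos (α := M)) ?_⟩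
    have hX := Subgroup.card_eq_card_quotient_mul_card_subgroup M
    calc Nat.card M * (9 * Nat.card (X ⧸ M)) = Nat.card X * 9 := by rw [hX]; ring
      _ = Nat.card Ct * 9 * d := by rw [hd]; ring
      _ = _ := by rw [← hA2, hA1]; ring
  -- one point off the middle layer in each conjugate
  choose v hv hv1 using fun r : R => hpick _ (hRM r)
  have hinter : ∀ (r r' : R) (x : K × K × K), x ∈ Y r.1.out → x ∈ Y r'.1.out → x.1 ≠ 0 → r = r' := by
    intro r r' x hx hx' hx1
    have hS := hfull r.1.out (Y r'.1.out ⊓ Y r.1.out) inf_le_right ⟨hqY _, hqY _⟩ x ⟨hx', hx⟩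
      fun hq => hx1 (by
        obtain ⟨j, hj⟩ := AddSubgroup.mem_zmultiples_iff.1 hq
        rw [← hj]
        simp [zpt])
    refine Subtype.ext ?_
    rw [← QuotientGroup.out_eq' r.1, ← QuotientGroup.out_eq' r'.1, eq_comm, QuotientGroup.eq]
    refine h.mem_normalizer fun z hz => ?_
    rw [h.hom_mul]
    exact (hS.ge (show h.hom r.1.out z ∈ Y r.1.out by rw [hYmem, h.hom_inv]; exact hz)).1
  have hN12 : N ≤ 12 := by
    let f : R × Fin 2 × Fin 3 → {b : K // b ≠ 0} × K := fun x =>
      ⟨⟨((x.2.1 : ℕ) + 1 : K) * (v x.1).1, mul_ne_zero (by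
        have := x.2.1.2
        intro e
        have : (((x.2.1 : ℕ) + 1 : ℕ) : K) = 0 := by push_cast; exact e
        rw [CharP.cast_eq_zero_iff K 3] at this
        omega) (hv1 x.1)⟩, ((x.2.1 : ℕ) + 1 : K) * (v x.1).2.2 + (x.2.2 : ℕ) * q₀⟩
    have hf : Function.Injective f := by
      rintro ⟨r, i, j⟩ ⟨r', i', j'⟩ e
      have e1 : ((i : ℕ) + 1 : K) * (v r).1 = ((i' : ℕ) + 1 : K) * (v r').1 :=
        congrArg (fun x : {b : K // b ≠ 0} × K => x.1.1) e
      have e2 := congrArg Prod.snd e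
      simp only [f] at e2
      set x := ((i : ℕ) + 1) • v r + (j : ℕ) • zpt q₀ with hx
      set x' := ((i' : ℕ) + 1) • v r' + (j' : ℕ) • zpt q₀ with hx'
      have hx1 : x ∈ Y r.1.out := add_mem (nsmul_mem (hv r) _) (nsmul_mem (hqY _) _)
      have hx1' : x' ∈ Y r'.1.out := add_mem (nsmul_mem (hv r') _) (nsmul_mem (hqY _) _)
      have hb : x.1 = ((i : ℕ) + 1 : K) * (v r).1 := by simp [hx, zpt]
      have hb' : x'.1 = ((i' : ℕ) + 1 : K) * (v r').1 := by simp [hx', zpt]
      have hd : x.2.2 = x'.2.2 := by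
        simp [hx, hx', zpt]
        linear_combination e2
      have hc : x.2.1 = x'.2.1 := by
        have a1 := congrArg (fun w : K × K × K => w.2.1) (hfixed _ (hRM r) (hRt r) x hx1)
        have a2 := congrArg (fun w : K × K × K => w.2.1) (hfixed _ (hRM r') (hRt r') x' hx1')
        simp only [htc, hb, hb', e1] at a1 a2
        have : (2 : K) * (x.2.1 - x'.2.1) = 0 := by linear_combination a2 - a1
        exact sub_eq_zero.1 ((mul_eq_zero.1 this).resolve_left h.two_ne)
      have hxx : x = x' := Prod.ext (by rw [hb, hb', e1]) (Prod.ext hc hd)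
      have hne : x.1 ≠ 0 := by rw [hb]; exact (f (r, i, j)).1.2
      obtain rfl := hinter r r' x hx1 (hxx ▸ hx1') hne
      have hi : ((i : ℕ) : K) = ((i' : ℕ) : K) := by
        have := mul_right_cancel₀ (hv1 r) e1
        linear_combination this
      have hi' : i = i' := Fin.ext (CharP.natCast_injOn_Iio K 3 (show (i : ℕ) < 3 by omega)
        (show (i' : ℕ) < 3 by omega) hi)
      subst hi'
      have hj : ((j : ℕ) : K) = ((j' : ℕ) : K) := mul_right_cancel₀ hq₀ (by linear_combination e2)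
      rw [Fin.ext (CharP.natCast_injOn_Iio K 3 j.2 j'.2 hj)]
    have hcard' : Nat.card {b : K // b ≠ 0} = 8 := by
      rw [Nat.card_congr unitsEquivNeZero.symm, Nat.card_eq_fintype_card, Fintype.card_units,
        ← Nat.card_eq_fintype_card, hcard]
    have := Nat.card_le_card_of_injective f hf
    rw [Nat.card_prod, Nat.card_prod, Nat.card_prod, Nat.card_fin, Nat.card_fin, hcard', hcard, ← hN] at this
    omega
  -- the torus fixes no orbit
  have hwt : w * t = t * w := by rw [htdef, ← pow_succ', ← pow_succ]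
  have hwM : w ∈ M := h.mem_normalizer fun z hz => by rw [hw.1 z hz]; exact hz
  have hN2 : 2 ∣ N := by
    have hRmap : ∀ x : X ⧸ M, t • x = x ∧ x ≠ ((1 : X) : X ⧸ M) ↔
        t • (w • x) = w • x ∧ w • x ≠ ((1 : X) : X ⧸ M) := fun x => by
      rw [← mul_smul, ← hwt, mul_smul, smul_left_cancel_iff]
      have e : w • ((1 : X) : X ⧸ M) = ((1 : X) : X ⧸ M) := by rw [hmk, mul_one, hbase]; exact hwM
      conv_rhs => rw [← e, ne_eq, smul_left_cancel_iff]
    let π : Equiv.Perm R := (MulAction.toPerm w).subtypeEquiv hRmap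
    have hπ : ∀ r : R, (π r).1 = w • r.1 := fun r => rfl
    have hπp : ∀ (m : ℕ) (r : R), ((π ^ m) r).1 = w ^ m • r.1 := fun m => by
      induction m with
      | zero => intro r; simp
      | succ m ih => intro r; rw [pow_succ', Equiv.Perm.mul_apply, hπ, ih, pow_succ', mul_smul]
    have hπ8 : π ^ 2 ^ 3 = 1 := Equiv.ext fun r => Subtype.ext (by
      rw [hπp, show (2 : ℕ) ^ 3 = 8 by norm_num, hw8, one_smul]; rfl)
    have hP : IsPGroup 2 (Subgroup.zpowers π) := by
      haveI : Fact (Nat.Prime 2) := ⟨Nat.prime_two⟩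
      obtain ⟨i, -, hi⟩ := (Nat.dvd_prime_pow Nat.prime_two).1 (orderOf_dvd_of_pow_eq_one hπ8)
      exact IsPGroup.of_card (n := i) (by rw [Nat.card_zpowers, hi])
    haveI : Fact (Nat.Prime 2) := ⟨Nat.prime_two⟩
    have hno : IsEmpty (MulAction.fixedPoints (Subgroup.zpowers π) R) := by
      refine ⟨fun ⟨r, hr⟩ => ?_⟩
      have hwr : w • r.1 = r.1 := congrArg Subtype.val (hr ⟨π, Subgroup.mem_zpowers π⟩)
      have hwY : ∀ x ∈ Y r.1.out, h.hom w x ∈ Y r.1.out := fun x hx => by
        have hin : r.1.out⁻¹ * w * r.1.out ∈ M := by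
          have e := hwr
          rw [← QuotientGroup.out_eq' r.1, hmk, eq_comm, QuotientGroup.eq, ← mul_assoc] at e
          exact e
        rw [hYmem, ← h.hom_mul, show r.1.out⁻¹ * w = (r.1.out⁻¹ * w * r.1.out) * r.1.out⁻¹ by group,
          h.hom_mul]
        exact (h.layers hin).1 _ hx
      -- first coordinates form a group of order three
      let P := (Y r.1.out).map (AddMonoidHom.fst K (K × K))
      have hP3 : Nat.card P ≤ 3 := by
        let φ := (AddMonoidHom.fst K (K × K)).comp (Y r.1.out).subtype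
        have hP' : P = φ.range := AddSubgroup.ext fun x => ⟨fun ⟨y, hy, e⟩ => ⟨⟨y, hy⟩, e⟩,
          fun ⟨y, e⟩ => ⟨y.1, y.2, e⟩⟩
        have h1 := φ.ker.card_eq_card_quotient_mul_card_addSubgroup
        rw [hYcard, Nat.card_congr (QuotientAddGroup.quotientKerEquivRange φ).toEquiv, ← hP'] at h1
        have h2 : 3 ≤ Nat.card φ.ker := by
          rw [← hq3]
          refine Nat.card_le_card_of_injective
            (fun z => (⟨⟨z.1, AddSubgroup.zmultiples_le_of_mem (hqY _) z.2⟩, ?_⟩ : φ.ker)) ?_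
          · obtain ⟨i, hi⟩ := AddSubgroup.mem_zmultiples_iff.1 z.2
            show (z.1 : K × K × K).1 = 0
            rw [← hi]
            simp [zpt]
          · intro a b e
            exact Subtype.ext (congrArg (fun x : φ.ker => ((x : Y r.1.out) : K × K × K)) e)
        by_contra hc
        have := Nat.mul_le_mul (show 4 ≤ Nat.card P by omega) h2
        omega
      have hle : AddSubgroup.zmultiples (v r).1 ≤ P :=
        AddSubgroup.zmultiples_le_of_mem ⟨_, hv r, rfl⟩
      have hPeq := AddSubgroup.eq_of_le_of_card_ge hle (by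
        refine hP3.trans ?_
        rw [Nat.card_zmultiples, addOrderOf_eq_prime (p := 3) (by simp [h3]) (hv1 r)])
      obtain ⟨i, hi⟩ := AddSubgroup.mem_zmultiples_iff.1
        (hPeq.ge ⟨_, hwY _ (hv r), rfl⟩ : (h.hom w (v r)).1 ∈ AddSubgroup.zmultiples (v r).1)
      rw [hw.2.1, zsmul_eq_mul] at hi
      have hsq : ((i : K)) * i = -1 := by
        rw [mul_right_cancel₀ (hv1 r) hi, ← pow_add, show 6 + 6 = 4 * 3 by norm_num, pow_mul, hki4]
        norm_num
      have hz : ((i : ZMod 3)) * i = -1 := (ZMod.castHom (dvd_refl 3) K).injective (by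
        simp only [map_mul, map_neg, map_one, map_intCast]
        exact hsq)
      exact zmod_three_sq _ hz
    have hm := hP.card_modEq_card_fixedPoints R
    rw [← hN, Nat.card_of_isEmpty] at hm
    exact Nat.modEq_zero_iff_dvd.1 hm
  have hN0 : N ≠ 0 := fun e => hMtop (by
    rw [e, Nat.mul_zero, Nat.add_zero] at hn
    exact Subgroup.index_eq_one.1 hn)
  have hcases : N = 2 ∨ N = 8 := by
    rw [hn] at hA
    interval_cases N <;> omega
  -- an element of prime order `19` or `73`
  have hprime : Nat.Prime (1 + 9 * N) := by rcases hcases with e | e <;> rw [e] <;> norm_num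
  haveI : Fact (Nat.Prime (1 + 9 * N)) := ⟨hprime⟩
  obtain ⟨g, hg⟩ := exists_prime_orderOf_dvd_card' (G := X) (1 + 9 * N)
    (hn ▸ Dvd.intro _ (Subgroup.card_eq_card_quotient_mul_card_subgroup M).symm)
  have hgp : IsPGroup (1 + 9 * N) (Subgroup.zpowers (g : Equiv.Perm (K × K × K))) :=
    IsPGroup.of_card (n := 1) (by rw [Nat.card_zpowers, Subgroup.orderOf_coe, hg, pow_one])
  have hm := hgp.card_modEq_card_fixedPoints (K × K × K)
  rw [Nat.card_prod, Nat.card_prod, hcard] at hm
  let Fx : AddSubgroup (K × K × K) := (h.hom g).eqLocus (AddMonoidHom.id _)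
  have hFx : Nat.card (MulAction.fixedPoints (Subgroup.zpowers (g : Equiv.Perm (K × K × K))) (K × K × K)) =
      Nat.card Fx := Nat.card_congr (Equiv.subtypeEquivRight fun x => by
    constructor
    · intro hx
      exact hx ⟨_, Subgroup.mem_zpowers _⟩
    · rintro hx ⟨y, i, rfl⟩
      show ((g : Equiv.Perm (K × K × K)) ^ i) x = x
      exact Equiv.Perm.zpow_apply_eq_self_of_apply_eq_self hx i)
  rw [hFx] at hm
  have h729 : Nat.card Fx ∣ 3 ^ 6 := by
    have := Fx.card_addSubgroup_dvd_card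
    rwa [Nat.card_prod, Nat.card_prod, hcard] at this
  obtain ⟨j, hj6, hj⟩ := (Nat.dvd_prime_pow (by norm_num)).1 h729
  rw [hj] at hm
  have hj' : j = 6 := by
    rcases hcases with e | e <;> rw [e] at hm <;> interval_cases j <;>
      first | rfl | exact absurd hm (by decide)
  have htop : Fx = ⊤ := AddSubgroup.eq_top_of_card_eq _ (by
    rw [hj, hj', Nat.card_prod, Nat.card_prod, hcard]
    norm_num)
  have hg1 : g = 1 := Subtype.ext (Equiv.ext fun x => (htop.ge (AddSubgroup.mem_top x) : h.hom g x = x))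
  rw [hg1, orderOf_one] at hg
  omega

end Cfsg.Agent.SpFourCore.OddLin
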