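import Cfsg.Agent.Lib.SpFourCore.OddLin
import Cfsg.Agent.Lib.SpeTrace.Forms

/-!
# A fixed point of the centre makes the root group normal, apart from nine elements

The normalizer of the root group acts semilinearly on the centre, so it fixes the form
`Tr (η φ * η ψ)` on functionals.  The orbit sums of the root group vanish on such forms, so the
whole group fixes the form and hence the centre.
-/

set_option autoImplicit false
set_option linter.unusedSectionVars false
set_option linter.style.haveILetI false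

namespace Cfsg.Agent.SpFourCore.OddLin

open Cfsg.Agent.SpeTrace

variable {K : Type*} [Field K] {X : Subgroup (Equiv.Perm (K × K × K))} {p : ℕ} [Fact p.Prime]
  {U : Sylow p X} [CharP K p] [Finite K]

variable (h : Setup X U)
include h

/-- An element normalizing the root group and fixing a point of the centre is semilinear there. -/
theorem Setup.semilinear {g : X} (hg : g ∈ Subgroup.normalizer ((U : Subgroup X) : Set X)) {q₀ : K}
    (hq₀ : q₀ ≠ 0) (hfix : h.hom g (zpt q₀) = zpt q₀) :
    ∃ σ : K ≃+* K, ∀ e, h.hom g (zpt (q₀ * e)) = zpt (q₀ * σ e) := by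
  obtain ⟨hZ, hM⟩ := h.layers hg
  let δ : K → K := fun d => (h.hom g (zpt d)).2.2
  let γ : K → K := fun c => (h.hom g (0, c, 0)).2.1
  have hδ : ∀ d, h.hom g (zpt d) = zpt (δ d) := fun d => (hZ _ (isZ_zpt d)).eq
  have hδadd : ∀ x y, δ (x + y) = δ x + δ y := fun x y => by
    show (h.hom g (zpt (x + y))).2.2 = _
    rw [show zpt (x + y) = zpt x + zpt y by simp [zpt], _root_.map_add]
    rfl
  have hrel : ∀ t, ∃ τ, ∀ c, δ (t * c) = τ * γ c := fun t => by
    obtain ⟨τ, hτ⟩ := h.exists_sh ((Subgroup.mem_normalizer_iff.1 hg (h.sh t)).1 (h.sh_mem t))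
    refine ⟨τ, fun c => mul_left_cancel₀ h.two_ne ?_⟩
    have hsplit : h.hom g (h.hom (h.sh t) (0, c, 0)) = h.hom (h.sh τ) (h.hom g (0, c, 0)) := by
      rw [← h.hom_mul, ← h.hom_mul, ← hτ]
      congr 2
      group
    rw [h.hom_sh, h.hom_sh, show shift t (0, c, 0) = ((0, c, 0) : K × K × K) + zpt (2 * (t * c)) by
      ext <;> simp [zpt]; ring, _root_.map_add, hδ] at hsplit
    have h2 := congrArg (fun w : K × K × K => w.2.2) hsplit
    simp [zpt, hM (0, c, 0) rfl] at h2
    rw [two_mul (t * c), hδadd] at h2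
    simp only [γ]
    linear_combination h2
  choose τ hτ using hrel
  have hδinj : ∀ x, δ x = 0 → x = 0 := fun x hx => by
    have := hδ x
    rw [hx, show (zpt (0 : K)) = 0 from rfl, ← map_zero (h.hom g)] at this
    exact congrArg (fun w : K × K × K => w.2.2) (h.hom_injective g this)
  have h1 : δ 1 ≠ 0 := fun e => one_ne_zero (hδinj 1 e)
  have hmul : ∀ x y, δ (x * y) * δ 1 = δ x * δ y := fun x y => by
    have a := hτ x y
    have b := hτ x 1
    have c := hτ 1 y
    have d := hτ 1 1
    rw [mul_one] at b d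
    rw [one_mul] at c
    rw [a, b, c, d]
    ring
  have hq : δ q₀ = q₀ := by
    have := hδ q₀
    rw [hfix] at this
    exact (congrArg (fun w : K × K × K => w.2.2) this).symm
  let σ : K →+* K :=
    { toFun := fun e => δ (q₀ * e) / q₀
      map_one' := by rw [mul_one, hq, div_self hq₀]
      map_zero' := by
        rw [mul_zero, show δ 0 = 0 by simpa using hδadd 0 0, zero_div]
      map_add' := fun a b => by rw [mul_add, hδadd, add_div]
      map_mul' := fun a b => by
        have e1 := hmul (q₀ * a) (q₀ * b)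
        have e2 := hmul q₀ (q₀ * (a * b))
        rw [hq] at e2
        rw [show q₀ * (q₀ * (a * b)) = q₀ * a * (q₀ * b) by ring] at e2
        rw [div_mul_div_comm, ← e1, e2]
        field_simp }
  refine ⟨RingEquiv.ofBijective σ (Finite.injective_iff_bijective.1 σ.injective), fun e => ?_⟩
  rw [hδ, RingEquiv.ofBijective_apply]
  show zpt (δ (q₀ * e)) = zpt (q₀ * (δ (q₀ * e) / q₀))
  rw [mul_div_cancel₀ _ hq₀]

/-- **The root group is normal.** -/
theorem Setup.normal_of_fixed {q₀ : K} (hq₀ : q₀ ≠ 0)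
    (hfix : ∀ g : X, h.hom g (zpt q₀) = zpt q₀)
    (hbig : Nat.card K = p ∨ ∀ f, Nat.card K = p ^ f → 4 < (p - 1) * f) :
    (U : Subgroup X).Normal := by
  classical
  suffices hkeep : ∀ g : X, ∀ v, IsZ v → IsZ (h.hom g v) from
    ⟨fun u hu g => (Subgroup.mem_normalizer_iff.1 (h.mem_normalizer (hkeep g)) u).1 hu⟩
  have hp : p.Prime := Fact.out
  rcases hbig with hsmall | hbig
  · -- the centre consists of the multiples of the fixed point
    intro g v hv
    have : Fintype K := Fintype.ofFinite K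
    obtain ⟨n, hn⟩ : ∃ n : ℕ, n • q₀ = v.2.2 := by
      have hbij : Function.Bijective fun n : Fin p => (n : ℕ) • q₀ := by
        refine (Fintype.bijective_iff_injective_and_card _).2 ⟨fun a b e => ?_, by
          rw [Fintype.card_fin, ← Nat.card_eq_fintype_card, hsmall]⟩
        simp only [nsmul_eq_mul] at e
        have := CharP.natCast_injOn_Iio K p a.2 b.2 (mul_right_cancel₀ hq₀ e)
        exact Fin.ext this
      obtain ⟨n, hn⟩ := hbij.2 v.2.2
      exact ⟨n, hn⟩
    rw [hv.eq, ← hn, show zpt (n • q₀) = n • zpt q₀ by simp [zpt], map_nsmul, hfix]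
    simp [zpt, IsZ]
  letI := ZMod.algebra K p
  have : Fintype K := Fintype.ofFinite K
  -- functionals are traces
  let Φ : K →+ (K →+ ZMod p) := AddMonoidHom.mk'
    (fun a => (Algebra.trace (ZMod p) K).toAddMonoidHom.comp (AddMonoidHom.mulLeft a))
    fun a b => AddMonoidHom.ext fun x => by simp [add_mul]
  have hΦ : ∀ a x, Φ a x = Algebra.trace (ZMod p) K (a * x) := fun _ _ => rfl
  have hΦbij : Function.Bijective Φ := by
    refine ⟨(injective_iff_map_eq_zero Φ).2 fun a ha => ?_, fun φ => ?_⟩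
    · refine (traceForm_nondegenerate (ZMod p) K).1 a fun x => ?_
      rw [Algebra.traceForm_apply]
      exact (hΦ a x).symm.trans (by rw [ha]; rfl)
    · obtain ⟨a, ha⟩ := (LinearMap.BilinForm.toDual (Algebra.traceForm (ZMod p) K)
        (traceForm_nondegenerate (ZMod p) K)).surjective (φ.toZModLinearMap p)
      exact ⟨a, AddMonoidHom.ext fun x => by
        rw [hΦ, ← Algebra.traceForm_apply]
        exact LinearMap.congr_fun ha x⟩
  let E : K ≃+ (K →+ ZMod p) := AddEquiv.ofBijective Φ hΦbij
  let zh : K →+ K × K × K := AddMonoidHom.mk' (fun e => zpt (q₀ * e)) fun a b => by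
    simp [zpt, mul_add]
  let η : (K × K × K →+ ZMod p) →+ K := AddMonoidHom.mk' (fun φ => E.symm (φ.comp zh)) fun φ ψ => by
    rw [AddMonoidHom.add_comp, _root_.map_add]
  have hη : ∀ φ e, Algebra.trace (ZMod p) K (η φ * e) = φ (zpt (q₀ * e)) := fun φ e => by
    rw [← hΦ]
    exact congrArg (fun f : K →+ ZMod p => f e) (E.apply_symm_apply (φ.comp zh))
  letI act : DistribMulAction X (K × K × K →+ ZMod p) :=
    { smul := fun g φ => φ.comp (h.hom g⁻¹)
      one_smul := fun φ => AddMonoidHom.ext fun v => by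
        show φ (h.hom (1 : X)⁻¹ v) = φ v
        rw [inv_one]; rfl
      mul_smul := fun a b φ => AddMonoidHom.ext fun v => by
        show φ (h.hom (a * b)⁻¹ v) = φ (h.hom b⁻¹ (h.hom a⁻¹ v))
        rw [mul_inv_rev, h.hom_mul]
      smul_zero := fun g => AddMonoidHom.ext fun _ => rfl
      smul_add := fun g φ ψ => AddMonoidHom.ext fun _ => rfl }
  have hsmul : ∀ (g : X) (φ : K × K × K →+ ZMod p) v, (g • φ) v = φ (h.hom g⁻¹ v) := fun _ _ _ => rfl
  -- the form
  let Ω : Form p (fun _ : Fin 2 => K × K × K →+ ZMod p) :=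
    { toFun := fun v => Algebra.trace (ZMod p) K (η (v 0) * η (v 1))
      map_update_add' := fun v j a b => by
        fin_cases j <;> simp [Function.update, add_mul, mul_add] }
  have hΩ : ∀ v, Ω v = Algebra.trace (ZMod p) K (η (v 0) * η (v 1)) := fun _ => rfl
  have hΩM : ∀ g ∈ Subgroup.normalizer ((U : Subgroup X) : Set X), g • Ω = Ω := by
    intro g hg
    obtain ⟨σ, hσ⟩ := h.semilinear (inv_mem hg) hq₀ (hfix _)
    have htr : ∀ x, Algebra.trace (ZMod p) K (σ x) = Algebra.trace (ZMod p) K x := fun x =>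
      Algebra.trace_eq_of_algEquiv (AlgEquiv.ofRingEquiv (f := σ) fun r => by
        rw [← ZMod.natCast_zmod_val r, map_natCast, map_natCast]) x
    have key : ∀ φ, η (g⁻¹ • φ) = σ (η φ) := fun φ => by
      refine sub_eq_zero.1 ((traceForm_nondegenerate (ZMod p) K).1 _ fun e => ?_)
      rw [Algebra.traceForm_apply, sub_mul, map_sub, sub_eq_zero, hη, hsmul, inv_inv]
      conv_rhs => rw [← σ.apply_symm_apply e, ← map_mul, htr, hη]
      have h1 := hσ (σ.symm e)
      rw [σ.apply_symm_apply] at h1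
      rw [← h1, h.hom_inv' g]
    ext v
    rw [Form.smul_apply, hΩ, hΩ, key, key, ← map_mul, htr]
  -- the filtration
  let W : ℕ → AddSubgroup (K × K × K →+ ZMod p) := fun n =>
    { carrier := {φ | (1 ≤ n → ∀ v, IsZ v → φ v = 0) ∧
        (2 ≤ n → ∀ v : K × K × K, v.1 = 0 → φ v = 0) ∧ (3 ≤ n → φ = 0)}
      zero_mem' := ⟨fun _ _ _ => rfl, fun _ _ _ => rfl, fun _ => rfl⟩
      add_mem' := fun {a b} ha hb => ⟨fun hn v hv => by simp [ha.1 hn v hv, hb.1 hn v hv],
        fun hn v hv => by simp [ha.2.1 hn v hv, hb.2.1 hn v hv],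
        fun hn => by simp [ha.2.2 hn, hb.2.2 hn]⟩
      neg_mem' := fun {a} ha => ⟨fun hn v hv => by simp [ha.1 hn v hv],
        fun hn v hv => by simp [ha.2.1 hn v hv], fun hn => by simp [ha.2.2 hn]⟩ }
  have hW0 : W 0 = ⊤ := eq_top_iff.2 fun φ _ =>
    ⟨fun hn => absurd hn (by norm_num), fun hn => absurd hn (by norm_num), fun hn => absurd hn (by norm_num)⟩
  have hW3 : ∀ n, 3 ≤ n → W n = ⊥ := fun n hn => eq_bot_iff.2 fun φ hφ =>
    AddSubgroup.mem_bot.2 (hφ.2.2 hn)
  have hWanti : Antitone W := fun a b hab φ hφ =>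
    ⟨fun hn => hφ.1 (hn.trans hab), fun hn => hφ.2.1 (hn.trans hab), fun hn => hφ.2.2 (hn.trans hab)⟩
  have hmoves : ∀ t, Moves (h.sh t) W 1 := by
    intro t n φ hφ
    obtain ⟨s, hs⟩ := h.exists_sh (inv_mem (h.sh_mem t))
    have hval : ∀ v, (h.sh t • φ - φ) v = φ (shift s v - v) := fun v => by
      rw [AddMonoidHom.sub_apply, hsmul, hs, h.hom_sh, map_sub]
    refine ⟨fun _ v hv => ?_, fun hn v hv => ?_, fun hn => AddMonoidHom.ext fun v => ?_⟩
    · rw [hval, shift_isZ s hv, sub_self, map_zero]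
    · rw [hval]
      exact hφ.1 (by omega) _ (by constructor <;> simp [hv])
    · rw [hval]
      exact hφ.2.1 (by omega) _ (by simp)
  let F : ℕ → AddSubgroup (Form p (fun _ : Fin 2 => K × K × K →+ ZMod p)) :=
    fun n => Form.Deg (fun _ => W) 4 n
  obtain ⟨f, -, hf⟩ := FiniteField.card K p
  have hf' : Nat.card K = p ^ (f : ℕ) := by rw [Nat.card_eq_fintype_card, hf]
  have hcardU : Nat.card (U : Subgroup X) = p ^ (f : ℕ) := by
    rw [← hf']
    refine (Nat.card_congr (Equiv.ofBijective (fun t : K => (⟨h.sh t, h.sh_mem t⟩ : (U : Subgroup X)))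
      ⟨fun a b e => shift_injective (congrArg Subtype.val (congrArg Subtype.val e) :),
        fun u => ?_⟩)).symm
    obtain ⟨t, ht⟩ := h.exists_sh u.2
    exact ⟨t, Subtype.ext ht.symm⟩
  have hshift : ∀ n ≤ (f : ℕ), ∃ T : Subgroup X, T ≤ U ∧ Nat.card T = p ^ n ∧
      Shifts T F (n * (p - 1)) := by
    intro n hn
    induction n with
    | zero => exact ⟨⊥, bot_le, by simp, by rw [Nat.zero_mul]; exact shifts_bot F⟩
    | succ n ih =>
      obtain ⟨T, hTU, hTc, hTs⟩ := ih (by omega)
      obtain ⟨R, hRc, hTR⟩ := Sylow.exists_subgroup_card_pow_succ (G := (U : Subgroup X)) (p := p) (n := n)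
        (H := T.subgroupOf U)
        (by rw [hcardU]; exact pow_dvd_pow p hn)
        (by rw [Nat.card_congr (Subgroup.subgroupOfEquivOfLe hTU).toEquiv, hTc])
      set T' : Subgroup X := R.map (U : Subgroup X).subtype with hT'
      have hT'U : T' ≤ U := by
        rintro _ ⟨x, -, rfl⟩
        exact x.2
      have hT'c : Nat.card T' = p ^ (n + 1) := by
        rw [hT', Subgroup.card_map_of_injective Subtype.val_injective, hRc]
      have hle : T ≤ T' := fun x hx => ⟨⟨x, hTU hx⟩, hTR hx, rfl⟩
      obtain ⟨u, hu, huT⟩ : ∃ u ∈ T', u ∉ T := by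
        by_contra hc
        push Not at hc
        have := Subgroup.card_le_of_le (K := T) fun x hx => hc x hx
        rw [hT'c, hTc, pow_succ] at this
        have := hp.two_le
        nlinarith [pow_pos hp.pos n]
      have hrel : T.relIndex T' = p := by
        have := Subgroup.card_mul_index (T.subgroupOf T')
        rw [Nat.card_congr (Subgroup.subgroupOfEquivOfLe hle).toEquiv, hTc, hT'c, pow_succ] at this
        exact Nat.eq_of_mul_eq_mul_left (pow_pos hp.pos n) this
      have hup : u ^ p = 1 := by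
        obtain ⟨t, rfl⟩ := h.exists_sh (hT'U hu)
        refine Subtype.ext (Equiv.ext fun v => ?_)
        have hpow : ∀ j : ℕ, ((h.sh t ^ j : X) : Equiv.Perm (K × K × K)) v = shift (j * t) v := by
          intro j
          induction j with
          | zero => simp
          | succ j ih =>
            rw [pow_succ', Subgroup.coe_mul, Equiv.Perm.mul_apply, ih]
            show shift t (shift (j * t) v) = _
            simp only [shift_apply, Nat.cast_succ, Prod.mk.injEq]
            exact ⟨trivial, by ring, by ring⟩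
        rw [hpow, CharP.cast_eq_zero, zero_mul]
        simp
      refine ⟨T', hT'U, hT'c, ?_⟩
      rw [Nat.succ_mul]
      have hstep := shifts_step (F := F) (t := u) (s := 1) (fun y => Form.tors y) hle hu hrel
        (fun k hk hkp hmem => huT (by
          obtain ⟨j, hj⟩ : ∃ j : ℕ, u = (u ^ k) ^ j := by
            have hcop : Nat.Coprime k p := Nat.Coprime.symm (hp.coprime_iff_not_dvd.2
              fun hd => by have := Nat.le_of_dvd hk hd; omega)
            obtain ⟨j, -, hj⟩ := Nat.exists_mul_mod_eq_one_of_coprime hcop hp.one_lt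
            refine ⟨j, ?_⟩
            rw [← pow_mul, pow_eq_pow_mod _ hup, hj, pow_one]
          rw [hj]
          exact pow_mem hmem j)) hTs fun i y hy => ?_
      · rwa [Nat.mul_one] at hstep
      · obtain ⟨t, rfl⟩ := h.exists_sh (hT'U hu)
        exact Form.smul_sub_mem (fun _ => hWanti) (fun _ => hmoves t) hy
  obtain ⟨T, hTU, hTc, hTs⟩ := hshift f le_rfl
  have hTeq : T = U := Subgroup.eq_of_le_of_card_ge hTU (by rw [hTc, hcardU])
  subst hTeq
  have : Fintype (U : Subgroup X) := Fintype.ofFinite _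
  have hsum : ∀ y : Form p (fun _ : Fin 2 => K × K × K →+ ZMod p),
      ∑ t : (U : Subgroup X), (t : X) • y = 0 := fun y => by
    rw [← orbitSum_eq]
    refine orbitSum_eq_zero hTs (Form.deg_zero (d := fun _ => 3) (fun _ l hl => hW3 l hl) (by simp)) ?_ y
    exact Form.deg_eq_bot (fun _ => hW0) (by have := hbig f hf'; rw [Nat.mul_comm] at this; exact this)
  have hall : ∀ g : X, g • Ω = Ω := fixed_of_trace _ (U : Subgroup X) Subgroup.le_normalizer
    (fun x hx t ht htx => by
      by_contra ht1
      exact hx (h.ti ht ht1 htx)) hsum Ω hΩM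
  -- the kernel of the form
  have hker : ∀ (g : X) φ, η φ = 0 → η (g • φ) = 0 := by
    intro g φ hφ
    refine (traceForm_nondegenerate (ZMod p) K).1 _ fun x => ?_
    let ψ : K × K × K →+ ZMod p := (Φ x).comp (AddMonoidHom.mk' (fun v => v.2.2 / q₀)
      fun a b => by simp [add_div])
    have hψ : η ψ = x := by
      refine sub_eq_zero.1 ((traceForm_nondegenerate (ZMod p) K).1 _ fun e => ?_)
      rw [Algebra.traceForm_apply, sub_mul, map_sub, sub_eq_zero, hη]
      show Φ x (q₀ * e / q₀) = _
      rw [mul_div_cancel_left₀ _ hq₀, hΦ]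
    have h1 := DFunLike.congr_fun (hall g⁻¹) (fun j => if j = 0 then φ else g⁻¹ • ψ)
    rw [Form.smul_apply, hΩ, hΩ, inv_inv] at h1
    simp [hφ, hψ, smul_smul] at h1
    rw [Algebra.traceForm_apply]
    exact h1
  intro g v hv
  have hall0 : ∀ φ : K × K × K →+ ZMod p, (∀ w, IsZ w → φ w = 0) → φ (h.hom g v) = 0 := by
    intro φ hφ
    have h0 : η φ = 0 := by
      refine (traceForm_nondegenerate (ZMod p) K).1 _ fun e => ?_
      rw [Algebra.traceForm_apply, hη]
      exact hφ _ (isZ_zpt _)
    have h1 := hη (g⁻¹ • φ) (v.2.2 / q₀)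
    rw [hker _ _ h0, zero_mul, map_zero, mul_div_cancel₀ _ hq₀, ← hv.eq, hsmul, inv_inv] at h1
    exact h1.symm
  constructor
  · refine (traceForm_nondegenerate (ZMod p) K).1 _ fun x => ?_
    rw [Algebra.traceForm_apply, mul_comm]
    exact hall0 ((Φ x).comp (AddMonoidHom.fst K (K × K))) fun w hw => by simp [hw.1]
  · refine (traceForm_nondegenerate (ZMod p) K).1 _ fun x => ?_
    rw [Algebra.traceForm_apply, mul_comm]
    exact hall0 ((Φ x).comp ((AddMonoidHom.fst K K).comp (AddMonoidHom.snd K (K × K)))) fun w hw => by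
      simp [hw.2]

end Cfsg.Agent.SpFourCore.OddLin
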