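import Cfsg.Agent.Lib.SpFourCore.OddW
import Cfsg.Agent.Lib.SpFourCore.OddTrace
import Cfsg.Agent.Lib.SpFourCore.OddNine

/-!
# Odd characteristic: a nontrivial normal subgroup makes the system constrained
-/

set_option autoImplicit false
set_option linter.unusedSectionVars false
set_option linter.style.haveILetI false

namespace Cfsg.Agent.SpFourCore

open Cfsg Cfsg.FusionSystem Cfsg.Agent.Fusion.Basic Cfsg.Agent.Fusion.Saturation
  Cfsg.Agent.Fusion.Normal Cfsg.Agent.Fusion.Alperin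

open Syl

variable {K : Type*} [Field K]

namespace Syl

/-- Coordinates on the abelian maximal subgroup. -/
def coordV : (subA : Subgroup (Syl K)) ≃ K × K × K where
  toFun x := (x.1.b, x.1.c, x.1.d)
  invFun v := ⟨⟨0, v.1, v.2.1, v.2.2⟩, rfl⟩
  left_inv x := Subtype.ext (Syl.ext x.2.symm rfl rfl rfl)
  right_inv _ := rfl

theorem coordV_mul (x y : (subA : Subgroup (Syl K))) : coordV (x * y) = coordV x + coordV y := by
  have hx : x.1.a = 0 := x.2
  ext <;> simp [coordV, hx]

theorem coordV_conj [Finite K] (g : Syl K) :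
    autPerm coordV (MulAut.conjNormal g) = OddLin.shift g.a := by
  refine Equiv.ext fun v => ?_
  rw [autPerm_apply]
  show ((_ : Syl K).b, (_ : Syl K).c, (_ : Syl K).d) = _
  rw [MulAut.conjNormal_apply, conj_eq]
  simp [coordV]

end Syl

variable [Finite K] {p : ℕ} [Fact p.Prime] [CharP K p]
  {F : FusionSystem (⊤ : Subgroup (Syl K))}

/-- The maximal abelian subgroup and a preimage of a line are not both essential. -/
theorem subA_wSub_false (hF : F.IsSaturated p) (h2 : (2 : K) ≠ 0) {Q : Subgroup (Syl K)}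
    (hQ : F.IsNormal Q) (hQ1 : Q ≠ ⊥) (hQZ : Q ≤ Subgroup.center (Syl K))
    (hA : F.IsEssential p (subA : Subgroup (Syl K)))
    (hhat : ∀ k : K, k ≠ 0 → ∃ θ ∈ topAut F, ∃ m, IsHat θ m k) : False := by
  classical
  have hG : IsPGroup p (Syl K) := Syl.isPGroup
  let X := autImage F (coordV : (subA : Subgroup (Syl K)) ≃ K × K × K)
  obtain ⟨(U : Sylow p X), hU⟩ :=
    exists_sylow_autImage hG hF (coordV : (subA : Subgroup (Syl K)) ≃ K × K × K)
  have hU' : ∀ x : X, x ∈ U ↔ ∃ t, (x : Equiv.Perm (K × K × K)) = OddLin.shift t := fun x =>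
    (hU x).trans ⟨fun ⟨g, hg⟩ => ⟨g.a, hg.trans (coordV_conj g)⟩,
      fun ⟨t, ht⟩ => ⟨⟨t, 0, 0, 0⟩, ht.trans (coordV_conj ⟨t, 0, 0, 0⟩).symm⟩⟩
  have hn := not_normal_autImage hG hF coordV hA hU
  refine hn ?_
  have hQA : Q ≤ (subA : Subgroup (Syl K)) := fun x hx =>
    ((mem_center_iff_of_two_ne h2 x).1 (hQZ hx)).1
  have hQe : ∀ q ∈ Q, q = (⟨0, 0, 0, q.d⟩ : Syl K) := fun q hq => by
    obtain ⟨e1, e2, e3⟩ := (mem_center_iff_of_two_ne h2 q).1 (hQZ hq)
    exact Syl.ext e1 e2 e3 rfl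
  -- the pointwise stabilizer of the normal subgroup
  let fixes : Equiv.Perm (K × K × K) → Prop := fun g =>
    ∀ q ∈ Q, g (OddLin.zpt q.d) = OddLin.zpt q.d
  let C : Subgroup X :=
    { carrier := {g | fixes g}
      one_mem' := fun _ _ => rfl
      mul_mem' := fun {a b} ha hb q hq => by
        show (a : Equiv.Perm (K × K × K)) ((b : Equiv.Perm (K × K × K)) _) = _
        rw [hb q hq, ha q hq]
      inv_mem' := fun {a} ha q hq => by
        show (a : Equiv.Perm (K × K × K)).symm _ = _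
        rw [Equiv.symm_apply_eq, ha q hq] }
  have hCn : C.Normal := ⟨fun b hb a q hq => by
    obtain ⟨α, hα, hαa⟩ := (a⁻¹ : X).2
    have h1 : ((a⁻¹ : X) : Equiv.Perm (K × K × K)) (OddLin.zpt q.d) =
        OddLin.zpt (autFun α q).d ∧ autFun α q ∈ Q := by
      have hin : autFun α q ∈ Q :=
        (normal_img_eq hQ (isMap_of_mem_autGroup le_top hα) hQA) ▸ mem_img_self _ hq
      refine ⟨?_, hin⟩
      rw [← hαa, autPerm_apply]
      have e : (coordV : (subA : Subgroup (Syl K)) ≃ K × K × K).symm (OddLin.zpt q.d) =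
          ⟨q, hQA hq⟩ := Subtype.ext (hQe q hq).symm
      rw [e]
      obtain ⟨e1, e2, e3⟩ := (mem_center_iff_of_two_ne h2 _).1 (hQZ hin)
      rw [autFun_of_mem α (hQA hq)] at e2 e3 ⊢
      exact Prod.ext e2 (Prod.ext e3 rfl)
    show (a : Equiv.Perm (K × K × K)) ((b : Equiv.Perm (K × K × K))
      (((a⁻¹ : X) : Equiv.Perm (K × K × K)) (OddLin.zpt q.d))) = _
    rw [h1.1, hb _ h1.2, ← h1.1]
    exact Equiv.apply_symm_apply (a : Equiv.Perm (K × K × K)) _⟩
  have hUC : (U : Subgroup X) ≤ C := fun u hu q _ => by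
    obtain ⟨t, ht⟩ := (hU' u).1 hu
    show (u : Equiv.Perm (K × K × K)) _ = _
    rw [ht]
    exact OddLin.shift_isZ t (OddLin.isZ_zpt _)
  let C' : Subgroup (Equiv.Perm (K × K × K)) := C.map X.subtype
  let UC : Sylow p C := U.subtype hUC
  let U₁ : Sylow p C' := UC.mapSurjective (X.subtype.subgroupMap_surjective C)
  have hS : OddLin.Setup C' U₁ := by
    refine ⟨?_, ?_, fun t => ?_, h2⟩
    · rintro ⟨_, g, hg, rfl⟩ v w
      exact autImage_map_add coordV coordV_mul g v w
    · rintro ⟨_, g, hg, rfl⟩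
      constructor
      · rintro ⟨x, hx, hxg⟩
        obtain ⟨t, ht⟩ := (hU' _).1 (show (x : X) ∈ U from hx)
        exact ⟨t, (congrArg Subtype.val hxg).symm.trans ht⟩
      · rintro ⟨t, ht⟩
        exact ⟨⟨g, hg⟩, (hU' g).2 ⟨t, ht⟩, rfl⟩
    · have hmem : OddLin.shift t ∈ X := coordV_conj (⟨t, 0, 0, 0⟩ : Syl K) ▸ conj_mem_autImage coordV _
      exact ⟨⟨_, hmem⟩, hUC ((hU' _).2 ⟨t, rfl⟩), rfl⟩
  obtain ⟨q, hq, hq1⟩ : ∃ q ∈ Q, q ≠ 1 := by
    obtain ⟨z, hz⟩ := Subgroup.ne_bot_iff_exists_ne_one.1 hQ1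
    exact ⟨z.1, z.2, fun h => hz (Subtype.ext h)⟩
  have hq0 : q.d ≠ 0 := fun e => hq1 (by rw [hQe q hq, e]; rfl)
  have hfix : ∀ g : C', hS.hom g (OddLin.zpt q.d) = OddLin.zpt q.d := by
    rintro ⟨_, g, hg, rfl⟩
    exact hg q hq
  have hnor : (U₁ : Subgroup C').Normal := by
    have : Fintype K := Fintype.ofFinite K
    by_cases hcard : Nat.card K = 9
    · refine hS.normal_of_nine hcard hq0 hfix fun k hk => ?_
      obtain ⟨θ, hθ, m, hh⟩ := hhat k hk
      obtain ⟨α, hα, hαθ⟩ := exists_restrict hθ (fun x hx => map_mem_subA h2 θ hx)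
      have hval : ∀ v, autPerm (coordV : (subA : Subgroup (Syl K)) ≃ K × K × K) α v =
          ((θ ⟨0, v.1, v.2.1, v.2.2⟩).b, (θ ⟨0, v.1, v.2.1, v.2.2⟩).c, (θ ⟨0, v.1, v.2.1, v.2.2⟩).d) :=
        fun v => by
          rw [autPerm_apply, ← hαθ _ (show (⟨0, v.1, v.2.1, v.2.2⟩ : Syl K) ∈ (subA : Subgroup (Syl K))
            from rfl), autFun_of_mem]
          rfl
      have hZfix : ∀ d, autPerm (coordV : (subA : Subgroup (Syl K)) ≃ K × K × K) α (OddLin.zpt d) =
          OddLin.zpt d := fun d => by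
        rw [hval]
        simp only [OddLin.zpt]
        rw [hh.center _ ((mem_center_iff_of_two_ne h2 _).2 ⟨rfl, rfl, rfl⟩)]
      refine ⟨⟨_, ⟨⟨_, α, hα, rfl⟩, fun x _ => hZfix x.d, rfl⟩⟩, fun v hv => ?_, fun v => ?_, fun v hv => ?_⟩
      · rw [hv.eq]
        exact hZfix _
      · show (autPerm _ α v).1 = _
        rw [hval]
        exact hh.snd _ rfl
      · show (autPerm _ α v).2.1 = _
        rw [hval]
        exact hh.third ⟨0, v.1, v.2.1, v.2.2⟩ rfl hv
    · refine hS.normal_of_fixed hq0 hfix ?_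
      obtain ⟨f, hp, hf⟩ := FiniteField.card K p
      rw [← Nat.card_eq_fintype_card] at hf
      rcases eq_or_ne (f : ℕ) 1 with h1 | h1
      · exact Or.inl (by rw [hf, h1, pow_one])
      refine Or.inr fun n hn => ?_
      obtain rfl : n = f := (Nat.pow_right_injective hp.two_le (hf.symm.trans hn)).symm
      have hp2 : p ≠ 2 := fun e => h2 (by
        have := CharP.cast_eq_zero K p
        rw [e] at this
        exact_mod_cast this)
      have hp3 := hp.two_le
      have hf2 : 2 ≤ (f : ℕ) := by have := f.pos; omega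
      by_cases h5 : p = 3
      · subst h5
        rcases Nat.lt_or_ge (f : ℕ) 3 with h6 | h6
        · exact absurd (by rw [hf, show (f : ℕ) = 2 by omega]; rfl) hcard
        · omega
      · have h4 : 4 ≤ p := by omega
        calc 4 < 3 * 2 := by norm_num
          _ ≤ _ := Nat.mul_le_mul (by omega) hf2
  -- normality passes to the whole automizer
  have hUCn : (UC : Subgroup C).Normal := ⟨fun b hb a => by
    obtain ⟨y, hy, hye⟩ := hnor.conj_mem _ ⟨b, hb, rfl⟩ (X.subtype.subgroupMap C a)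
    rw [← map_inv, ← map_mul, ← map_mul] at hye
    have : y = a * b * a⁻¹ := Subtype.ext (Subtype.val_injective (congrArg Subtype.val hye :))
    exact this ▸ hy⟩
  exact ⟨fun u hu g => by
    have hgu : g * u * g⁻¹ ∈ C := hCn.conj_mem u (hUC hu) g
    let D : Subgroup C := (Subgroup.zpowers (g * u * g⁻¹)).subgroupOf C
    have hp : IsPGroup p D := by
      refine IsPGroup.comap_subtype ?_
      have := (U.2.to_le (Subgroup.zpowers_le.2 hu)).map (MulAut.conj g).toMonoidHom
      rwa [MonoidHom.map_zpowers] at this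
    exact ((UC.3 (UC.2.to_sup_of_normal_left hp) le_sup_left).le
      (Subgroup.mem_sup_right (Subgroup.mem_subgroupOf.2 (Subgroup.mem_zpowers _))) :
        (⟨_, hgu⟩ : C) ∈ (UC : Subgroup C))⟩

/-- **Odd characteristic.** -/
theorem odd_constrained (hF : F.IsSaturated p) (h2 : (2 : K) ≠ 0) {Q : Subgroup (Syl K)}
    (hQ : F.IsNormal Q) (hQ1 : Q ≠ ⊥) : F.IsConstrained p := by
  classical
  have hG : IsPGroup p (Syl K) := Syl.isPGroup
  by_cases hQZ : Q ≤ Subgroup.center (Syl K)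
  swap
  · -- a point of the second centre in the subgroup has abelian centralizer
    obtain ⟨x, hx, hxZ⟩ := SetLike.not_le_iff_exists.1 hQZ
    have hnorm := le_normalizer_of_stronglyClosed (normal_stronglyClosed hQ)
    obtain ⟨w, hw, hwa, hwZ⟩ : ∃ w ∈ Q, w.a = 0 ∧ w ∉ Subgroup.center (Syl K) := by
      by_cases hxa : x.a = 0
      · exact ⟨x, hx, hxa, hxZ⟩
      set g : Syl K := ⟨0, 1, 0, 0⟩
      refine ⟨g * x * g⁻¹ * x⁻¹, Q.mul_mem ((Subgroup.mem_normalizer_iff.1
        (hnorm (Subgroup.mem_top g)) x).1 hx) (Q.inv_mem hx), (comm_apply g x).1, fun hc => hxa ?_⟩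
      have := ((mem_center_iff_of_two_ne h2 _).1 hc).2.2
      rw [(comm_apply g x).2.2] at this
      simpa [g] using this
    exact constrained_of_abelian hG hF hQ fun y z hy hz =>
      comm_subA y z (a_eq_zero_of_commute h2 hwZ hwa (hy w hw))
        (a_eq_zero_of_commute h2 hwZ hwa (hz w hw))
  have hess := fun E (hE : F.IsEssential p E) => essential_odd hF h2 hQ hQ1 hQZ hE
  by_cases hex : ∃ m, F.IsEssential p (wSub m) ∧ ∀ α ∈ F.autGroup (wSub m),
      ∀ x ∈ Subgroup.center (Syl K), autFun α x ∈ Subgroup.center (Syl K)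
  swap
  · refine constrained_of_single hG hF subA (fun E hE => ?_) fun _ θ _ x hx => map_mem_subA h2 θ hx
    rcases hess E hE with e | ⟨m, rfl, hm⟩
    · exact e
    · exact absurd ⟨m, hE, hm⟩ hex
  obtain ⟨m, hm, hmZ⟩ := hex
  obtain ⟨t, ht, hht⟩ := exists_hat hF h2 hm hmZ (k := -1) (neg_ne_zero.2 one_ne_zero)
  by_cases hA : F.IsEssential p (subA : Subgroup (Syl K))
  · exact (subA_wSub_false hF h2 hQ hQ1 hQZ hA fun k hk => by
      obtain ⟨θ, hθ, hh⟩ := exists_hat hF h2 hm hmZ hk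
      exact ⟨θ, hθ, m, hh⟩).elim
  refine constrained_of_single hG hF (wSub m) (fun E hE => ?_) fun _ θ hθ x hx => ?_
  · rcases hess E hE with rfl | ⟨m', rfl, hm'⟩
    · exact absurd hE hA
    obtain ⟨t', ht', hht'⟩ := exists_hat hF h2 hE hm' (k := -1) (neg_ne_zero.2 one_ne_zero)
    have h1 : (⟨1, m', 0, 0⟩ : Syl K) ∈ wSub m := by
      rw [mem_wSub_iff_of_hat h2 hht, tlike_unique hF h2 ht ht' hht.tlike hht'.tlike,
        ← mem_wSub_iff_of_hat h2 hht']
      simp
    rw [mem_wSub, mul_one] at h1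
    rw [show m' = m from h1]
  · -- conjugating the involution gives another one of the same kind
    set s := θ * t * θ⁻¹ with hs
    have hsmem : s ∈ topAut F := mul_mem (mul_mem hθ ht) (inv_mem hθ)
    have hinvA : ∀ x : Syl K, x.a = 0 → (θ⁻¹ x).a = 0 := fun x hx => map_mem_subA h2 θ⁻¹ hx
    have hsT : TLike s := by
      refine ⟨fun y => ?_, fun x hx => ?_⟩
      · have e : (θ⁻¹ y * t (θ⁻¹ y)).a = 0 := by simp [hht.tlike.1]
        have e2 := map_mem_subA h2 θ (mem_subA.2 e)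
        rw [mem_subA, map_mul, MulAut.apply_inv_self, mul_a] at e2
        rw [hs, MulAut.mul_apply, MulAut.mul_apply]
        linear_combination e2
      · have e : (θ⁻¹ x)⁻¹ * t (θ⁻¹ x) ∈ subAB :=
          mem_subAB.2 ⟨by rw [mul_a, inv_a, hht.tlike.1, hinvA x hx]; simp,
            by rw [mul_b, inv_b, hht.tlike.2 _ (hinvA x hx)]; simp⟩
        have e2 := (mem_subAB.1 (map_mem_subAB h2 θ e)).2
        rw [map_mul, map_inv, MulAut.apply_inv_self, mul_b, inv_b] at e2
        rw [hs, MulAut.mul_apply, MulAut.mul_apply]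
        linear_combination e2
    have hxb := (mem_wSub_iff_of_hat h2 hht x).1 hx
    rw [mem_wSub_iff_of_hat h2 hht, tlike_unique hF h2 ht hsmem hht.tlike hsT, hs, MulAut.mul_apply,
      MulAut.mul_apply, MulAut.inv_apply_self]
    have e : x * t x ∈ subAB := mem_subAB.2 ⟨by simp [hht.tlike.1], by simp [hxb]⟩
    have e2 := (mem_subAB.1 (map_mem_subAB h2 θ e)).2
    rw [map_mul, mul_b] at e2
    linear_combination e2

end Cfsg.Agent.SpFourCore
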