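import Cfsg.Agent.Lib.SpFourCore.Standard.GroupSystem

/-!
# The standard systems for `|K| ≤ 4` are realizable
-/

set_option autoImplicit false
set_option linter.unusedSectionVars false

namespace Cfsg.Agent.SpFourCore

open Cfsg Cfsg.FusionSystem Cfsg.Agent.Fusion.Basic Cfsg.Agent.Fusion.RankTwoSystems
open Cfsg.Agent.SpFourCore.Standard EvenLin

namespace Standard

variable {K : Type} [Field K] [Fintype K] [CharP K 2]

/-- The core hypotheses of a standard system. -/
theorem core_of_isStandard (hp : ∀ x : K, x ^ 4 = x)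
    {F : FusionSystem (⊤ : Subgroup (Syl K))} (h : IsStandard F) : Core F := by
  have : Fact (Nat.Prime 2) := ⟨Nat.prime_two⟩
  have hmove : ∀ (P : Subgroup (Syl K)) [P.Normal] (e : P ≃ K × K × K) (r : Syl K → K),
      IsChart P e r → F.IsEssential 2 P → Moves F P := by
    intro P _ e r hC hE
    obtain ⟨U, hS, hU⟩ := hC.exists_setup h.saturated
    have hn := not_normal_autImage Syl.isPGroup h.saturated e hE hU
    obtain ⟨x, hx⟩ := hS.exists_move hn
    obtain ⟨α, hα, hαx⟩ := mem_autImage_autFun x.2
    by_contra hno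
    refine hx (AddSubgroup.eq_of_le_of_card_ge ?_ ?_)
    · rintro _ ⟨v, hv, rfl⟩
      rw [EvenLin.mem_centre, ← hC.centre]
      show (e.symm ((x : Equiv.Perm (K × K × K)) v) : Syl K).a = 0 ∧
        (e.symm ((x : Equiv.Perm (K × K × K)) v) : Syl K).b = 0
      rw [hαx]
      by_contra hv'
      obtain ⟨h1, h2⟩ := (hC.centre v).2 hv
      exact hno ⟨α, hα, _, SetLike.coe_mem _, h1, h2, hv'⟩
    · rw [hS.natCard_line, natCard_centre]
  exact ⟨h.saturated, h.long_A, h.long_B, hmove _ _ _ isChartA h.essential_A,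
    hmove _ _ _ (isChartB hp) h.essential_B⟩

/-- Two normal forms with the same invariant give the same system after twisting the embedding. -/
theorem eq_of_forms (hp : ∀ x : K, x ^ 4 = x) {F : FusionSystem (⊤ : Subgroup (Syl K))}
    (hF : F.IsSaturated 2) {G : Type} [Group G] [Finite G] {ι : Syl K →* G}
    (hι : Function.Injective ι) {T : Sylow 2 G} (hT : (T : Subgroup G) = ι.range) {out : Prop}
    {fA gA fB gB fA' gA' fB' gB' : K →+ K} (hFF : IsForm hp F out fA gA fB gB)
    (hE : IsForm hp (gSys hι hT) out fA' gA' fB' gB') :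
    F.IsRealizable 2 := by
  have : Fact (Nat.Prime 2) := ⟨Nat.prime_two⟩
  set φ := phi fA gA fB gB
  set φ' := phi fA' gA' fB' gB'
  have hφ : φ⁻¹ = φ := shiftAut_inv _ _ _ _
  have hφ' : φ'⁻¹ = φ' := shiftAut_inv _ _ _ _
  let ψ : MulAut (Syl K) := φ' * φ
  have hψ : ψ⁻¹ = φ * φ' := by rw [_root_.mul_inv_rev, hφ, hφ']
  let ι' : Syl K →* G := ι.comp ψ.toMonoidHom
  have hι' : Function.Injective ι' := hι.comp ψ.injective
  have hT' : (T : Subgroup G) = ι'.range := by
    refine hT.trans ?_
    show ι.range = (ι.comp ψ.toMonoidHom).range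
    rw [MonoidHom.range_comp, (MonoidHom.range_eq_top (f := ψ.toMonoidHom)).2 ψ.surjective,
      ← MonoidHom.range_eq_map]
  set E := gSys hι' hT'
  suffices heq : F = E by rw [heq]; exact sysOf_realizable _
  have hψinv : ∀ x, ι x = ι' (ψ⁻¹ x) := fun x => by
    show ι x = ι (ψ (ψ⁻¹ x))
    rw [MulAut.inv_apply, ψ.apply_symm_apply]
  -- the automizers in coordinates
  have himg : ∀ {P : Subgroup (Syl K)} [P.Normal] (e : P ≃ K × K × K) (f g f' g' : K →+ K),
      (∀ v, φ (e.symm v : Syl K) = (e.symm (twist f g v) : Syl K)) →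
      (∀ v, φ' (e.symm v : Syl K) = (e.symm (twist f' g' v) : Syl K)) →
      twisted (autImage F e) f g = twisted (autImage (gSys hι hT) e) f' g' →
      F.autGroup P = E.autGroup P := by
    intro P _ e f g f' g' hf hf' he
    have ht : ∀ v, ψ (e.symm v : Syl K) = (e.symm ((twist f' g' * twist f g) v) : Syl K) := fun v => by
      rw [MulAut.mul_apply, hf, hf']; rfl
    have hti : ∀ v, ψ⁻¹ (e.symm v : Syl K) = (e.symm ((twist f g * twist f' g') v) : Syl K) := fun v => by
      rw [hψ, MulAut.mul_apply, hf', hf]; rfl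
    have hinv : (twist f' g' * twist f g)⁻¹ = twist f g * twist f' g' := by
      rw [_root_.mul_inv_rev, twist_inv, twist_inv]
    have key : autImage F e = autImage E e := by
      ext x
      have hiff : x ∈ autImage F e ↔
          twist f' g' * twist f g * x * (twist f g * twist f' g') ∈ autImage (gSys hι hT) e := by
        have h1 : x ∈ autImage F e ↔ twist f g * x * twist f g ∈ twisted (autImage F e) f g := by
          rw [mem_twisted]
          simp only [mul_assoc, twist_self, mul_one]
          rw [← mul_assoc, twist_self, one_mul]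
        rw [h1, he, mem_twisted]
        simp only [mul_assoc]
      rw [hiff]
      constructor
      · intro h
        have := mem_autImage_comp hι' hT' e ψ⁻¹ _ hti hι hψinv hT h
        convert this using 1
        rw [_root_.mul_inv_rev, twist_inv, twist_inv]
        simp only [mul_assoc, twist_self, mul_one]
        simp only [← mul_assoc, twist_self, one_mul]
        simp [mul_assoc, twist_self]
      · intro h
        have := mem_autImage_comp hι hT e ψ _ ht hι' (fun _ => rfl) hT' h
        rwa [hinv] at this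
    have hinj := Subgroup.map_injective (autPerm_injective e) (G := MulAut P)
    exact hinj key
  have hA := himg chartA fA gA fA' gA' (phi_A _ _ _ _) (phi_A _ _ _ _) (hFF.imgA.trans hE.imgA.symm)
  have hB := himg (chartB hp) fB gB fB' gB' (phi_B hp _ _ _ _) (phi_B hp _ _ _ _)
    (hFF.imgB.trans hE.imgB.symm)
  have hS : F.autGroup ⊤ = E.autGroup ⊤ := by
    refine Subgroup.map_injective
      (f := (MulAut.congr (Subgroup.topEquiv (G := Syl K))).toMonoidHom)
      (MulEquiv.injective (MulAut.congr (Subgroup.topEquiv (G := Syl K)))) ?_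
    show topAut F = topAut E
    ext θ
    rw [mem_topAut_comp hι hT ψ hι' (fun _ => rfl) hT', hFF.top, hE.top]
    have e : φ' * (ψ * θ * ψ⁻¹) * φ' = φ * θ * φ := by
      rw [hψ]
      have h2 : φ' * φ' = 1 := by nth_rewrite 1 [← hφ']; exact inv_mul_cancel _
      simp only [ψ, mul_assoc, h2, mul_one]
      rw [← mul_assoc φ' φ', h2, one_mul]
    rw [e]
  have hsat : E.IsSaturated 2 := sysOf_saturated _
  refine eq_of_autGroup ((Syl.isPGroup (K := K)).to_subgroup ⊤) hF hsat (fun P hP => ?_) fun P hP => ?_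
  · rcases hP with rfl | hP
    · exact hS.le
    · rcases essential_even hF hP with rfl | rfl
      exacts [hA.le, hB.le]
  · rcases hP with rfl | hP
    · exact hS.ge
    · rcases essential_even hsat hP with rfl | rfl
      exacts [hA.ge, hB.ge]

end Standard

/-- **Standard systems are realizable.** -/
theorem standard_realizable {K : Type} [Field K] [Fintype K] [CharP K 2]
    (hq : Fintype.card K ≤ 4) (F : FusionSystem (⊤ : Subgroup (Syl K))) (h : IsStandard F) :
    ∃ (G : Type) (_ : Group G) (_ : Finite G) (ι : (⊤ : Subgroup (Syl K)) →* G),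
      F.IsRealizedBy ι ∧ ∃ T : Sylow 2 G, (T : Subgroup G) = ι.range := by
  have hp := pow_four hq
  have hF := core_of_isStandard hp h
  obtain ⟨fA, gA, fB, gB, hform⟩ := hF.exists_form hp
  obtain ⟨G, gG, fG, ι, hι, ⟨T, hT⟩, hd, hA, hB, hno, hout⟩ := exists_group hq (OuterOf F)
  have hE := core_gSys hι hT hd hA hB
  obtain ⟨fA', gA', fB', gB', hformE⟩ := hE.exists_form hp
  have hout' : OuterOf (gSys hι hT) = OuterOf F := by
    refine propext ⟨fun ⟨θ, hθ, k, l, hne, hcoord⟩ => ?_, fun hO => ?_⟩
    · by_contra hn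
      obtain ⟨g, hg⟩ := (mem_topAut_gSys hι hT).1 hθ
      have hgn : g ∈ Subgroup.normalizer ((ι.range : Subgroup G) : Set G) :=
        Groups.mem_normalizer_of_conj (by rintro _ ⟨s, rfl⟩; exact ⟨θ s, hg s⟩)
      obtain ⟨c, hc⟩ := hno hn g hgn
      have e := hc ⟨1, 1, 0, 0⟩ (θ ⟨1, 1, 0, 0⟩) (hg _).symm
      rw [(hcoord _).1, (hcoord _).2, mul_one, mul_one, mul_one] at e
      exact hne (e.1.trans e.2.symm)
    · obtain ⟨θ, hθ, k, l, hne, hcoord⟩ := hO
      have hex : ∃ k : K, k ≠ 0 ∧ k ≠ 1 := by
        by_contra hc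
        push Not at hc
        have hk : k ≠ 0 := fun e => by
          have h1 := congrArg Syl.a (θ.apply_symm_apply (⟨1, 0, 0, 0⟩ : Syl K))
          rw [(hcoord _).1, e, zero_mul] at h1
          exact one_ne_zero h1.symm
        have hl : l ≠ 0 := fun e => by
          have h1 := congrArg Syl.b (θ.apply_symm_apply (⟨0, 1, 0, 0⟩ : Syl K))
          rw [(hcoord _).2, e, zero_mul] at h1
          exact one_ne_zero h1.symm
        exact hne ((hc k hk).trans (hc l hl).symm)
      obtain ⟨r, hr0, hr1⟩ := hex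
      obtain ⟨g, hgn, hg⟩ := hout ⟨θ, ‹_›, k, l, hne, hcoord⟩ r hr0
      choose η hη using hg
      have hm : IsMap (gSys hι hT) ⊤ η := (isMap_gSys hι hT).2 ⟨g, fun x _ => (hη x).1.symm⟩
      obtain ⟨θ', hθ', he⟩ := exists_topAut hm
      exact ⟨θ', hθ', r, 1, hr1, fun x => by
        rw [he, one_mul]; exact (hη x).2⟩
  rw [hout'] at hformE
  exact eq_of_forms hp h.saturated hι hT hform hformE

end Cfsg.Agent.SpFourCore
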