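import Cfsg.Agent.Lib.Fusion.Transport
import Cfsg.Agent.Lib.Fusion.SympBlocks
import Cfsg.Agent.Lib.Fusion.SimplePSp
import Cfsg.Agent.Lib.SpFourCore.Base

/-!
# From a Sylow subgroup of `Sp₄` to the model
-/

set_option autoImplicit false
set_option linter.unusedSectionVars false
set_option linter.style.haveILetI false

namespace Cfsg.Agent.SpFourCore

open Cfsg Cfsg.FusionSystem Cfsg.Agent.Fusion.Basic Cfsg.Agent.Fusion.Saturation
  Cfsg.Agent.Fusion.Normal Cfsg.Agent.Fusion.Transport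
open Matrix Cfsg.Agent.Fusion.SympBlocks

universe u v

section Sylow

variable {K : Type v} [Field K]

/-- The symmetric matrix of the long root data. -/
def symS (x : Syl K) : Matrix (Fin 2) (Fin 2) K := !![x.d, x.c; x.c, x.b]

theorem symS_isSymm (x : Syl K) : (symS x).IsSymm := by
  ext i j
  fin_cases i <;> fin_cases j <;> rfl

/-- The unitriangular matrix of the short root. -/
def uniW (x : Syl K) : Matrix.SpecialLinearGroup (Fin 2) K :=
  ⟨!![1, x.a; 0, 1], by simp [Matrix.det_fin_two]⟩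

theorem uniW_mem (x : Syl K) : uniW x ∈ Cfsg.Agent.AutPSL.Roots.unitriSL := by
  refine ⟨fun i j h => ?_, fun i => ?_⟩
  · fin_cases i <;> fin_cases j <;> first | rfl | exact absurd h (by decide)
  · fin_cases i <;> rfl

theorem uniW_mul (x y : Syl K) : uniW (x * y) = uniW x * uniW y := by
  refine Subtype.ext ?_
  rw [Matrix.SpecialLinearGroup.coe_mul]
  show !![1, x.a + y.a; 0, 1] = !![1, x.a; 0, 1] * !![1, y.a; 0, 1]
  ext i j
  fin_cases i <;> fin_cases j <;> simp [Matrix.mul_apply, Fin.sum_univ_two, add_comm]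

/-- The model inside `Sp₄`. -/
noncomputable def toSp : Syl K →* Matrix.symplecticGroup (Fin 2) K :=
  MonoidHom.mk' (fun x => symM (symS x) (symS_isSymm x) * glS (uniW x)) fun x y => by
    set Sx := symM (symS x) (symS_isSymm x)
    set Wx := glS (uniW x)
    set Wy := glS (uniW y)
    have hconj := glM_conj (Matrix.SpecialLinearGroup.toGL (uniW x)) (symS y) (symS_isSymm y)
    have hW : symM (symS (x * y)) (symS_isSymm (x * y)) =
        Sx * (Wx * symM (symS y) (symS_isSymm y) * Wx⁻¹) := by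
      show _ = Sx * (glM (Matrix.SpecialLinearGroup.toGL (uniW x)) * _ * (glM (Matrix.SpecialLinearGroup.toGL (uniW x)))⁻¹)
      rw [hconj, symM_mul]
      refine symM_congr ?_
      rw [show ((Matrix.SpecialLinearGroup.toGL (uniW x) : GL (Fin 2) K) : Matrix (Fin 2) (Fin 2) K) =
        !![1, x.a; 0, 1] from rfl]
      ext i j
      fin_cases i <;> fin_cases j <;>
        simp [symS, Matrix.mul_apply, Fin.sum_univ_two, Matrix.vecMul, dotProduct] <;> ring
    rw [uniW_mul, map_mul, hW]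
    simp only [Wx, Wy, mul_assoc, inv_mul_cancel_left]

theorem toSp_injective : Function.Injective (toSp : Syl K → Matrix.symplecticGroup (Fin 2) K) := by
  refine (injective_iff_map_eq_one toSp).2 fun x h => ?_
  have h2 := congrArg Subtype.val h
  change (((symM (symS x) (symS_isSymm x) * glS (uniW x) : Matrix.symplecticGroup (Fin 2) K)) :
    Matrix (Fin 2 ⊕ Fin 2) (Fin 2 ⊕ Fin 2) K) = 1 at h2
  rw [Submonoid.coe_mul, symM_coe, glS_coe, fromBlocks_multiply, ← fromBlocks_one] at h2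
  obtain ⟨h11, -, h21, h22⟩ := fromBlocks_inj.1 h2
  simp only [one_mul, mul_zero, zero_mul, add_zero, zero_add] at h11 h21 h22
  rw [h11, mul_one] at h21
  have ha : x.a = 0 := by simpa [uniW] using congrFun (congrFun h22 0) 1
  exact Syl.ext ha (by simpa [symS] using congrFun (congrFun h21 1) 1)
    (by simpa [symS] using congrFun (congrFun h21 0) 1)
    (by simpa [symS] using congrFun (congrFun h21 0) 0)

variable {p : ℕ} [Fact p.Prime] [CharP K p] [Finite K]

/-- The Sylow subgroups of `Sp₄(K)`. -/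
theorem nonempty_sylow_equiv (T : Sylow p (Matrix.symplecticGroup (Fin 2) K)) :
    Nonempty ((T : Subgroup (Matrix.symplecticGroup (Fin 2) K)) ≃* Syl K) := by
  classical
  have : Fintype K := Fintype.ofFinite K
  set U := (Cfsg.Agent.AutPSp.SylowCentre.upperSubgroup :
    Subgroup (Matrix.symplecticGroup (Fin 2) K))
  have hle : (toSp : Syl K →* Matrix.symplecticGroup (Fin 2) K).range ≤ U := by
    rintro _ ⟨x, rfl⟩
    exact mul_mem (symM_mem _ _) (glS_mem (uniW_mem x))
  have hrange : (toSp : Syl K →* Matrix.symplecticGroup (Fin 2) K).range = U := by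
    refine Subgroup.eq_of_le_of_card_ge hle (le_of_eq ?_)
    rw [← Nat.card_congr (MonoidHom.ofInjective toSp_injective).toEquiv, Syl.natCard, natCard_upper,
      Nat.card_eq_fintype_card]
    norm_num
  obtain ⟨P, hP⟩ := (Cfsg.Agent.AutPSp.SylowCentre.isPGroup_upper (F := K) (m := 2) p).exists_le_sylow
  have hPU : (P : Subgroup (Matrix.symplecticGroup (Fin 2) K)) = U := by
    obtain ⟨Q, hQ⟩ := Cfsg.Agent.Fusion.SimplePSp.exists_sylow_eq (F := K) (m := 2) (p := p) (by norm_num)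
    have hinj : ∀ A ∈ (P : Subgroup (Matrix.symplecticGroup (Fin 2) K)),
        ∀ B ∈ (P : Subgroup (Matrix.symplecticGroup (Fin 2) K)),
          (QuotientGroup.mk' (Subgroup.center (Matrix.symplecticGroup (Fin 2) K))) A =
            (QuotientGroup.mk' _) B → A = B := by
      intro A hA B hB h
      obtain ⟨k, hk⟩ := P.2 ⟨A, hA⟩
      obtain ⟨l, hl⟩ := P.2 ⟨B, hB⟩
      exact Cfsg.Agent.Fusion.SimplePSp.eq_of_mk_eq (F := K) (m := 2) (p := p) (by norm_num)
        (congrArg Subtype.val hk) (congrArg Subtype.val hl) h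
    set π := QuotientGroup.mk' (Subgroup.center (Matrix.symplecticGroup (Fin 2) K))
    have hmap : (P : Subgroup _).map π = U.map π := by
      have := Q.3 (P.2.map π) (hQ.le.trans (Subgroup.map_mono hP))
      rw [this, hQ]
    refine le_antisymm (fun A hA => ?_) hP
    obtain ⟨B, hB, hBA⟩ := hmap.le (Subgroup.mem_map_of_mem π hA)
    exact hinj B (hP hB) A hA hBA ▸ hB
  exact ⟨(Sylow.equiv T P).trans ((MulEquiv.subgroupCongr (hPU.trans hrange.symm)).trans
    (MonoidHom.ofInjective toSp_injective).symm)⟩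

end Sylow

/-- A ring isomorphism gives an isomorphism of models. -/
def Syl.congr {K L : Type*} [Field K] [Field L] (σ : K ≃+* L) : Syl K ≃* Syl L where
  toFun x := ⟨σ x.a, σ x.b, σ x.c, σ x.d⟩
  invFun x := ⟨σ.symm x.a, σ.symm x.b, σ.symm x.c, σ.symm x.d⟩
  left_inv x := by simp
  right_inv x := by simp
  map_mul' x y := by ext <;> simp [map_ofNat]

section Push

variable {Ω : Type u} [Group Ω] {S : Subgroup Ω} {H : Type} [Group H]

open _root_.Classical in
/-- The transporting pair of maps. -/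
noncomputable def isoTop (ε : S ≃* H) : Iso S (⊤ : Subgroup H) where
  fwd x := if h : x ∈ S then ε ⟨x, h⟩ else 1
  bwd y := ε.symm y
  to_mem _ _ := Subgroup.mem_top _
  inv_mem y _ := (ε.symm y).2
  to_mul x hx y hy := by
    rw [dif_pos hx, dif_pos hy, dif_pos (S.mul_mem hx hy), ← map_mul]
    rfl
  inv_to x hx := by rw [dif_pos hx, ε.symm_apply_apply]
  to_inv y _ := by rw [dif_pos (ε.symm y).2]; exact ε.apply_symm_apply y

theorem isoTop_fwd (ε : S ≃* H) (x : S) : (isoTop ε).fwd x = ε x := by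
  classical
  show (isoTop ε).fwd x = ε x
  simp only [isoTop, dif_pos x.2]

variable [Finite S] {p : ℕ} [Fact p.Prime] {F : FusionSystem S}

/-- Normal subgroups are transported. -/
theorem isNormal_push (ε : S ≃* H) {Q : Subgroup Ω} (hQ : F.IsNormal Q) :
    (push (isoTop ε) F).IsNormal (im (isoTop ε).fwd Q) := by
  set e := isoTop ε
  obtain ⟨hQS, hQn⟩ := isNormal_iff.1 hQ
  refine isNormal_iff.2 ⟨le_top, fun P' f' hf' => ?_⟩
  obtain ⟨hP', -, hm⟩ := (isMap_push_iff e).1 hf'
  obtain ⟨g, hg, hge, hgQ⟩ := hQn _ _ hm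
  have hP : im e.bwd P' ≤ S := e.symm.img_le hP'
  have h1 : im e.fwd (im e.bwd P' ⊔ Q) = P' ⊔ im e.fwd Q := by
    rw [Cfsg.Agent.Fusion.Transport.img_sup e hP hQS, e.img_symm hP']
  refine ⟨fun y => e.fwd (g (e.bwd y)), h1 ▸ isMap_push e hg, fun y hy => ?_, ?_⟩
  · show e.fwd (g (e.bwd y)) = f' y
    rw [hge _ (mem_im_self _ hy), e.to_inv y (hP' hy), e.to_inv _ (Subgroup.mem_top _)]
  · refine le_antisymm (img_le fun y hy => ?_) ?_
    · obtain ⟨x, hx, rfl⟩ := (e.mem_img hQS).1 hy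
      rw [e.inv_to x (hQS hx)]
      exact mem_im_self _ (hgQ.le (mem_img_self g hx))
    · intro y hy
      obtain ⟨x, hx, rfl⟩ := (e.mem_img hQS).1 hy
      rw [← hgQ] at hx
      obtain ⟨w, hw, rfl⟩ := (hg.restrict le_sup_right).mem_img.1 hx
      have h2 := mem_img_self (fun y => e.fwd (g (e.bwd y))) (mem_im_self e.fwd hw)
      simpa only [e.inv_to w (hQS hw)] using h2

theorem push_ne_bot (ε : S ≃* H) {Q : Subgroup Ω} (hQS : Q ≤ S) (hQ : Q ≠ ⊥) :
    im (isoTop ε).fwd Q ≠ ⊥ := fun h => hQ ((Subgroup.eq_bot_iff_forall _).2 fun x hx => by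
  have h1 := mem_im_self (isoTop ε).fwd hx
  rw [h, Subgroup.mem_bot, isoTop_fwd ε ⟨x, hQS hx⟩, map_eq_one_iff ε ε.injective] at h1
  exact congrArg Subtype.val h1)

/-- A realization of the transported system gives one of the system. -/
theorem realizable_of_push (ε : S ≃* H) (h : (push (isoTop ε) F).IsRealizable p) :
    F.IsRealizable p := by
  obtain ⟨G, _, _, ι, ⟨hι, hreal⟩, T, hT⟩ := h
  set e := isoTop ε with he
  let j : S →* ULift.{u} G := MulEquiv.ulift.symm.toMonoidHom.comp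
    (ι.comp (Subgroup.topEquiv.symm.toMonoidHom.comp ε.toMonoidHom))
  have hj : ∀ x : S, (j x).down = ι ⟨ε x, Subgroup.mem_top _⟩ := fun x => rfl
  refine ⟨ULift.{u} G, inferInstance, inferInstance, j, ⟨?_, fun P hP φ hφ => ?_⟩, ?_⟩
  · exact fun x y hxy => ε.injective (congrArg Subtype.val (hι (congrArg ULift.down hxy)))
  · have hiff : φ ∈ F.Hom P ↔ ∃ φ' : im e.fwd P →* H, φ' ∈ (push e F).Hom (im e.fwd P) ∧
        ∀ y : im e.fwd P, φ' y = e.fwd (ext φ (e.bwd y)) := by
      constructor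
      · intro h'
        have hm := isMap_push e (IsMap.of_hom h')
        exact ⟨hm.hom, hm.hom_mem_self, fun _ => rfl⟩
      · rintro ⟨φ', h', he'⟩
        obtain ⟨-, -, hm⟩ := (isMap_push_iff e).1 (IsMap.of_hom h')
        rw [e.img_img hP] at hm
        refine (hm.congr fun x hx => ?_).hom_mem fun _ => (ext_apply φ _).symm
        have hy := mem_im_self e.fwd hx
        rw [ext_of_mem φ' hy, he', e.inv_to x (hP hx), ext_of_mem φ hx, e.inv_to _ (hφ ⟨x, hx⟩)]
    have hfwd : ∀ x : P, ∀ y : im e.fwd P, (y : H) = e.fwd x →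
        e.fwd (ext φ (e.bwd y)) = ε ⟨φ x, hφ x⟩ := fun x y hy => by
      rw [hy, e.inv_to _ (hP x.2), ext_apply]
      exact isoTop_fwd ε ⟨φ x, hφ x⟩
    rw [hiff]
    constructor
    · rintro ⟨φ', h', he'⟩
      obtain ⟨g, hg⟩ := (hreal _ le_top φ' fun _ => Subgroup.mem_top _).1 h'
      refine ⟨⟨g⟩, fun x => ULift.down_injective ?_⟩
      have := hg ⟨e.fwd x, mem_im_self _ x.2⟩
      have e1 : (⟨e.fwd x, Subgroup.mem_top _⟩ : (⊤ : Subgroup H)) = ⟨ε ⟨x, hP x.2⟩, Subgroup.mem_top _⟩ :=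
        Subtype.ext (isoTop_fwd ε ⟨x, hP x.2⟩)
      simp only [e1] at this
      rw [ULift.mul_down, ULift.mul_down, ULift.inv_down, hj, hj, ← this]
      congr 1
      exact Subtype.ext ((he' _).trans (hfwd x _ rfl)).symm
    · rintro ⟨⟨g⟩, hg⟩
      have hphi : IsHomOn P (ext φ) := fun x hx y hy => by
        rw [ext_of_mem φ (P.mul_mem hx hy), ext_of_mem φ hx, ext_of_mem φ hy, ← map_mul]
        rfl
      let φ' : im e.fwd P →* H := MonoidHom.mk' (fun y => e.fwd (ext φ (e.bwd y))) fun a b => by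
        obtain ⟨x, hx, hxa⟩ := (e.mem_img hP).1 a.2
        obtain ⟨y, hy, hyb⟩ := (e.mem_img hP).1 b.2
        simp only [Subgroup.coe_mul, ← hxa, ← hyb]
        rw [e.inv_mul _ (Subgroup.mem_top _) _ (Subgroup.mem_top _), e.inv_to x (hP hx),
          e.inv_to y (hP hy), hphi x hx y hy]
        exact e.to_mul _ (by rw [ext_of_mem φ hx]; exact hφ _) _ (by rw [ext_of_mem φ hy]; exact hφ _)
      refine ⟨φ', (hreal _ le_top φ' fun _ => Subgroup.mem_top _).2 ⟨g, fun y => ?_⟩, fun _ => rfl⟩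
      obtain ⟨x, hx, hxy⟩ := (e.mem_img hP).1 y.2
      have := congrArg ULift.down (hg ⟨x, hx⟩)
      rw [ULift.mul_down, ULift.mul_down, ULift.inv_down, hj, hj] at this
      have e1 : (⟨φ' y, Subgroup.mem_top _⟩ : (⊤ : Subgroup H)) = ⟨ε ⟨φ ⟨x, hx⟩, hφ _⟩, Subgroup.mem_top _⟩ :=
        Subtype.ext (hfwd ⟨x, hx⟩ y hxy.symm)
      have e2 : (⟨(y : H), Subgroup.mem_top _⟩ : (⊤ : Subgroup H)) = ⟨ε ⟨x, hP hx⟩, Subgroup.mem_top _⟩ :=
        Subtype.ext (hxy.symm.trans (isoTop_fwd ε ⟨x, hP hx⟩))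
      show ι ⟨φ' y, _⟩ = g * ι ⟨(y : H), _⟩ * g⁻¹
      rw [e1, e2]
      exact this
  · have hL : Function.Surjective
        (⇑((MulEquiv.ulift.symm : G ≃* ULift.{u} G).toMonoidHom)) :=
      fun y => ⟨y.down, rfl⟩
    refine ⟨T.mapSurjective hL, ?_⟩
    ext z
    show z ∈ (T.mapSurjective hL).toSubgroup ↔ z ∈ j.range
    rw [Sylow.coe_mapSurjective, hT]
    constructor
    · rintro ⟨_, ⟨t, rfl⟩, rfl⟩
      refine ⟨ε.symm t.1, ULift.down_injective ?_⟩
      rw [hj]
      show ι _ = ι t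
      exact congrArg ι (Subtype.ext (ε.apply_symm_apply _))
    · rintro ⟨x, rfl⟩
      exact ⟨_, ⟨_, rfl⟩, ULift.down_injective (hj x).symm⟩

end Push

end Cfsg.Agent.SpFourCore
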