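import Cfsg.Agent.Lib.SpFourCore.EvenMain
import Cfsg.Agent.Lib.SpFourCore.OddMain
import Cfsg.Agent.Lib.SpFourCore.Standard
import Cfsg.Agent.Lib.SpFourCore.Transport
import Cfsg.Agent.Lib.Fusion.ModelExists

/-!
# A saturated system on the Sylow subgroup of `Sp₄` with a nontrivial normal subgroup is realizable
-/

set_option autoImplicit false
set_option linter.unusedSectionVars false
set_option linter.style.haveILetI false

namespace Cfsg.Agent.SpFourCore

open Cfsg Cfsg.FusionSystem Cfsg.Agent.Fusion.Basic Cfsg.Agent.Fusion.Transport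

variable {K : Type} [Field K] [Finite K]

theorem realizable_of_constrained {p : ℕ} [Fact p.Prime] [CharP K p]
    {F : FusionSystem (⊤ : Subgroup (Syl K))} (h : F.IsConstrained p) : F.IsRealizable p := by
  obtain ⟨G, _, ι, hfin, hreal, hsyl, -⟩ :=
    Cfsg.Agent.Fusion.Model.exists_model (Syl.isPGroup.to_subgroup (⊤ : Subgroup (Syl K))) h
  exact ⟨G, inferInstance, hfin, ι, hreal, hsyl⟩

section Two

variable [Fintype K] [CharP K 2]

theorem pow_four (hq : Fintype.card K ≤ 4) (x : K) : x ^ 4 = x := by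
  obtain ⟨n, -, hn⟩ := FiniteField.card K 2
  have h := FiniteField.pow_card x
  rw [hn] at h hq
  have h1 := n.pos
  rcases Nat.lt_or_ge (n : ℕ) 3 with h3 | h3
  · interval_cases hm : (n : ℕ)
    · rw [pow_one] at h
      rw [show (4 : ℕ) = 2 * 2 from rfl, pow_mul, h, h]
    · exact h
  · have := Nat.pow_le_pow_right (show 0 < 2 by norm_num) h3
    omega

/-- The automorphism exchanging the axes when `|K| ≤ 4`. -/
def axisSwap (hq : Fintype.card K ≤ 4) : Syl K ≃* Syl K where
  toFun x := ⟨x.a, x.b ^ 2, x.d ^ 2, x.c ^ 2⟩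
  invFun x := ⟨x.a, x.b ^ 2, x.d ^ 2, x.c ^ 2⟩
  left_inv x := by ext <;> simp [← pow_mul, pow_four hq]
  right_inv x := by ext <;> simp [← pow_mul, pow_four hq]
  map_mul' x y := by
    have h4 := pow_four hq x.a
    ext <;> simp [CharTwo.two_eq_zero (R := K), CharTwo.add_sq, mul_pow, ← pow_mul, h4]

theorem realizable_two {F : FusionSystem (⊤ : Subgroup (Syl K))} (hF : F.IsSaturated 2)
    {Q : Subgroup (Syl K)} (hQ : F.IsNormal Q) (hQ1 : Q ≠ ⊥) : F.IsRealizable 2 := by
  have key : ∀ {F : FusionSystem (⊤ : Subgroup (Syl K))}, F.IsSaturated 2 → ∀ {Q : Subgroup (Syl K)},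
      F.IsNormal Q → Q ≠ ⊥ → (∀ x ∈ Q, x.c = 0) → F.IsRealizable 2 := by
    intro F hF Q hQ hQ1 hc
    by_cases hcon : F.IsConstrained 2
    · exact realizable_of_constrained hcon
    obtain ⟨hq, -, hst⟩ := even_standard hF hQ hQ1 hcon
    exact standard_realizable hq F (hst hc)
  by_cases hcon : F.IsConstrained 2
  · exact realizable_of_constrained hcon
  obtain ⟨hq, hd | hc, -⟩ := even_standard hF hQ hQ1 hcon
  · let ε : (⊤ : Subgroup (Syl K)) ≃* Syl K := Subgroup.topEquiv.trans (axisSwap hq)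
    refine realizable_of_push ε (key (push_saturated _ (Syl.isPGroup.to_subgroup _) hF)
      (isNormal_push ε hQ) (push_ne_bot ε le_top hQ1) fun y hy => ?_)
    obtain ⟨x, hx, rfl⟩ := ((isoTop ε).mem_img le_top).1 hy
    rw [isoTop_fwd ε ⟨x, Subgroup.mem_top x⟩]
    show x.d ^ 2 = 0
    rw [hd x hx, zero_pow two_ne_zero]
  · exact key hF hQ hQ1 hc

end Two

theorem realizable_of_normal {p : ℕ} [Fact p.Prime] [CharP K p]
    {F : FusionSystem (⊤ : Subgroup (Syl K))} (hF : F.IsSaturated p)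
    {Q : Subgroup (Syl K)} (hQ : F.IsNormal Q) (hQ1 : Q ≠ ⊥) : F.IsRealizable p := by
  by_cases h2 : (2 : K) = 0
  · obtain rfl : p = 2 := by
      have hd : p ∣ 2 := (CharP.cast_eq_zero_iff K p 2).1 (by exact_mod_cast h2)
      exact (Nat.prime_dvd_prime_iff_eq Fact.out Nat.prime_two).1 hd
    haveI := Fintype.ofFinite K
    exact realizable_two hF hQ hQ1
  · exact realizable_of_constrained (odd_constrained hF h2 hQ hQ1)

end Cfsg.Agent.SpFourCore
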