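import Cfsg.Agent.Lib.SpFourCore.Base

/-!
# Odd characteristic: the model and the essential subgroups

An essential subgroup is the abelian maximal subgroup `a = 0` or one of the subgroups `b = m a`,
and in the second case its automizer keeps the centre.
-/

set_option autoImplicit false
set_option linter.unusedSectionVars false
set_option linter.style.haveILetI false

namespace Cfsg.Agent.SpFourCore

open Cfsg Cfsg.FusionSystem Cfsg.Agent.Fusion.Basic Cfsg.Agent.Fusion.Saturation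
  Cfsg.Agent.Fusion.Normal Cfsg.Agent.Fusion.Alperin Cfsg.Agent.Fusion.EssentialShape

variable {K : Type*} [Field K]

namespace Syl

/-- The preimage of a line `b = m a`. -/
def wSub (m : K) : Subgroup (Syl K) where
  carrier := {x | x.b = m * x.a}
  one_mem' := by
    show (0 : K) = m * 0
    rw [mul_zero]
  mul_mem' {x y} hx hy := by
    show x.b + y.b = m * (x.a + y.a)
    rw [show x.b = m * x.a from hx, show y.b = m * y.a from hy, mul_add]
  inv_mem' {x} hx := by
    show -x.b = m * -x.a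
    rw [show x.b = m * x.a from hx, mul_neg]

@[simp] theorem mem_wSub {m : K} {x : Syl K} : x ∈ wSub m ↔ x.b = m * x.a := Iff.rfl

instance (m : K) : (wSub m).Normal := ⟨fun x hx g => by simp_all [conj_eq]⟩

theorem comm_apply (x y : Syl K) :
    (x * y * x⁻¹ * y⁻¹).a = 0 ∧ (x * y * x⁻¹ * y⁻¹).b = 0 ∧
      (x * y * x⁻¹ * y⁻¹).c = x.a * y.b - y.a * x.b := by
  refine ⟨?_, ?_, ?_⟩ <;> simp <;> ring

theorem comm_subA (x y : Syl K) (hx : x ∈ subA) (hy : y ∈ subA) : x * y = y * x :=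
  (commute_iff x y).2 (by simp [mem_subA.1 hx, mem_subA.1 hy])

/-- The centralizer of a point of `subA` off the centre is `subA`. -/
theorem a_eq_zero_of_commute (h2 : (2 : K) ≠ 0) {w y : Syl K} (hw : w ∉ Subgroup.center (Syl K))
    (ha : w.a = 0) (h : w * y = y * w) : y.a = 0 := by
  obtain ⟨h1, h3⟩ := (commute_iff w y).1 h
  rw [ha] at h1 h3
  by_cases hb : w.b = 0
  · have hc : w.c ≠ 0 := fun hc => hw ((mem_center_iff_of_two_ne h2 w).2 ⟨ha, hb, hc⟩)
    simpa [hb, hc, h2] using h3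
  · simpa [hb] using h1

/-- Elements commuting with one off `subA` are determined by the first and last coordinates. -/
theorem eq_of_commute (h2 : (2 : K) ≠ 0) {w x y : Syl K} (hw : w.a ≠ 0) (hx : w * x = x * w)
    (hy : w * y = y * w) (ha : x.a = y.a) (hd : x.d = y.d) : x = y := by
  obtain ⟨x1, x2⟩ := (commute_iff w x).1 hx
  obtain ⟨y1, y2⟩ := (commute_iff w y).1 hy
  have hb : x.b = y.b := mul_left_cancel₀ hw (by rw [x1, y1, ha])
  refine Syl.ext ha hb (mul_left_cancel₀ (mul_ne_zero h2 hw) ?_) hd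
  rw [hb, ha] at x2
  linear_combination x2 - y2

theorem comm_of_commute (h2 : (2 : K) ≠ 0) {w x y : Syl K} (hw : w.a ≠ 0) (hx : w * x = x * w)
    (hy : w * y = y * w) : x * y = y * x := by
  obtain ⟨x1, x2⟩ := (commute_iff w x).1 hx
  obtain ⟨y1, y2⟩ := (commute_iff w y).1 hy
  refine (commute_iff x y).2 ⟨mul_left_cancel₀ hw (by linear_combination x.a * y1 - y.a * x1), ?_⟩
  refine mul_left_cancel₀ (pow_ne_zero 2 hw) ?_
  linear_combination w.a * x.a * y2 - w.a * y.a * x2 + (x.a ^ 2 * w.a - x.a * w.a ^ 2) * y1 -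
    (y.a ^ 2 * w.a - y.a * w.a ^ 2) * x1

variable [Finite K]

/-- The abelian maximal subgroup is preserved by every automorphism. -/
theorem map_mem_subA (h2 : (2 : K) ≠ 0) (θ : MulAut (Syl K)) {x : Syl K} (hx : x ∈ subA) :
    θ x ∈ subA := by
  by_contra hxa
  have hinj : Function.Injective fun y : (subA : Subgroup (Syl K)) => ((θ y).a, (θ y).d) := by
    intro y z e
    simp only [Prod.mk.injEq] at e
    refine Subtype.ext (θ.injective (eq_of_commute h2 hxa ?_ ?_ e.1 e.2))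
    · rw [← map_mul, ← map_mul, comm_subA x y hx y.2]
    · rw [← map_mul, ← map_mul, comm_subA x z hx z.2]
  have h1 := Nat.card_le_card_of_injective _ hinj
  let e : (subA : Subgroup (Syl K)) ≃ K × K × K :=
    { toFun := fun y => (y.1.b, y.1.c, y.1.d)
      invFun := fun v => ⟨⟨0, v.1, v.2.1, v.2.2⟩, rfl⟩
      left_inv := fun y => Subtype.ext (Syl.ext y.2.symm rfl rfl rfl)
      right_inv := fun _ => rfl }
  rw [Nat.card_congr e] at h1
  simp only [Nat.card_prod] at h1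
  have : 2 ≤ Nat.card K := Finite.one_lt_card
  nlinarith

/-- The second centre is preserved by every automorphism. -/
theorem map_mem_subAB (h2 : (2 : K) ≠ 0) (θ : MulAut (Syl K)) {x : Syl K} (hx : x ∈ subAB) :
    θ x ∈ subAB := by
  have key : ∀ y, θ x * y * (θ x)⁻¹ * y⁻¹ ∈ Subgroup.center (Syl K) := fun y => by
    obtain ⟨z, rfl⟩ := θ.surjective y
    have hc : x * z * x⁻¹ * z⁻¹ ∈ Subgroup.center (Syl K) := by
      obtain ⟨h3, h4, h5⟩ := comm_apply x z
      exact (mem_center_iff_of_two_ne h2 _).2 ⟨h3, h4, by rw [h5, (mem_subAB.1 hx).1, (mem_subAB.1 hx).2]; ring⟩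
    rw [← map_inv, ← map_inv, ← map_mul, ← map_mul, ← map_mul, Subgroup.mem_center_iff]
    intro g
    obtain ⟨g, rfl⟩ := θ.surjective g
    rw [← map_mul, ← map_mul, Subgroup.mem_center_iff.1 hc g]
  have k1 := ((mem_center_iff_of_two_ne h2 _).1 (key ⟨1, 0, 0, 0⟩)).2.2
  have k2 := ((mem_center_iff_of_two_ne h2 _).1 (key ⟨0, 1, 0, 0⟩)).2.2
  rw [(comm_apply _ _).2.2] at k1 k2
  simp at k1 k2
  exact mem_subAB.2 ⟨k2, k1⟩

end Syl

variable [Finite K] {p : ℕ} [Fact p.Prime] [CharP K p] {F : FusionSystem (⊤ : Subgroup (Syl K))}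

open Syl

/-- An element moved into the normal subgroup of the centre by no inner automorphism. -/
theorem moved_center_false (hF : F.IsSaturated p) {Q : Subgroup (Syl K)}
    (hQZ : Q ≤ Subgroup.center (Syl K)) (hQ1 : Q ≠ ⊥) {E : Subgroup (Syl K)}
    (hE : F.IsEssential p E) (hQinv : ∀ α ∈ F.autGroup E, img (autFun α) Q = Q)
    (hin : ∀ g ∈ Subgroup.normalizer (E : Set (Syl K)), ∀ x ∈ E,
      x⁻¹ * (g * x * g⁻¹) ∈ Subgroup.center (Syl K))
    (hsurj : ∀ v ∈ E, v ∉ Subgroup.center (Syl K) → ∀ z ∈ Q,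
      ∃ g ∈ Subgroup.normalizer (E : Set (Syl K)), g * v * g⁻¹ * v⁻¹ = z) : False := by
  classical
  have hG : IsPGroup p (Syl K) := Syl.isPGroup
  have hS := hG.to_subgroup (⊤ : Subgroup (Syl K))
  have : Finite (MulAut E) := Finite.of_injective (fun a x => a x : MulAut E → E → E)
    fun a b h => MulEquiv.ext fun x => congrFun h x
  set Zs := (Subgroup.center (Syl K)).subgroupOf E with hZs
  have hZE := center_le_essential hE
  let N := normalizerIn (⊤ : Subgroup (Syl K)) E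
  let c : N → F.autGroup E := fun g =>
    ⟨conjAut (⊤ : Subgroup (Syl K)) E g, autInducedBy_le le_top (conjAut_range _ E ▸ ⟨_, rfl⟩)⟩
  have hcfun : ∀ (g : N) (x : E), (((c g : MulAut E) x : E) : Syl K) = g * x * (g : Syl K)⁻¹ :=
    fun g x => rfl
  have hcZ : ∀ g, ∀ x ∈ Zs, (c g : MulAut E) x = x := fun g x hx => Subtype.ext (by
    rw [hcfun, Subgroup.mem_center_iff.1 (show (x : Syl K) ∈ Subgroup.center (Syl K) from hx) g.1,
      mul_inv_cancel_right])
  -- the stabilizer of the centre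
  let H : Subgroup (MulAut E) :=
    { carrier := {a | a ∈ F.autGroup E ∧ Zs.map a.toMonoidHom = Zs}
      one_mem' := ⟨one_mem _, Subgroup.map_id Zs⟩
      mul_mem' := by
        rintro a b ⟨ha, ha'⟩ ⟨hb, hb'⟩
        refine ⟨mul_mem ha hb, ?_⟩
        rw [show (a * b).toMonoidHom = a.toMonoidHom.comp b.toMonoidHom from rfl, ← Subgroup.map_map,
          hb', ha']
      inv_mem' := by
        rintro a ⟨ha, ha'⟩
        refine ⟨Subgroup.inv_mem _ ha, ?_⟩
        conv_lhs => rw [← ha', Subgroup.map_map]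
        rw [show (a⁻¹ : MulAut E).toMonoidHom.comp a.toMonoidHom = MonoidHom.id E from
          MonoidHom.ext fun x => MulAut.inv_apply_self _ a x]
        exact Subgroup.map_id Zs }
  let C : ℕ → Subgroup E := fun i => if i = 0 then ⊥ else if i = 1 then Zs else ⊤
  have hCmono : ∀ i < 2, C i ≤ C (i + 1) := fun i hi => by
    rcases i with _ | _ | i
    · simp [C]
    · simp [C]
    · omega
  have hcstab : ∀ g, ∀ i < 2, ∀ x ∈ C (i + 1), x⁻¹ * (c g : MulAut E) x ∈ C i := fun g i hi x hx => by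
    rcases i with _ | _ | i
    · rw [hcZ g x (by simpa [C] using hx)]
      simp
    · simp only [C, Nat.reduceEqDiff, if_false, if_true]
      rw [hZs, Subgroup.mem_subgroupOf, Subgroup.coe_mul, Subgroup.coe_inv, hcfun g]
      exact hin g g.2.2 _ x.2
    · omega
  have hHinv : ∀ i ≤ 2, ∀ a ∈ H, ∀ x ∈ C i, (a : MulAut E) x ∈ C i := fun i hi a ha x hx => by
    rcases i with _ | _ | i
    · simp only [C, if_true, Subgroup.mem_bot] at hx ⊢
      rw [hx, map_one]
    · simp only [C, Nat.reduceEqDiff, if_false, if_true] at hx ⊢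
      exact ha.2 ▸ Subgroup.mem_map_of_mem _ hx
    · simp [C]
  have hcH : ∀ g, (c g : MulAut E) ∈ H := fun g =>
    ⟨(c g).2, by
      refine le_antisymm ?_ fun x hx => ⟨x, hx, hcZ g x hx⟩
      rintro _ ⟨x, hx, rfl⟩
      show (c g : MulAut E) x ∈ Zs
      rw [hcZ g x hx]; exact hx⟩
  have hcore : ∀ g, (⟨_, hcH g⟩ : H) ∈ pCore p H := fun g =>
    mem_pCore_of_stabilizes (hS.to_le le_top) H C 2 (by simp [C]) (by simp [C]) hCmono hHinv
      (hcstab g)
  by_cases hall : ∀ a ∈ F.autGroup E, Zs.map a.toMonoidHom = Zs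
  · obtain ⟨g, hg, hgE⟩ := exists_mem_normalizer_not_mem hS (essential_lt hS hF hE)
    refine hgE (le_of_le_pCore hE.1 (essential_radical hE hS) hg ?_)
    exact mem_pCore_of_stabilizes (hS.to_le le_top) (F.autGroup E) C 2 (by simp [C]) (by simp [C])
      hCmono (fun i hi a ha x hx => hHinv i hi a ⟨ha, hall a ha⟩ x hx) (α := c ⟨g, hg⟩) (hcstab _)
  push Not at hall
  obtain ⟨a₀, ha₀, ha₀'⟩ := hall
  have : Nonempty {a : MulAut E // a ∈ F.autGroup E ∧ Zs.map a.toMonoidHom ≠ Zs} :=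
    ⟨⟨a₀, ha₀, ha₀'⟩⟩
  obtain ⟨⟨α, hα, hne⟩, hmax⟩ := Finite.exists_max
    fun a : {a : MulAut E // a ∈ F.autGroup E ∧ Zs.map a.toMonoidHom ≠ Zs} =>
      Nat.card (Zs ⊓ Zs.map a.1.toMonoidHom : Subgroup E)
  obtain ⟨v, ⟨v₀, hv₀, rfl⟩, hvZ⟩ : ∃ v ∈ Zs.map α.toMonoidHom, v ∉ Zs := by
    by_contra h
    push Not at h
    exact hne (Subgroup.eq_of_le_of_card_ge h
      (Subgroup.card_map_of_injective α.injective).ge)
  obtain ⟨z, hzQ, hz1⟩ : ∃ z ∈ Q, z ≠ 1 := by
    obtain ⟨z, hz⟩ := Subgroup.ne_bot_iff_exists_ne_one.1 hQ1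
    exact ⟨z.1, z.2, fun h => hz (Subtype.ext h)⟩
  obtain ⟨u, hu, hu''⟩ := hsurj ((α v₀ : E) : Syl K) (α v₀).2 (fun h => hvZ h) z hzQ
  set g₁ : N := ⟨u, Subgroup.mem_top u, hu⟩
  set cu : MulAut E := (c g₁ : MulAut E)
  have hzα : (⟨z, hZE (hQZ hzQ)⟩ : E) ∈ Zs.map α.toMonoidHom := by
    have h1 : z ∈ img (autFun α) Q := (hQinv α hα).symm ▸ hzQ
    have h2 : img (autFun α) Q ≤ (Zs.map α.toMonoidHom).map E.subtype := img_le fun q hq => by
      refine ⟨α ⟨q, hZE (hQZ hq)⟩, ⟨_, hQZ hq, rfl⟩, ?_⟩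
      rw [autFun_of_mem α (hZE (hQZ hq))]
      rfl
    obtain ⟨w, hw, hw'⟩ := h2 h1
    rwa [← (Subtype.ext hw' : w = ⟨z, hZE (hQZ hzQ)⟩)]
  have hcuv : cu (α v₀) ∈ Zs.map α.toMonoidHom := by
    have h1 : cu (α v₀) = ⟨z, hZE (hQZ hzQ)⟩ * α v₀ := Subtype.ext (by
      show ((cu (α v₀) : E) : Syl K) = z * ((α v₀ : E) : Syl K)
      rw [hcfun g₁, ← hu'', inv_mul_cancel_right])
    rw [h1]
    exact mul_mem hzα ⟨v₀, hv₀, rfl⟩
  -- by maximality `cu` stabilizes the image of the centre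
  set β : MulAut E := α⁻¹ * cu * α
  have hβG : β ∈ F.autGroup E := mul_mem (mul_mem (Subgroup.inv_mem _ hα) (c g₁).2) hα
  have hinv : ∀ x, α⁻¹ (α x) = x := fun x => MulAut.inv_apply_self _ α x
  have hβH : Zs.map β.toMonoidHom = Zs := by
    by_contra hβ
    have h1 := hmax ⟨β, hβG, hβ⟩
    let W := Zs ⊓ Zs.map α.toMonoidHom
    let f : E →* E := (α⁻¹ : MulAut E).toMonoidHom
    have h2 : W.map f ≤ Zs ⊓ Zs.map β.toMonoidHom := by
      rintro _ ⟨w, ⟨hw, ⟨w₀, hw₀, hw'⟩⟩, rfl⟩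
      refine ⟨?_, w₀, hw₀, ?_⟩
      · show α⁻¹ w ∈ Zs
        rw [← hw']
        show α⁻¹ (α w₀) ∈ Zs
        rw [hinv]; exact hw₀
      · show α⁻¹ (cu (α w₀)) = α⁻¹ w
        rw [show α w₀ = w from hw', hcZ g₁ w hw]
    obtain ⟨w₀, hw₀, hw'⟩ := hcuv
    have h3 : α⁻¹ (cu (α v₀)) ∈ Zs ⊓ Zs.map β.toMonoidHom := by
      refine ⟨?_, v₀, hv₀, rfl⟩
      rw [show cu (α v₀) = α w₀ from hw'.symm, hinv]; exact hw₀
    have h4 : α⁻¹ (cu (α v₀)) ∉ W.map f := by
      rintro ⟨w, ⟨hw, -⟩, hw''⟩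
      have h5 : w = cu (α v₀) := (α⁻¹ : MulAut E).injective hw''
      refine hvZ ?_
      have h6 : cu w = cu (α v₀) := (hcZ g₁ w hw).trans h5
      show α v₀ ∈ Zs
      rw [← cu.injective h6]; exact hw
    have h7 : Nat.card (W.map f) < Nat.card (Zs ⊓ Zs.map β.toMonoidHom : Subgroup E) := by
      refine lt_of_le_of_ne (Subgroup.card_le_of_le h2) fun h => h4 ?_
      rw [Subgroup.eq_of_le_of_card_ge h2 h.ge]; exact h3
    rw [Subgroup.card_map_of_injective (α⁻¹ : MulAut E).injective] at h7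
    exact absurd h1 (not_le.2 h7)
  -- `β` is a `p`-element of the stabilizer, so it fixes the centre pointwise
  obtain ⟨-, R, hR⟩ := fullyNormalized_fullyAutomized hS hF hE.2.1
  have hcR : ∀ g, c g ∈ (R : Subgroup (F.autGroup E)) := fun g => by
    rw [hR]
    exact Subgroup.mem_subgroupOf.2 (conjAut_range _ E ▸ ⟨_, rfl⟩)
  let Kc : Subgroup (F.autGroup E) :=
    ((pCore p H).map H.subtype).subgroupOf (F.autGroup E)
  have hK : IsPGroup p Kc :=
    (((pCore_isPGroup p H).map _)).comap_of_injective _ Subtype.val_injective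
  have hRK : (R : Subgroup (F.autGroup E)) ≤ Kc := by
    intro x hx
    rw [hR, Subgroup.mem_subgroupOf, mem_autInducedBy_iff'] at hx
    obtain ⟨g, hg, hgx⟩ := hx
    have h1 : x = c ⟨g, hg⟩ := Subtype.ext (autFun_ext fun y hy => by
      rw [hgx y hy, autFun_of_mem _ hy]; rfl)
    rw [h1]
    exact ⟨⟨_, hcH _⟩, hcore _, rfl⟩
  let b : F.autGroup E := ⟨β, hβG⟩
  obtain ⟨k, hk⟩ : ∃ k, b ^ p ^ k = 1 := by
    obtain ⟨k, hk⟩ := R.2 ⟨c g₁, hcR g₁⟩
    refine ⟨k, Subtype.ext ?_⟩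
    have h1 : cu ^ p ^ k = 1 := congrArg Subtype.val (congrArg Subtype.val hk)
    show (α⁻¹ * cu * α) ^ p ^ k = 1
    have := conj_pow (i := p ^ k) (a := α⁻¹) (b := cu)
    rw [inv_inv] at this
    rw [this, h1, mul_one, inv_mul_cancel]
  have hbR : b ∈ (R : Subgroup (F.autGroup E)) := by
    let bH : H := ⟨β, hβG, hβH⟩
    have hnorm : (pCore p H).Normal := Subgroup.sSup_normal _ fun _ hN => hN.1
    have hbp : IsPGroup p (Subgroup.zpowers bH) := by
      obtain ⟨i, -, hi⟩ := (Nat.dvd_prime_pow (Fact.out : p.Prime)).1 (orderOf_dvd_of_pow_eq_one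
        (show bH ^ p ^ k = 1 from Subtype.ext
          ((SubgroupClass.coe_pow bH _).trans
            ((SubgroupClass.coe_pow b _).symm.trans (congrArg Subtype.val hk)))))
      exact IsPGroup.of_card (n := i) (by rw [Nat.card_zpowers, hi])
    have hM : IsPGroup p (Subgroup.zpowers bH ⊔ pCore p H : Subgroup H) :=
      hbp.to_sup_of_normal_right (pCore_isPGroup p H)
    let M : Subgroup (F.autGroup E) :=
      ((Subgroup.zpowers bH ⊔ pCore p H).map H.subtype).subgroupOf (F.autGroup E)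
    have hMR := R.3 ((hM.map _).comap_of_injective _ Subtype.val_injective : IsPGroup p M)
      (fun x hx => by
        obtain ⟨y, hy, hy'⟩ := hRK hx
        exact ⟨y, Subgroup.mem_sup_right hy, hy'⟩)
    rw [← hMR]
    exact ⟨bH, Subgroup.mem_sup_left (Subgroup.mem_zpowers bH), rfl⟩
  rw [hR, Subgroup.mem_subgroupOf, mem_autInducedBy_iff'] at hbR
  obtain ⟨g, hg, hgb⟩ := hbR
  have h5 : β v₀ = v₀ := Subtype.ext (by
    have := hgb _ v₀.2
    rw [autFun_apply, cj_apply, Subgroup.mem_center_iff.1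
      (show (v₀ : Syl K) ∈ Subgroup.center (Syl K) from hv₀) g, mul_inv_cancel_right] at this
    exact this)
  have h6 : cu (α v₀) = α v₀ := by
    have h7 : α (β v₀) = α v₀ := by rw [h5]
    rwa [show α (β v₀) = cu (α v₀) from MulAut.apply_inv_self _ α _] at h7
  apply hz1
  rw [← hu'', ← hcfun g₁ (α v₀), show (c g₁ : MulAut E) (α v₀) = α v₀ from h6, mul_inv_cancel]

/-- **The essential subgroups.** -/
theorem essential_odd (hF : F.IsSaturated p) (h2 : (2 : K) ≠ 0) {Q : Subgroup (Syl K)}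
    (hQ : F.IsNormal Q) (hQ1 : Q ≠ ⊥) (hQZ : Q ≤ Subgroup.center (Syl K))
    {E : Subgroup (Syl K)} (hE : F.IsEssential p E) :
    E = subA ∨ ∃ m, E = wSub m ∧
      ∀ α ∈ F.autGroup E, ∀ x ∈ Subgroup.center (Syl K), autFun α x ∈ Subgroup.center (Syl K) := by
  have hG : IsPGroup p (Syl K) := Syl.isPGroup
  have hS := hG.to_subgroup (⊤ : Subgroup (Syl K))
  have hZE := center_le_essential hE
  have hmemZ : ∀ {x : Syl K}, x ∈ Subgroup.center (Syl K) ↔ x.a = 0 ∧ x.b = 0 ∧ x.c = 0 :=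
    fun {x} => mem_center_iff_of_two_ne h2 x
  have hle : ∀ {E : Subgroup (Syl K)}, F.IsEssential p E → E ≤ subA → E = subA := fun {E} hE hEA =>
    le_antisymm hEA fun g hg => centralizer_le_essential hE fun x hx => comm_subA x g (hEA hx) hg
  by_cases hall : ∀ α ∈ F.autGroup E, ∀ x ∈ Subgroup.center (Syl K),
      autFun α x ∈ Subgroup.center (Syl K)
  swap
  · push Not at hall
    obtain ⟨α, -, z, hz, hw⟩ := hall
    set w := autFun α z with hwdef
    have hwE : w ∈ E := autFun_mem α (hZE hz)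
    have hwc : ∀ y ∈ E, w * y = y * w := fun y hy => by
      rw [← autFun_apply_inv α y, ← autFun_isHom α _ (hZE hz) _ (autFun_mem _ hy),
        ← autFun_isHom α _ (autFun_mem _ hy) _ (hZE hz), Subgroup.mem_center_iff.1 hz]
    by_cases ha : w.a = 0
    · exact Or.inl (hle hE fun y hy => a_eq_zero_of_commute h2 hw ha (hwc y hy))
    exfalso
    have hslope : ∀ y ∈ E, y.a = 0 → y ∈ Subgroup.center (Syl K) := fun y hy hya => by
      by_contra hyZ
      exact ha (a_eq_zero_of_commute h2 hyZ hya (hwc y hy).symm)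
    have hsh : ∀ s : K, (⟨0, 0, s, 0⟩ : Syl K) ∈ Subgroup.normalizer (E : Set (Syl K)) := fun s =>
      mem_normalizer_of_forall fun x hx => by
        have hz' : x⁻¹ * ((⟨0, 0, s, 0⟩ : Syl K) * x * (⟨0, 0, s, 0⟩ : Syl K)⁻¹) ∈
            Subgroup.center (Syl K) := hmemZ.2 (by simp [conj_eq])
        have := E.mul_mem hx (hZE hz')
        rwa [mul_inv_cancel_left] at this
    refine moved_center_false hF hQZ hQ1 hE (normal_invariant hS hQ (Or.inr hE)).2
      (fun g hg x hx => hslope _ (E.mul_mem (E.inv_mem hx) ((Subgroup.mem_normalizer_iff.1 hg x).1 hx))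
        (by simp [conj_eq])) fun v hv hvZ z' hz' => ?_
    have hva : v.a ≠ 0 := fun e => hvZ (hslope v hv e)
    obtain ⟨z1, z2, z3⟩ := hmemZ.1 (hQZ hz')
    refine ⟨_, hsh (-z'.d / (2 * v.a)), ?_⟩
    refine mul_inv_eq_of_eq_mul ?_
    ext <;> simp [conj_eq, z1, z2, z3]
    field_simp
    ring
  by_cases hEA : E ≤ subA
  · exact Or.inl (hle hE hEA)
  right
  obtain ⟨y, hy, hya⟩ := SetLike.not_le_iff_exists.1 hEA
  rw [mem_subA] at hya
  have hinv : ∀ α ∈ F.autGroup E, ∀ x ∈ Subgroup.center (Syl K) ⊓ E,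
      autFun α x ∈ Subgroup.center (Syl K) := fun α hα x hx => hall α hα x hx.1
  have hstab : ∀ g ∈ Subgroup.normalizer (E : Set (Syl K)),
      (∀ x ∈ E, x⁻¹ * (g * x * g⁻¹) ∈ Subgroup.center (Syl K)) → g ∈ E := fun g hg hgx =>
    mem_of_stabilizes hG hE hg _ _ le_rfl hinv hinv
      (fun x hx => by rw [Subgroup.mem_center_iff.1 hx.1 g, mul_inv_cancel_right])
      (fun x hx => by
        rw [Subgroup.mem_center_iff.1 hx.1 g, mul_inv_cancel_right, inv_mul_cancel]; exact one_mem _)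
      hgx
  have hAB : subAB ≤ E := fun g hg => by
    obtain ⟨ga, gb⟩ := mem_subAB.1 hg
    have h1 : ∀ x : Syl K, x⁻¹ * (g * x * g⁻¹) ∈ Subgroup.center (Syl K) := fun x =>
      hmemZ.2 (by simp [conj_eq, ga, gb])
    refine hstab g (mem_normalizer_of_forall fun x hx => ?_) fun x _ => h1 x
    have := E.mul_mem hx (hZE (h1 x))
    rwa [mul_inv_cancel_left] at this
  have hnorm : ∀ g : Syl K, g ∈ Subgroup.normalizer (E : Set (Syl K)) := fun g =>
    mem_normalizer_of_forall fun x hx => by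
      have h1 : x⁻¹ * (g * x * g⁻¹) ∈ subAB := mem_subAB.2 (by simp [conj_eq])
      have := E.mul_mem hx (hAB h1)
      rwa [mul_inv_cancel_left] at this
  have hline : ∀ x ∈ E, y.a * x.b = x.a * y.b := by
    intro x hx
    by_contra hne
    have hABinv : ∀ α ∈ F.autGroup E, ∀ u ∈ subAB ⊓ E, autFun α u ∈ subAB := by
      intro α hα u hu
      have key : ∀ r ∈ E, (autFun α u).a * r.b = r.a * (autFun α u).b := fun r hr => by
        have hc : u * autFun α⁻¹ r * u⁻¹ * (autFun α⁻¹ r)⁻¹ ∈ Subgroup.center (Syl K) := by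
          obtain ⟨h3, h4, h5⟩ := comm_apply u (autFun α⁻¹ r)
          exact hmemZ.2 ⟨h3, h4, by rw [h5, (mem_subAB.1 hu.1).1, (mem_subAB.1 hu.1).2]; ring⟩
        have hh := autFun_isHom α
        have hr' := autFun_mem α⁻¹ hr
        have h6 := hall α hα _ hc
        rw [hh _ (E.mul_mem (E.mul_mem hu.2 hr') (E.inv_mem hu.2)) _ (E.inv_mem hr'),
          hh _ (E.mul_mem hu.2 hr') _ (E.inv_mem hu.2), hh _ hu.2 _ hr', hh.map_inv hu.2,
          hh.map_inv hr', autFun_apply_inv] at h6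
        have h7 := (hmemZ.1 h6).2.2
        rw [(comm_apply _ _).2.2] at h7
        linear_combination h7
      set w := autFun α u
      have k1 := key y hy
      have k2 := key x hx
      have hdet : y.a * x.b - x.a * y.b ≠ 0 := sub_ne_zero.2 hne
      refine mem_subAB.2 ⟨(mul_eq_zero.1 (?_ : w.a * (y.a * x.b - x.a * y.b) = 0)).resolve_right hdet,
        (mul_eq_zero.1 (?_ : w.b * (y.a * x.b - x.a * y.b) = 0)).resolve_right hdet⟩
      · linear_combination y.a * k2 - x.a * k1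
      · linear_combination y.b * k2 - x.b * k1
    refine essential_ne_top hG hF hE (Subgroup.eq_top_iff' _ |>.2 fun g => ?_)
    refine mem_of_stabilizes hG hE (hnorm g) (Subgroup.center (Syl K)) subAB
      Syl.center_le_subAB hinv hABinv (fun r hr => ?_) (fun r hr => ?_) fun r _ => ?_
    · rw [Subgroup.mem_center_iff.1 hr.1 g, mul_inv_cancel_right]
    · exact hmemZ.2 (by simp [conj_eq, (mem_subAB.1 hr.1).1, (mem_subAB.1 hr.1).2])
    · exact mem_subAB.2 (by simp [conj_eq])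
  refine ⟨y.b / y.a, le_antisymm (fun x hx => mem_wSub.2 ?_) fun g hg => ?_, hall⟩
  · rw [div_mul_eq_mul_div, eq_div_iff hya]
    linear_combination hline x hx
  · refine hstab g (hnorm g) fun x hx => hmemZ.2 ⟨?_, ?_, ?_⟩
    · simp [conj_eq]
    · simp [conj_eq]
    · have e := hline x hx
      rw [mem_wSub, div_mul_eq_mul_div, eq_div_iff hya] at hg
      simp [conj_eq]
      refine mul_left_cancel₀ hya ?_
      linear_combination g.a * e - x.a * hg

end Cfsg.Agent.SpFourCore
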