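import Cfsg.Agent.Lib.SpFourCore.Spread

/-!
# The automizer of the maximal abelian subgroup in odd characteristic: basic geometry

`X` acts additively on `K³` and its Sylow subgroup consists of the maps
`(b, c + t b, d + 2 t c + t² b)`.  The elements keeping the centre `b = c = 0` normalize that
subgroup, which is a trivial intersection subgroup.
-/

set_option autoImplicit false
set_option linter.unusedSectionVars false
set_option linter.style.haveILetI false

namespace Cfsg.Agent.SpFourCore.OddLin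

variable {K : Type*} [Field K]

/-- The root group on the module. -/
def shift (t : K) : Equiv.Perm (K × K × K) where
  toFun v := (v.1, v.2.1 + t * v.1, v.2.2 + 2 * t * v.2.1 + t ^ 2 * v.1)
  invFun v := (v.1, v.2.1 - t * v.1, v.2.2 - 2 * t * v.2.1 + t ^ 2 * v.1)
  left_inv v := by ext <;> simp; ring
  right_inv v := by ext <;> simp; ring

@[simp] theorem shift_apply (t : K) (v : K × K × K) :
    shift t v = (v.1, v.2.1 + t * v.1, v.2.2 + 2 * t * v.2.1 + t ^ 2 * v.1) := rfl

theorem shift_injective : Function.Injective (shift : K → Equiv.Perm (K × K × K)) := fun s t h => by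
  simpa using congrArg (fun f : Equiv.Perm (K × K × K) => (f (1, 0, 0)).2.1) h

/-- A point of the centre. -/
def zpt (d : K) : K × K × K := (0, 0, d)

/-- The point is on the centre. -/
def IsZ (v : K × K × K) : Prop := v.1 = 0 ∧ v.2.1 = 0

theorem isZ_zpt (d : K) : IsZ (zpt d) := ⟨rfl, rfl⟩

theorem IsZ.eq {v : K × K × K} (h : IsZ v) : v = zpt v.2.2 :=
  Prod.ext h.1 (Prod.ext h.2 rfl)

theorem shift_isZ (t : K) {v : K × K × K} (h : IsZ v) : shift t v = v := by
  ext <;> simp [h.1, h.2]

variable {X : Subgroup (Equiv.Perm (K × K × K))} {p : ℕ} [Fact p.Prime]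

/-- The hypotheses. -/
structure Setup (X : Subgroup (Equiv.Perm (K × K × K))) (U : Sylow p X) : Prop where
  map_add : ∀ g : X, ∀ v w : K × K × K, (g : Equiv.Perm (K × K × K)) (v + w) =
    (g : Equiv.Perm (K × K × K)) v + (g : Equiv.Perm (K × K × K)) w
  mem_iff : ∀ g : X, g ∈ U ↔ ∃ t, (g : Equiv.Perm (K × K × K)) = shift t
  shift_mem : ∀ t, shift t ∈ X
  two_ne : (2 : K) ≠ 0

variable {U : Sylow p X}

/-- An element as an additive map. -/
def Setup.hom (h : Setup X U) (g : X) : K × K × K →+ K × K × K :=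
  AddMonoidHom.mk' (g : Equiv.Perm (K × K × K)) (h.map_add g)

/-- The element of the root group. -/
def Setup.sh (h : Setup X U) (t : K) : X := ⟨shift t, h.shift_mem t⟩

section

variable (h : Setup X U)
include h

theorem Setup.sh_mem (t : K) : h.sh t ∈ U := (h.mem_iff _).2 ⟨t, rfl⟩

theorem Setup.exists_sh {g : X} (hg : g ∈ U) : ∃ t, g = h.sh t := by
  obtain ⟨t, ht⟩ := (h.mem_iff g).1 hg
  exact ⟨t, Subtype.ext ht⟩

theorem Setup.hom_mul (g k : X) (v : K × K × K) : h.hom (g * k) v = h.hom g (h.hom k v) := rfl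

theorem Setup.hom_inv (g : X) (v : K × K × K) : h.hom g⁻¹ (h.hom g v) = v :=
  (g : Equiv.Perm (K × K × K)).symm_apply_apply v

theorem Setup.hom_inv' (g : X) (v : K × K × K) : h.hom g (h.hom g⁻¹ v) = v :=
  (g : Equiv.Perm (K × K × K)).apply_symm_apply v

theorem Setup.hom_injective (g : X) : Function.Injective (h.hom g) :=
  (g : Equiv.Perm (K × K × K)).injective

theorem Setup.hom_sh (t : K) (v : K × K × K) : h.hom (h.sh t) v = shift t v := rfl

theorem Setup.isZ_of_fixed {t : K} (ht : t ≠ 0) {v : K × K × K} (hv : shift t v = v) : IsZ v := by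
  have h1 := congrArg (fun w : K × K × K => w.2.1) hv
  have h2 := congrArg (fun w : K × K × K => w.2.2) hv
  simp [ht] at h1 h2
  rw [h1] at h2
  exact ⟨h1, by simpa [ht, h.two_ne] using h2⟩

/-- An element preserving the middle layer and fixed on every layer lies in the Sylow subgroup. -/
theorem Setup.mem_of_series [CharP K p] [Finite K] {g : X}
    (h1 : ∀ v, IsZ v → h.hom g v = v)
    (h2 : ∀ v : K × K × K, v.1 = 0 → IsZ (h.hom g v - v))
    (h3 : ∀ v : K × K × K, (h.hom g v).1 = v.1) : g ∈ U := by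
  let A : Subgroup X :=
    { carrier := {g | (∀ v, IsZ v → h.hom g v = v) ∧
        (∀ v : K × K × K, v.1 = 0 → IsZ (h.hom g v - v)) ∧ ∀ v : K × K × K, (h.hom g v).1 = v.1}
      one_mem' := ⟨fun _ _ => rfl, fun v _ => by
        show IsZ (v - v)
        rw [sub_self]; exact ⟨rfl, rfl⟩, fun _ => rfl⟩
      mul_mem' := fun {a b} ha hb => ⟨fun v hv => by rw [h.hom_mul, hb.1 v hv, ha.1 v hv],
        fun v hv => by
          have e1 := ha.2.1 (h.hom b v) (by rw [hb.2.2, hv])
          have e2 := hb.2.1 v hv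
          rw [h.hom_mul]
          have e : h.hom a (h.hom b v) - v = (h.hom a (h.hom b v) - h.hom b v) + (h.hom b v - v) := by
            abel
          rw [e]
          exact ⟨by rw [Prod.fst_add, e1.1, e2.1, add_zero],
            by rw [Prod.snd_add, Prod.fst_add, e1.2, e2.2, add_zero]⟩,
        fun v => by rw [h.hom_mul, ha.2.2, hb.2.2]⟩
      inv_mem' := fun {a} ha => by
        have e3 : ∀ v : K × K × K, (h.hom a⁻¹ v).1 = v.1 := fun v => by
          conv_rhs => rw [← h.hom_inv' a v]
          exact (ha.2.2 _).symm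
        refine ⟨fun v hv => ?_, fun v hv => ?_, e3⟩
        · conv_lhs => rw [← ha.1 v hv]
          exact h.hom_inv a v
        · have e1 := ha.2.1 (h.hom a⁻¹ v) (by rw [e3, hv])
          rw [h.hom_inv'] at e1
          exact ⟨by rw [Prod.fst_sub, e3, sub_self], by
            have := e1.2
            rw [Prod.snd_sub, Prod.fst_sub] at this ⊢
            linear_combination -this⟩ }
  have hA : IsPGroup p A := by
    rintro ⟨a, ha1, ha2, ha3⟩
    refine ⟨1, Subtype.ext (Subtype.ext (Equiv.ext fun v => ?_))⟩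
    set δ := h.hom a v - v with hδ
    set ε := h.hom a δ - δ with hε
    have hδ1 : δ.1 = 0 := by rw [hδ, Prod.fst_sub, ha3, sub_self]
    have hεZ : h.hom a ε = ε := ha1 _ (ha2 δ hδ1)
    have hpow : ∀ j : ℕ, h.hom (a ^ j) v = v + j • δ + (j.choose 2) • ε := by
      intro j
      induction j with
      | zero =>
        simp only [pow_zero, zero_nsmul, add_zero, Nat.choose]
        rfl
      | succ j ih =>
        rw [pow_succ', h.hom_mul, ih, _root_.map_add, _root_.map_add, map_nsmul, map_nsmul, hεZ,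
          show h.hom a δ = δ + ε by rw [hε]; abel, show h.hom a v = v + δ by rw [hδ]; abel,
          Nat.choose_succ_succ, Nat.choose_one_right, nsmul_add, succ_nsmul, add_nsmul]
        abel
    have hp0 : ∀ (m : ℕ) (w : K × K × K), (p * m) • w = 0 := fun m w => by
      ext <;> simp [CharP.cast_eq_zero K p]
    show h.hom (a ^ p ^ 1) v = v
    have hp2 : p ∣ p.choose 2 := by
      refine (Fact.out : p.Prime).dvd_choose_self two_ne_zero (lt_of_le_of_ne (Fact.out : p.Prime).two_le ?_)
      intro e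
      have := CharP.cast_eq_zero K p
      rw [← e] at this
      exact h.two_ne (by simpa using this)
    obtain ⟨m, hm⟩ := hp2
    rw [pow_one, hpow, hm, hp0, show p • δ = 0 by simpa using hp0 1 δ]
    simp
  have := U.3 hA (fun u hu => ?_)
  · exact SetLike.le_def.1 this.le (show g ∈ A from ⟨h1, h2, h3⟩)
  · obtain ⟨t, rfl⟩ := h.exists_sh hu
    refine ⟨fun v hv => shift_isZ t hv, fun v hv => ?_, fun v => rfl⟩
    constructor <;> simp [h.hom_sh, hv]

/-- An element normalizing the root group keeps the centre and the middle layer. -/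
theorem Setup.layers {g : X} (hg : g ∈ Subgroup.normalizer ((U : Subgroup X) : Set X)) :
    (∀ v, IsZ v → IsZ (h.hom g v)) ∧ ∀ v : K × K × K, v.1 = 0 → (h.hom g v).1 = 0 := by
  have hZ : ∀ g ∈ Subgroup.normalizer ((U : Subgroup X) : Set X), ∀ v, IsZ v → IsZ (h.hom g v) := by
    intro g hg v hv
    refine h.isZ_of_fixed one_ne_zero ?_
    obtain ⟨t, ht⟩ := h.exists_sh
      (show g⁻¹ * h.sh 1 * g ∈ U by
        have := (Subgroup.mem_normalizer_iff.1 (inv_mem hg) (h.sh 1)).1 (h.sh_mem 1)
        rwa [inv_inv] at this)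
    rw [← h.hom_sh, ← h.hom_mul, show h.sh 1 * g = g * h.sh t by rw [← ht]; group, h.hom_mul, h.hom_sh,
      shift_isZ t hv]
  refine ⟨hZ g hg, fun v hv => ?_⟩
  obtain ⟨t, ht⟩ := h.exists_sh
    (show g⁻¹ * h.sh 1 * g ∈ U by
      have := (Subgroup.mem_normalizer_iff.1 (inv_mem hg) (h.sh 1)).1 (h.sh_mem 1)
      rwa [inv_inv] at this)
  have hd : IsZ (shift t v - v) := by constructor <;> simp [hv]
  have := hZ g hg _ hd
  rw [map_sub, ← h.hom_sh, ← h.hom_mul, show g * h.sh t = h.sh 1 * g by rw [← ht]; group, h.hom_mul,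
    h.hom_sh] at this
  simpa using this.2

/-- An element keeping the centre normalizes the root group. -/
theorem Setup.mem_normalizer [CharP K p] [Finite K] {g : X} (hg : ∀ v, IsZ v → IsZ (h.hom g v)) :
    g ∈ Subgroup.normalizer ((U : Subgroup X) : Set X) := by
  have hinv : ∀ v, IsZ v → IsZ (h.hom g⁻¹ v) := by
    intro v hv
    let f : {v : K × K × K // IsZ v} → {v : K × K × K // IsZ v} := fun w => ⟨_, hg _ w.2⟩
    have hf : Function.Injective f := fun a b e =>
      Subtype.ext (h.hom_injective g (congrArg Subtype.val e))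
    obtain ⟨⟨w, hw⟩, hwv⟩ := (Finite.injective_iff_surjective.1 hf) ⟨v, hv⟩
    rw [← show h.hom g w = v from congrArg Subtype.val hwv, h.hom_inv]
    exact hw
  let G : Subgroup X :=
    { carrier := {g | ∀ v, IsZ v → h.hom g v = v}
      one_mem' := fun _ _ => rfl
      mul_mem' := fun {a b} ha hb v hv => by rw [h.hom_mul, hb v hv, ha v hv]
      inv_mem' := fun {a} ha v hv => by
        conv_lhs => rw [← ha v hv]
        exact h.hom_inv a v }
  have hUG : (U : Subgroup X) ≤ G := fun u hu v hv => by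
    obtain ⟨t, rfl⟩ := h.exists_sh hu
    exact shift_isZ t hv
  let UG : Sylow p G := U.subtype hUG
  by_cases hn : (UG : Subgroup G).Normal
  · refine Subgroup.mem_normalizer_fintype fun u hu => ?_
    let Cg : Subgroup G := (Subgroup.zpowers (g * u * g⁻¹)).subgroupOf G
    have hgu : g * u * g⁻¹ ∈ G := fun v hv => by
      rw [h.hom_mul, h.hom_mul, hUG hu _ (hinv v hv), h.hom_inv']
    have hp : IsPGroup p Cg := by
      refine IsPGroup.comap_subtype ?_
      have := (U.2.to_le (Subgroup.zpowers_le.2 hu)).map (MulAut.conj g).toMonoidHom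
      rwa [MonoidHom.map_zpowers] at this
    have hmax := UG.3 (UG.2.to_sup_of_normal_left hp) le_sup_left
    have : (⟨_, hgu⟩ : G) ∈ (UG : Subgroup G) :=
      hmax.le (Subgroup.mem_sup_right (Subgroup.mem_subgroupOf.2 (Subgroup.mem_zpowers _)))
    exact this
  exfalso
  let pr : K × K × K → K × K := fun v => (v.1, v.2.1)
  let act : G → K × K → K × K := fun g w => pr (h.hom g (w.1, w.2, 0))
  have hkey : ∀ (g : G) (v : K × K × K), act g (pr v) = pr (h.hom g v) := fun g v => by
    have e : v = (v.1, v.2.1, 0) + zpt v.2.2 := by ext <;> simp [zpt]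
    conv_rhs => rw [e, _root_.map_add, g.2 (zpt v.2.2) (isZ_zpt _)]
    simp [act, pr, zpt]
  have hmul : ∀ (a b : G) (w : K × K), act (a * b) w = act a (act b w) := fun a b w => by
    rw [show act b w = pr (h.hom b (w.1, w.2, 0)) from rfl, hkey]
    rfl
  have hone : ∀ w : K × K, act 1 w = w := fun w => rfl
  let π : G →* Equiv.Perm (K × K) :=
    { toFun := fun g => ⟨act g, act g⁻¹,
        fun w => by rw [← hmul, inv_mul_cancel, hone],
        fun w => by rw [← hmul, mul_inv_cancel, hone]⟩
      map_one' := Equiv.ext hone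
      map_mul' := fun a b => Equiv.ext (hmul a b) }
  have hπ : ∀ (g : G) (v : K × K × K), π g (pr v) = pr (h.hom g v) := hkey
  have hπs : ∀ t, π ⟨h.sh t, hUG (h.sh_mem t)⟩ = Spread.upp t := fun t => Equiv.ext fun w => by
    rw [show w = pr (w.1, w.2, 0) from rfl, hπ]
    rfl
  have hπi : Function.Injective π := (injective_iff_map_eq_one π).2 fun g hg => by
    have e : ∀ v, pr (h.hom g v) = pr v := fun v => by rw [← hπ, hg]; rfl
    have hgU : (g : X) ∈ U := h.mem_of_series g.2
      (fun v _ => ⟨by rw [Prod.fst_sub, show (h.hom g v).1 = v.1 from (congrArg Prod.fst (e v) :), sub_self],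
        by rw [Prod.snd_sub, Prod.fst_sub, show (h.hom g v).2.1 = v.2.1 from (congrArg Prod.snd (e v) :),
          sub_self]⟩)
      fun v => (congrArg Prod.fst (e v) :)
    obtain ⟨t, ht⟩ := h.exists_sh hgU
    have := congrArg Prod.snd (e (1, 0, 0))
    simp [pr, ht, h.hom_sh] at this
    refine Subtype.ext (Subtype.ext (Equiv.ext fun v => ?_))
    rw [ht, this]
    show shift 0 v = v
    simp
  let U' : Sylow p π.range := UG.mapSurjective π.rangeRestrict_surjective
  have hS : Spread.Setup π.range U' := by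
    refine ⟨?_, ?_, fun a => ⟨_, hπs a⟩⟩
    · rintro ⟨_, g, rfl⟩ v w
      show π g (v + w) = π g v + π g w
      show pr (h.hom g ((v + w).1, (v + w).2, 0)) = _
      rw [show ((v + w).1, (v + w).2, (0 : K)) = (v.1, v.2, (0 : K)) + (w.1, w.2, (0 : K)) by
        ext <;> simp, _root_.map_add]
      rfl
    · rintro ⟨_, g, rfl⟩
      constructor
      · rintro ⟨x, hx, hxg⟩
        obtain ⟨t, ht⟩ := h.exists_sh (show (x : X) ∈ U from hx)
        refine ⟨t, (congrArg Subtype.val hxg).symm.trans ?_⟩
        rw [← hπs t]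
        exact congrArg π (Subtype.ext ht)
      · rintro ⟨t, ht⟩
        exact ⟨⟨h.sh t, hUG (h.sh_mem t)⟩, h.sh_mem t, Subtype.ext ((hπs t).trans ht.symm)⟩
  have hn' : ¬ (U' : Subgroup π.range).Normal := fun hN => hn (by
    have := hN.comap π.rangeRestrict
    rwa [Sylow.coe_mapSurjective, Subgroup.comap_map_eq_self] at this
    rw [MonoidHom.ker_rangeRestrict, (MonoidHom.ker_eq_bot_iff π).2 hπi]
    exact bot_le)
  obtain ⟨φ, hsl, -⟩ := hS.spread hn'
  obtain ⟨s, hs⟩ := hsl (Spread.exists_torus φ (k := -1) (neg_ne_zero.2 one_ne_zero))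
  -- the central involution commutes with the root group
  have hs' : ∀ w, π s w = -w := fun w => by
    rw [hs]
    obtain ⟨x, y⟩ := w
    show Spread.shear φ (Spread.diag (-1) _ ((Spread.shear φ)⁻¹ (x, y))) = _
    ext <;> simp [Spread.shear_inv_apply]
    ring
  have hcomm : s * ⟨h.sh 1, hUG (h.sh_mem 1)⟩ = ⟨h.sh 1, hUG (h.sh_mem 1)⟩ * s := hπi (by
    rw [map_mul, map_mul, hπs]
    refine Equiv.ext fun w => ?_
    ext <;> simp [Equiv.Perm.mul_apply, hs']
    ring)
  have h0 : ∀ v, h.hom s (shift 1 v) = shift 1 (h.hom s v) := fun v =>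
    congrArg (fun g : G => h.hom g v) hcomm
  have hc : pr (h.hom s (0, 1, 0)) = (0, -1) := by
    rw [← hπ, hs']
    simp [pr]
  have h3 := h0 (0, 1, 0)
  rw [show shift (1 : K) (0, 1, 0) = (0, 1, 0) + zpt 2 by ext <;> simp [zpt], _root_.map_add,
    s.2 _ (isZ_zpt _)] at h3
  have h4 := congrArg (fun w : K × K × K => w.2.2) h3
  simp only [pr, Prod.mk.injEq] at hc
  simp [zpt, hc.1, hc.2] at h4
  refine h.two_ne (mul_self_eq_zero.1 ?_)
  linear_combination h4

/-- The root group is a trivial intersection subgroup. -/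
theorem Setup.ti [CharP K p] [Finite K] {g u : X} (hu : u ∈ U) (hu1 : u ≠ 1)
    (hgu : g⁻¹ * u * g ∈ Subgroup.normalizer ((U : Subgroup X) : Set X)) :
    g ∈ Subgroup.normalizer ((U : Subgroup X) : Set X) := by
  have hU : g⁻¹ * u * g ∈ U := by
    have hp : IsPGroup p (Subgroup.zpowers (g⁻¹ * u * g)) := by
      have := (U.2.to_le (Subgroup.zpowers_le.2 hu)).map (MulAut.conj g⁻¹).toMonoidHom
      rwa [MonoidHom.map_zpowers, show (MulAut.conj g⁻¹).toMonoidHom u = g⁻¹ * u * g by simp] at this
    have := hp.to_sup_of_normal_right' U.2 (Subgroup.zpowers_le.2 hgu)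
    exact SetLike.le_def.1 (U.3 this le_sup_right).le
      (Subgroup.mem_sup_left (Subgroup.mem_zpowers _))
  obtain ⟨s, hs⟩ := h.exists_sh hU
  obtain ⟨t, rfl⟩ := h.exists_sh hu
  have ht : t ≠ 0 := fun e => hu1 (Subtype.ext (Equiv.ext fun v => by
    show shift t v = v
    simp [e]))
  refine h.mem_normalizer fun v hv => h.isZ_of_fixed ht ?_
  rw [← h.hom_sh, ← h.hom_mul, show h.sh t * g = g * h.sh s by rw [← hs]; group, h.hom_mul, h.hom_sh,
    shift_isZ s hv]

end

end Cfsg.Agent.SpFourCore.OddLin
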