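import Cfsg.Agent.Lib.SpFourCore.Spread
import Cfsg.Agent.Lib.SpFourCore.OddEssential

/-!
# An essential preimage of a line

Its automizer contains the shifted torus on the plane modulo the centre; that torus extends to the
whole group.  The involution of the torus shows that there is only one such subgroup and that it
is invariant under the automorphisms of the system.
-/

set_option autoImplicit false
set_option linter.unusedSectionVars false
set_option linter.style.haveILetI false

namespace Cfsg.Agent.SpFourCore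

open Cfsg Cfsg.FusionSystem Cfsg.Agent.Fusion.Basic Cfsg.Agent.Fusion.Saturation
  Cfsg.Agent.Fusion.Normal Cfsg.Agent.Fusion.Alperin

open Syl

variable {K : Type*} [Field K] [Finite K] {p : ℕ} [Fact p.Prime] [CharP K p]
  {F : FusionSystem (⊤ : Subgroup (Syl K))}

/-- The action of the torus on the layers. -/
structure IsHat (θ : MulAut (Syl K)) (m k : K) : Prop where
  center : ∀ x ∈ Subgroup.center (Syl K), θ x = x
  fst : ∀ x, (θ x).a = k * x.a
  snd : ∀ x : Syl K, x.a = 0 → (θ x).b = k⁻¹ * k⁻¹ * x.b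
  third : ∀ x : Syl K, x.a = 0 → x.b = 0 → (θ x).c = k⁻¹ * x.c
  keep : ∀ x ∈ wSub m, θ x ∈ wSub m

/-- **The torus.** -/
theorem exists_hat (hF : F.IsSaturated p) (h2 : (2 : K) ≠ 0) {m : K}
    (hE : F.IsEssential p (wSub m))
    (hZ : ∀ α ∈ F.autGroup (wSub m), ∀ x ∈ Subgroup.center (Syl K),
      autFun α x ∈ Subgroup.center (Syl K)) {k : K} (hk : k ≠ 0) :
    ∃ θ ∈ topAut F, IsHat θ m k := by
  classical
  have hG : IsPGroup p (Syl K) := Syl.isPGroup
  have hS := hG.to_subgroup (⊤ : Subgroup (Syl K))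
  set W : Subgroup (Syl K) := wSub m with hW
  set Z := Subgroup.center (Syl K) with hZdef
  have hZW : Z ≤ W := fun x hx => by
    obtain ⟨xa, xb, -⟩ := (mem_center_iff_of_two_ne h2 x).1 hx
    rw [hW, mem_wSub, xa, xb, mul_zero]
  let G₀ : Subgroup (F.autGroup W) :=
    { carrier := {α | ∀ x : W, (x : Syl K) ∈ Z → (α : MulAut W) x = x}
      one_mem' := fun _ _ => rfl
      mul_mem' := fun {a b} ha hb x hx => by
        show (a : MulAut W) ((b : MulAut W) x) = x
        rw [hb x hx, ha x hx]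
      inv_mem' := fun {a} ha x hx => by
        conv_lhs => rw [← ha x hx]
        exact MulAut.inv_apply_self _ (a : MulAut W) x }
  have hG₀Z : ∀ (a : F.autGroup W) (x : W), (x : Syl K) ∈ Z →
      (((a : MulAut W) x : W) : Syl K) ∈ Z := fun a x hx => by
    rw [← autFun_apply]
    exact hZ _ a.2 _ hx
  let pr : W → K × K := fun x => (x.1.a, x.1.c - m * x.1.a ^ 2 / 2)
  let lift : K × K → W := fun v => ⟨⟨v.1, m * v.1, v.2 + m * v.1 ^ 2 / 2, 0⟩, rfl⟩
  have hprlift : ∀ v, pr (lift v) = v := fun v => by simp [pr, lift]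
  have hprmul : ∀ x y : W, pr (x * y) = pr x + pr y := fun x y => by
    have hy : y.1.b = m * y.1.a := y.2
    ext
    · simp [pr]
    · simp [pr, hy]
      field_simp
      ring
  have hprZ : ∀ x : W, (x : Syl K) ∈ Z ↔ pr x = 0 := fun x => by
    have hb : x.1.b = m * x.1.a := x.2
    rw [hZdef, mem_center_iff_of_two_ne h2]
    constructor
    · rintro ⟨xa, -, xc⟩
      simp [pr, xa, xc]
    · intro e
      have ea : x.1.a = 0 := congrArg Prod.fst e
      have ec : x.1.c - m * x.1.a ^ 2 / 2 = 0 := congrArg Prod.snd e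
      simp [ea] at ec
      exact ⟨ea, by rw [hb, ea, mul_zero], ec⟩
  have hpreq : ∀ x y : W, pr x = pr y → ∃ z : W, (z : Syl K) ∈ Z ∧ y = x * z := fun x y e => by
    refine ⟨x⁻¹ * y, (hprZ _).2 ?_, (mul_inv_cancel_left x y).symm⟩
    have := hprmul x (x⁻¹ * y)
    rw [mul_inv_cancel_left, e, left_eq_add] at this
    exact this
  let act : G₀ → K × K → K × K := fun a v => pr (((a : F.autGroup W) : MulAut W) (lift v))
  have hkey : ∀ (a : G₀) (x : W), act a (pr x) = pr (((a : F.autGroup W) : MulAut W) x) := fun a x => by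
    obtain ⟨z, hz, hxz⟩ := hpreq (lift (pr x)) x (hprlift _)
    conv_rhs => rw [hxz, map_mul, hprmul, (hprZ _).1 (hG₀Z _ z hz), add_zero]
  have hmul : ∀ (a b : G₀) (v : K × K), act (a * b) v = act a (act b v) := fun a b v => by
    rw [show act b v = pr (((b : F.autGroup W) : MulAut W) (lift v)) from rfl, hkey]
    rfl
  have hone : ∀ v, act 1 v = v := hprlift
  let π : G₀ →* Equiv.Perm (K × K) :=
    { toFun := fun a => ⟨act a, act a⁻¹,
        fun v => by rw [← hmul, inv_mul_cancel, hone],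
        fun v => by rw [← hmul, mul_inv_cancel, hone]⟩
      map_one' := Equiv.ext hone
      map_mul' := fun a b => Equiv.ext (hmul a b) }
  have hπ : ∀ (a : G₀) (x : W), π a (pr x) = pr (((a : F.autGroup W) : MulAut W) x) := hkey
  obtain ⟨-, R, hR⟩ := fullyNormalized_fullyAutomized hS hF (fullyNormalized_of_normal (P := W) F)
  let c : Syl K → F.autGroup W := fun g => ⟨MulAut.conjNormal g, conjNormal_mem F g⟩
  have hRc : ∀ a : F.autGroup W, a ∈ (R : Subgroup (F.autGroup W)) ↔ ∃ g, a = c g := fun a => by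
    rw [hR, Subgroup.mem_subgroupOf, autInducedBy_top]
    exact ⟨fun ⟨g, hg⟩ => ⟨g, Subtype.ext hg.symm⟩, fun ⟨g, hg⟩ => ⟨g, by rw [hg]⟩⟩
  have hcG₀ : ∀ g, c g ∈ G₀ := fun g x hx => Subtype.ext (by
    show ((MulAut.conjNormal g x : W) : Syl K) = x
    rw [MulAut.conjNormal_apply, Subgroup.mem_center_iff.1 hx g, mul_inv_cancel_right])
  have hRG₀ : (R : Subgroup (F.autGroup W)) ≤ G₀ := fun a ha => by
    obtain ⟨g, rfl⟩ := (hRc a).1 ha
    exact hcG₀ g
  let R₀ : Sylow p G₀ := R.subtype hRG₀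
  have hπc : ∀ g : Syl K, π ⟨c g, hcG₀ g⟩ = Spread.upp (m * g.a - g.b) := fun g =>
    Equiv.ext fun v => by
      show pr (MulAut.conjNormal g (lift v)) = _
      simp only [pr, MulAut.conjNormal_apply, conj_eq, Spread.upp_apply, lift]
      ext
      · rfl
      · simp; ring
  -- the kernel is a `p`-group
  have hker : IsPGroup p π.ker := by
    rintro ⟨a, ha⟩
    refine ⟨1, Subtype.ext (Subtype.ext (Subtype.ext (MulEquiv.ext fun x => ?_)))⟩
    have hpa : ∀ x : W, pr (((a : F.autGroup W) : MulAut W) x) = pr x := fun x => by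
      rw [← hπ, show π a = 1 from ha]
      rfl
    obtain ⟨z, hz, hxz⟩ := hpreq x (((a : F.autGroup W) : MulAut W) x) (hpa x).symm
    have hpow : ∀ j : ℕ, (((a ^ j : G₀) : F.autGroup W) : MulAut W) x = x * z ^ j := by
      intro j
      induction j with
      | zero => simp
      | succ j ih =>
        rw [pow_succ', show (((a * a ^ j : G₀) : F.autGroup W) : MulAut W) x =
          ((a : F.autGroup W) : MulAut W) ((((a ^ j : G₀) : F.autGroup W) : MulAut W) x) from rfl,
          ih, map_mul, map_pow, a.2 z hz, hxz, mul_assoc, ← pow_succ']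
    have hzp : z ^ p = 1 := by
      have hz0 := (mem_center_iff_of_two_ne h2 _).1 hz
      have hj : ∀ j : ℕ, ((z : Syl K) ^ j) = ⟨0, 0, 0, j * (z : Syl K).d⟩ := by
        intro j
        induction j with
        | zero => ext <;> simp
        | succ j ih => rw [pow_succ, ih]; ext <;> simp [hz0.1, hz0.2.1, hz0.2.2]; ring
      refine Subtype.ext ?_
      rw [SubgroupClass.coe_pow, hj, CharP.cast_eq_zero, zero_mul]
      rfl
    show (((a ^ p ^ 1 : G₀) : F.autGroup W) : MulAut W) x = x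
    rw [pow_one, hpow, hzp, mul_one]
  have hkerR : π.ker ≤ (R₀ : Subgroup G₀) :=
    le_sup_right.trans (R₀.3 (R₀.2.to_sup_of_normal_right hker) le_sup_left).le
  let U' : Sylow p π.range := R₀.mapSurjective π.rangeRestrict_surjective
  have hcomap : ∀ a : G₀, π.rangeRestrict a ∈ U' → a ∈ (R₀ : Subgroup G₀) := fun a ha => by
    obtain ⟨b, hb, hba⟩ := ha
    have h1 : b⁻¹ * a ∈ π.ker := by
      rw [MonoidHom.mem_ker, map_mul, map_inv, inv_mul_eq_one]
      exact congrArg Subtype.val hba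
    have := mul_mem hb (hkerR h1)
    rwa [mul_inv_cancel_left] at this
  have hS' : Spread.Setup π.range U' := by
    refine ⟨?_, ?_, fun a => ⟨⟨c ⟨0, -a, 0, 0⟩, hcG₀ _⟩, by rw [hπc]; congr 1; simp⟩⟩
    · rintro ⟨_, a, rfl⟩ v w
      show π a (v + w) = π a v + π a w
      obtain ⟨x, rfl⟩ : ∃ x, pr x = v := ⟨_, hprlift v⟩
      obtain ⟨y, rfl⟩ : ∃ y, pr y = w := ⟨_, hprlift w⟩
      rw [← hprmul, hπ, hπ, hπ, map_mul, hprmul]
    · rintro ⟨_, a, rfl⟩
      constructor
      · rintro ⟨b, hb, hba⟩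
        obtain ⟨g, hg⟩ := (hRc b.1).1 hb
        refine ⟨m * g.a - g.b, (congrArg Subtype.val hba).symm.trans ?_⟩
        rw [← hπc g]
        exact congrArg π (Subtype.ext hg)
      · rintro ⟨t, ht⟩
        refine ⟨⟨c ⟨0, -t, 0, 0⟩, hcG₀ _⟩, (hRc _).2 ⟨_, rfl⟩, Subtype.ext ?_⟩
        show π _ = π a
        rw [hπc, show π a = Spread.upp t from ht]
        congr 1
        simp
  have hn' : ¬ (U' : Subgroup π.range).Normal := by
    intro hN
    have hR₀n : (R₀ : Subgroup G₀).Normal := ⟨fun b hb a => hcomap _ (by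
      rw [map_mul, map_mul, map_inv]
      exact hN.conj_mem _ ⟨b, hb, rfl⟩ _)⟩
    have hRn : (R : Subgroup (F.autGroup W)).Normal := ⟨fun b hb a => by
      have hab : a * b * a⁻¹ ∈ G₀ := fun x hx => by
        have h3 : (((a⁻¹ : F.autGroup W) : MulAut W) x : Syl K) ∈ Z := hG₀Z a⁻¹ x hx
        show (a : MulAut W) ((b : MulAut W) (((a⁻¹ : F.autGroup W) : MulAut W) x)) = x
        rw [hRG₀ hb _ h3]
        exact MulAut.apply_inv_self _ (a : MulAut W) x
      let C : Subgroup G₀ := (Subgroup.zpowers (a * b * a⁻¹)).subgroupOf G₀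
      have hp : IsPGroup p C := by
        refine IsPGroup.comap_subtype ?_
        have := (R.2.to_le (Subgroup.zpowers_le.2 hb)).map (MulAut.conj a).toMonoidHom
        rwa [MonoidHom.map_zpowers] at this
      have h4 : (⟨_, hab⟩ : G₀) ∈ (R₀ : Subgroup G₀) :=
        (R₀.3 (R₀.2.to_sup_of_normal_left hp) le_sup_left).le
          (Subgroup.mem_sup_right (Subgroup.mem_subgroupOf.2 (Subgroup.mem_zpowers _)))
      exact h4⟩
    refine essential_ne_top hG hF hE (Subgroup.eq_top_iff' _ |>.2 fun g => ?_)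
    have hgN : g ∈ normalizerIn (⊤ : Subgroup (Syl K)) W :=
      ⟨Subgroup.mem_top g, mem_normalizer_of_forall fun x hx =>
        Subgroup.Normal.conj_mem inferInstance x hx g⟩
    have hle : (R : Subgroup (F.autGroup W)) ≤ pCore p (F.autGroup W) :=
      le_sSup (show (R : Subgroup (F.autGroup W)) ∈
        {N : Subgroup (F.autGroup W) | N.Normal ∧ IsPGroup p N} from ⟨hRn, R.2⟩)
    refine le_of_le_pCore hE.1 (essential_radical hE hS) hgN (hle ((hRc _).2 ⟨g, Subtype.ext ?_⟩))
    rfl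
  obtain ⟨φ, hsl, -⟩ := hS'.spread hn'
  obtain ⟨a, ha⟩ := hsl (Spread.exists_torus φ hk)
  have hav : ∀ x : W, pr (((a : F.autGroup W) : MulAut W) x) =
      (k * (pr x).1, k⁻¹ * ((pr x).2 - φ (pr x).1) + φ (k * (pr x).1)) := fun x => by
    rw [← hπ, ha]
    rfl
  -- the torus normalizes the root group, hence extends
  have hnormR : ∀ g, ∃ g', (a : F.autGroup W) * c g * ((a : F.autGroup W))⁻¹ = c g' := fun g => by
    refine (hRc _).1 (?_ : _ ∈ (R : Subgroup (F.autGroup W)))
    have h3 : π.rangeRestrict (a * ⟨c g, hcG₀ g⟩ * a⁻¹) ∈ U' := by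
      refine (hS'.mem_iff _).2 ⟨k⁻¹ * k⁻¹ * (m * g.a - g.b), ?_⟩
      show π _ = _
      rw [map_mul, map_mul, map_inv, hπc, ha]
      refine Equiv.ext fun v => ?_
      simp only [Equiv.Perm.mul_apply, mul_inv_rev, inv_inv, Spread.shear_inv_apply]
      obtain ⟨x, y⟩ := v
      show Spread.shear φ (Spread.diag k hk ((Spread.shear φ)⁻¹ (Spread.upp _ (Spread.shear φ
        ((Spread.diag k hk).symm ((Spread.shear φ)⁻¹ (x, y))))))) = _
      have e : (Spread.diag k hk).symm ((Spread.shear φ)⁻¹ (x, y)) = (k⁻¹ * x, k * (y - φ x)) := rfl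
      rw [e]
      ext
      · simp [Spread.shear_inv_apply, hk]
      · simp [Spread.shear_inv_apply, hk]
        field_simp
        ring
    exact hcomap _ h3
  obtain ⟨U, hU⟩ := exists_sylow_autImage hG hF (Equiv.refl W)
  let xi : autImage F (Equiv.refl W) :=
    ⟨autPerm (Equiv.refl W) ((a : F.autGroup W) : MulAut W), _, (a : F.autGroup W).2, rfl⟩
  have hxi : xi ∈ Subgroup.normalizer ((U : Subgroup (autImage F (Equiv.refl W))) : Set _) := by
    refine Subgroup.mem_normalizer_fintype fun u hu => ?_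
    obtain ⟨g, hg⟩ := (hU u).1 hu
    obtain ⟨g', hg'⟩ := hnormR g
    refine (hU _).2 ⟨g', ?_⟩
    show autPerm _ _ * (u : Equiv.Perm W) * (autPerm _ _)⁻¹ = _
    rw [hg, ← map_inv, ← map_mul, ← map_mul]
    exact congrArg _ (congrArg Subtype.val hg')
  obtain ⟨θ, hθ, hθa⟩ := exists_topAut_of_normalizes hG hF (Equiv.refl W) hU hxi
  have hθW : ∀ x : W, θ (x : Syl K) = (((a : F.autGroup W) : MulAut W) x : W) := fun x => hθa x
  have hθA : ∀ x : Syl K, x.a = 0 → (θ x).a = 0 := fun x hx => map_mem_subA h2 θ hx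
  have hfst : ∀ x : W, (θ (x : Syl K)).a = k * x.1.a := fun x => by
    rw [hθW]
    exact congrArg Prod.fst (hav x)
  have hthird : ∀ x : Syl K, x.a = 0 → x.b = 0 → (θ x).c = k⁻¹ * x.c := fun x hxa hxb => by
    have hxW : x ∈ W := by rw [hW, mem_wSub, hxa, hxb, mul_zero]
    have e := congrArg Prod.snd (hav ⟨x, hxW⟩)
    rw [hθW ⟨x, hxW⟩]
    have e1 := congrArg Prod.fst (hav ⟨x, hxW⟩)
    simp [pr, hxa] at e e1
    simpa [e1] using e
  have hall : ∀ x, (θ x).a = k * x.a := fun x => by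
    have e : x = ((⟨⟨x.a, m * x.a, 0, 0⟩, rfl⟩ : W) : Syl K) *
        ((⟨x.a, m * x.a, 0, 0⟩ : Syl K)⁻¹ * x) := (mul_inv_cancel_left _ _).symm
    conv_lhs => rw [e, map_mul, mul_a, hfst, hθA _ (by simp), add_zero]
  refine ⟨θ, hθ, ⟨fun x hx => ?_, hall, fun x hx => ?_, hthird, fun x hx => ?_⟩⟩
  · rw [hθW ⟨x, hZW hx⟩]
    exact congrArg Subtype.val (a.2 ⟨x, hZW hx⟩ hx)
  · set u : Syl K := ⟨1, m, 0, 0⟩
    have hu : u ∈ W := by rw [hW, mem_wSub]; simp [u]
    have hy : u * x * u⁻¹ * x⁻¹ ∈ subAB := ⟨(comm_apply u x).1, (comm_apply u x).2.1⟩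
    have e1 := hthird _ (comm_apply u x).1 (comm_apply u x).2.1
    rw [map_mul, map_mul, map_mul, map_inv, map_inv, (comm_apply _ _).2.2, (comm_apply _ _).2.2,
      hall, hθA x hx, hx] at e1
    simp [u] at e1
    field_simp at e1 ⊢
    linear_combination e1
  · rw [hθW ⟨x, hx⟩]
    exact SetLike.coe_mem _

/-- An automorphism inverting the quotient by `subA` and fixing it on `subA`. -/
def TLike (s : MulAut (Syl K)) : Prop :=
  (∀ y, (s y).a = -y.a) ∧ ∀ x : Syl K, x.a = 0 → (s x).b = x.b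

theorem IsHat.tlike {θ : MulAut (Syl K)} {m : K} (h : IsHat θ m (-1)) : TLike θ :=
  ⟨fun y => by rw [h.fst]; ring, fun x hx => by
    rw [h.snd x hx, show ((-1 : K)⁻¹ * (-1)⁻¹) = 1 by norm_num, one_mul]⟩

/-- Two such automorphisms of the system agree on the second coordinate. -/
theorem tlike_unique (hF : F.IsSaturated p) (h2 : (2 : K) ≠ 0) {s t : MulAut (Syl K)}
    (hs : s ∈ topAut F) (ht : t ∈ topAut F) (hs' : TLike s) (ht' : TLike t) (y : Syl K) :
    (s y).b = (t y).b := by
  have hfix : ∀ {u v : MulAut (Syl K)}, u ∈ topAut F → v ∈ topAut F → TLike u → TLike v →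
      ∀ y, (u (v y)).b = y.b := by
    intro u v hu hv hu' hv' y
    set η := u * v
    have hηa : ∀ y, (η y).a = y.a := fun y => by
      show (u (v y)).a = y.a
      rw [hu'.1, hv'.1, neg_neg]
    have hηb : ∀ x : Syl K, x.a = 0 → (η x).b = x.b := fun x hx => by
      show (u (v x)).b = x.b
      rw [hu'.2 _ (by rw [hv'.1, hx, neg_zero]), hv'.2 x hx]
    have hlam : ∀ y, (η (η y)).b - (η y).b = (η y).b - y.b := fun y => by
      have e : η y = y * (y⁻¹ * η y) := (mul_inv_cancel_left _ _).symm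
      conv_lhs => rw [e, map_mul, mul_b, mul_b, hηb (y⁻¹ * η y) (by simp [hηa])]
      ring
    have hpow : ∀ (j : ℕ) (y : Syl K), ((η ^ j) y).b = y.b + j * ((η y).b - y.b) := by
      intro j
      induction j with
      | zero => intro y; simp
      | succ j ih =>
        intro y
        rw [pow_succ, MulAut.mul_apply, ih, hlam]
        push_cast
        ring
    haveI : Finite (MulAut (Syl K)) :=
      Finite.of_injective (fun η : MulAut (Syl K) => (η : Syl K → Syl K)) DFunLike.coe_injective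
    obtain ⟨e, l, hl, hord⟩ := Nat.exists_eq_pow_mul_and_not_dvd (orderOf_pos η).ne' p
      (Fact.out : p.Prime).ne_one
    obtain ⟨g, hg⟩ := topAut_inner_of_pow (k := e) Syl.isPGroup hF
      (Subgroup.pow_mem _ (Subgroup.mul_mem _ hu hv) l)
      (by rw [← pow_mul, mul_comm, ← hord, pow_orderOf_eq_one])
    have h3 := hpow l y
    rw [show (η ^ l) y = MulAut.conj g y from congrArg (fun f : MulAut (Syl K) => f y) hg,
      MulAut.conj_apply, conj_eq] at h3
    simp at h3
    rcases h3 with h3 | h3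
    · exact absurd ((CharP.cast_eq_zero_iff K p l).1 h3) hl
    · exact sub_eq_zero.1 h3
  have e1 := hfix hs hs hs' hs' y
  have e2 := hfix hs ht hs' ht' y
  have hcancel : ∀ x : Syl K, x.a = 0 → (s x).b = 0 → x.b = 0 := fun x hx h => by
    rwa [hs'.2 x hx] at h
  have h4 := hcancel ((t y) * (s y)⁻¹) (by simp [hs'.1, ht'.1])
    (by rw [map_mul, map_inv]; simp [e1, e2])
  simp at h4
  linear_combination -h4

/-- The subgroup is recovered from its involution. -/
theorem mem_wSub_iff_of_hat (h2 : (2 : K) ≠ 0) {t : MulAut (Syl K)} {m : K} (h : IsHat t m (-1))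
    (y : Syl K) : y ∈ wSub m ↔ (t y).b = -y.b := by
  have ht := h.tlike
  set w : Syl K := ⟨y.a, m * y.a, 0, 0⟩ with hw
  have hw' : (t w).b = m * -y.a := by
    have := h.keep w (by simp [hw])
    rw [mem_wSub, ht.1] at this
    exact this
  have e : y = w * (w⁻¹ * y) := (mul_inv_cancel_left _ _).symm
  have hy : (t y).b = y.b - 2 * (m * y.a) := by
    conv_lhs => rw [e, map_mul, mul_b, hw', ht.2 _ (by simp [hw])]
    simp [hw]
    ring
  rw [hy, mem_wSub]
  constructor
  · intro e'; rw [e']; ring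
  · intro e'
    refine mul_left_cancel₀ h2 ?_
    linear_combination e'

end Cfsg.Agent.SpFourCore
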