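import Mathlib

/-!
# A group with a full transvection Sylow subgroup on a plane

`X` acts additively on `K × K` and its Sylow subgroup consists of the maps `(x, y) ↦ (x, y + a x)`.
If that subgroup is not normal, the conjugates of `L = 0 × K` meet pairwise trivially; they are `L`
and the graphs of `φ + m`, and `X` contains the two root groups shifted by `φ`.
-/

set_option autoImplicit false
set_option linter.unusedSectionVars false
set_option linter.style.haveILetI false

namespace Cfsg.Agent.SpFourCore.Spread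

variable {K : Type*} [Field K]


/-- A shear along the second factor. -/
def shear (φ : K →+ K) : Equiv.Perm (K × K) where
  toFun v := (v.1, v.2 + φ v.1)
  invFun v := (v.1, v.2 - φ v.1)
  left_inv v := by simp
  right_inv v := by simp

@[simp] theorem shear_apply (φ : K →+ K) (v : (K × K)) : shear φ v = (v.1, v.2 + φ v.1) := rfl

/-- The upper root group. -/
def upp (a : K) : Equiv.Perm (K × K) := shear (AddMonoidHom.mulLeft a)

@[simp] theorem upp_apply (a : K) (v : (K × K)) : upp a v = (v.1, v.2 + a * v.1) := rfl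

/-- The lower root group. -/
def low (c : K) : Equiv.Perm (K × K) where
  toFun v := (v.1 + c * v.2, v.2)
  invFun v := (v.1 - c * v.2, v.2)
  left_inv v := by simp
  right_inv v := by simp

@[simp] theorem low_apply (c : K) (v : (K × K)) : low c v = (v.1 + c * v.2, v.2) := rfl

/-- The torus. -/
def diag (k : K) (hk : k ≠ 0) : Equiv.Perm (K × K) where
  toFun v := (k * v.1, k⁻¹ * v.2)
  invFun v := (k⁻¹ * v.1, k * v.2)
  left_inv v := by simp [hk]
  right_inv v := by simp [hk]

@[simp] theorem diag_apply (k : K) (hk : k ≠ 0) (v : (K × K)) : diag k hk v = (k * v.1, k⁻¹ * v.2) := rfl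

/-- The shifted lower root group. -/
def lowS (φ : K →+ K) (c : K) : Equiv.Perm (K × K) := shear φ * low c * (shear φ)⁻¹

theorem shear_inv_apply (φ : K →+ K) (v : (K × K)) : (shear φ)⁻¹ v = (v.1, v.2 - φ v.1) := rfl

theorem lowS_apply (φ : K →+ K) (c : K) (v : (K × K)) :
    lowS φ c v = (v.1 + c * (v.2 - φ v.1), (v.2 - φ v.1) + φ (v.1 + c * (v.2 - φ v.1))) := rfl

/-- The group generated by both root groups. -/
def sl (φ : K →+ K) : Subgroup (Equiv.Perm (K × K)) :=
  Subgroup.closure (Set.range upp ∪ Set.range (lowS φ))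

theorem upp_mem_sl (φ : K →+ K) (a : K) : upp a ∈ sl φ := Subgroup.subset_closure (Or.inl ⟨a, rfl⟩)

theorem lowS_mem_sl (φ : K →+ K) (c : K) : lowS φ c ∈ sl φ :=
  Subgroup.subset_closure (Or.inr ⟨c, rfl⟩)

/-- The Weyl element. -/
def weyl (φ : K →+ K) (k : K) : Equiv.Perm (K × K) := lowS φ k * upp (-k⁻¹) * lowS φ k

theorem weyl_mem_sl (φ : K →+ K) (k : K) : weyl φ k ∈ sl φ :=
  mul_mem (mul_mem (lowS_mem_sl φ k) (upp_mem_sl φ _)) (lowS_mem_sl φ k)

theorem weyl_apply (φ : K →+ K) {k : K} (hk : k ≠ 0) (v : (K × K)) :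
    weyl φ k v = (k * (v.2 - φ v.1), -k⁻¹ * v.1 + φ (k * (v.2 - φ v.1))) := by
  show lowS φ k (upp (-k⁻¹) (lowS φ k v)) = _
  obtain ⟨x, y⟩ := v
  simp only [lowS_apply, upp_apply]
  set w := y - φ x
  have e1 : w + φ (x + k * w) + -k⁻¹ * (x + k * w) - φ (x + k * w) = -k⁻¹ * x := by
    field_simp
    ring
  rw [e1, show x + k * w + k * (-k⁻¹ * x) = k * w by field_simp; ring]

/-- The shifted torus. -/
theorem exists_torus (φ : K →+ K) {k : K} (hk : k ≠ 0) :
    shear φ * diag k hk * (shear φ)⁻¹ ∈ sl φ := by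
  have h : shear φ * diag k hk * (shear φ)⁻¹ = weyl φ k * weyl φ (-1) := by
    refine Equiv.ext fun v => ?_
    show shear φ (diag k hk ((shear φ)⁻¹ v)) = weyl φ k (weyl φ (-1) v)
    rw [weyl_apply φ (neg_ne_zero.2 one_ne_zero), weyl_apply φ hk, shear_inv_apply, diag_apply, shear_apply]
    obtain ⟨x, y⟩ := v
    ext <;> simp
    ring
  rw [h]
  exact mul_mem (weyl_mem_sl φ k) (weyl_mem_sl φ _)

variable (K) in
/-- The invariant line of the upper root group. -/
def lineL : Set (K × K) := {v | v.1 = 0}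

theorem mem_lineL {v : (K × K)} : v ∈ lineL K ↔ v.1 = 0 := Iff.rfl

/-- The image of the line. -/
def line (g : Equiv.Perm (K × K)) : Set (K × K) := g '' lineL K

theorem mem_line {g : Equiv.Perm (K × K)} {v : (K × K)} : v ∈ line g ↔ g⁻¹ v ∈ lineL K := by
  constructor
  · rintro ⟨w, hw, rfl⟩
    exact (g.symm_apply_apply w).symm ▸ hw
  · intro h
    exact ⟨_, h, g.apply_symm_apply v⟩

theorem apply_mem_line (g : Equiv.Perm (K × K)) {w : (K × K)} (hw : w ∈ lineL K) : g w ∈ line g := ⟨w, hw, rfl⟩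

theorem line_one : line (1 : Equiv.Perm (K × K)) = lineL K := Set.image_id _

theorem line_mul (g h : Equiv.Perm (K × K)) : line (g * h) = g '' line h := by
  rw [line, line, Set.image_image]; rfl

theorem natCard_line [Finite K] (g : Equiv.Perm (K × K)) : Nat.card (line g) = Nat.card K := by
  rw [line, Nat.card_image_of_injective g.injective]
  exact Nat.card_congr
    { toFun := fun v => v.1.2
      invFun := fun y => ⟨(0, y), rfl⟩
      left_inv := fun v => Subtype.ext (Prod.ext (mem_lineL.1 v.2).symm rfl)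
      right_inv := fun _ => rfl }

variable {p : ℕ} [Fact p.Prime]

/-- The hypotheses. -/
structure Setup (X : Subgroup (Equiv.Perm (K × K))) (U : Sylow p X) : Prop where
  map_add : ∀ g : X, ∀ v w : (K × K), (g : Equiv.Perm (K × K)) (v + w) = (g : Equiv.Perm (K × K)) v + (g : Equiv.Perm (K × K)) w
  mem_iff : ∀ g : X, g ∈ U ↔ ∃ a, (g : Equiv.Perm (K × K)) = upp a
  upp_mem : ∀ a, upp a ∈ X

variable [CharP K p] {X : Subgroup (Equiv.Perm (K × K))} {U : Sylow p X}

section

variable (h : Setup X U)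
include h

theorem Setup.map_zero (g : X) : (g : Equiv.Perm (K × K)) 0 = 0 := by simpa using h.map_add g 0 0

theorem Setup.map_sub (g : X) (v w : (K × K)) :
    (g : Equiv.Perm (K × K)) (v - w) = (g : Equiv.Perm (K × K)) v - (g : Equiv.Perm (K × K)) w := by
  rw [eq_sub_iff_add_eq, ← h.map_add, sub_add_cancel]

theorem Setup.map_nsmul (g : X) (k : ℕ) (v : (K × K)) :
    (g : Equiv.Perm (K × K)) (k • v) = k • (g : Equiv.Perm (K × K)) v := by
  induction k with
  | zero => simp [h.map_zero]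
  | succ k ih => rw [succ_nsmul, succ_nsmul, h.map_add, ih]

/-- The stabiliser of the series is the Sylow subgroup. -/
theorem Setup.mem_of_shear {g : X} (hL : ∀ v ∈ lineL K, (g : Equiv.Perm (K × K)) v = v)
    (hq : ∀ v : (K × K), ((g : Equiv.Perm (K × K)) v).1 = v.1) : g ∈ U := by
  let A : Subgroup X :=
    { carrier := {g | (∀ v ∈ lineL K, (g : Equiv.Perm (K × K)) v = v) ∧ ∀ v : (K × K), ((g : Equiv.Perm (K × K)) v).1 = v.1}
      one_mem' := ⟨fun _ _ => rfl, fun _ => rfl⟩
      mul_mem' := fun {a b} ha hb => ⟨fun v hv => by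
          show (a : Equiv.Perm (K × K)) ((b : Equiv.Perm (K × K)) v) = v
          rw [hb.1 v hv, ha.1 v hv], fun v => by
          show ((a : Equiv.Perm (K × K)) ((b : Equiv.Perm (K × K)) v)).1 = v.1
          rw [ha.2, hb.2]⟩
      inv_mem' := fun {a} ha => by
        refine ⟨fun v hv => ?_, fun v => ?_⟩
        · conv_lhs => rw [← ha.1 v hv]
          exact (a : Equiv.Perm (K × K)).symm_apply_apply v
        · conv_rhs => rw [← (a : Equiv.Perm (K × K)).apply_symm_apply v]
          exact (ha.2 _).symm }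
  have hA : IsPGroup p A := by
    rintro ⟨a, ha1, ha2⟩
    refine ⟨1, Subtype.ext (Subtype.ext (Equiv.ext fun v => ?_))⟩
    have hk : ∀ k : ℕ, ((a : Equiv.Perm (K × K)) ^ k) v = v + k • ((a : Equiv.Perm (K × K)) v - v) := by
      intro k
      induction k with
      | zero => simp
      | succ k ih =>
        rw [pow_succ']
        show (a : Equiv.Perm (K × K)) (((a : Equiv.Perm (K × K)) ^ k) v) = _
        rw [ih, h.map_add, h.map_nsmul,
          ha1 ((a : Equiv.Perm (K × K)) v - v) (by rw [mem_lineL, Prod.fst_sub, ha2, sub_self]), succ_nsmul']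
        abel
    show ((a : Equiv.Perm (K × K)) ^ (p ^ 1)) v = v
    rw [pow_one, hk]
    ext <;> simp [nsmul_eq_mul, CharP.cast_eq_zero]
  have hUA : (U : Subgroup X) ≤ A := fun u hu => by
    obtain ⟨a, ha⟩ := (h.mem_iff u).1 hu
    refine ⟨fun v hv => ?_, fun v => by rw [ha]; rfl⟩
    rw [ha, upp_apply, mem_lineL.1 hv]
    ext <;> simp [mem_lineL.1 hv]
  have := U.3 hA hUA
  exact SetLike.le_def.1 this.le (show g ∈ A from ⟨hL, hq⟩)

theorem Setup.upp_shear {u : X} (hu : u ∈ U) :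
    (∀ v ∈ lineL K, (u : Equiv.Perm (K × K)) v = v) ∧ ∀ v : (K × K), ((u : Equiv.Perm (K × K)) v).1 = v.1 := by
  obtain ⟨a, ha⟩ := (h.mem_iff u).1 hu
  refine ⟨fun v hv => ?_, fun v => by rw [ha]; rfl⟩
  rw [ha]
  ext <;> simp [mem_lineL.1 hv]

/-- An element carrying the line to itself normalises the Sylow subgroup. -/
theorem Setup.mem_normalizer [Finite K] {g : X} (hg : line (g : Equiv.Perm (K × K)) = lineL K) :
    g ∈ Subgroup.normalizer ((U : Subgroup X) : Set X) := by
  refine Subgroup.mem_normalizer_fintype (fun u hu => ?_)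
  obtain ⟨h1, h2⟩ := h.upp_shear hu
  set e : Equiv.Perm (K × K) := (g : Equiv.Perm (K × K))
  have hin : ∀ v ∈ lineL K, e v ∈ lineL K := fun v hv => hg ▸ apply_mem_line _ hv
  have hout : ∀ v ∈ lineL K, e.symm v ∈ lineL K := fun v hv => mem_line.1 (hg.symm ▸ hv)
  refine h.mem_of_shear (fun v hv => ?_) fun v => ?_
  · show e ((u : Equiv.Perm (K × K)) (e.symm v)) = v
    rw [h1 _ (hout v hv), e.apply_symm_apply]
  · show (e ((u : Equiv.Perm (K × K)) (e.symm v))).1 = v.1
    have hd : (u : Equiv.Perm (K × K)) (e.symm v) - e.symm v ∈ lineL K := by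
      rw [mem_lineL, Prod.fst_sub, h2, sub_self]
    have := mem_lineL.1 (hin _ hd)
    rwa [h.map_sub, e.apply_symm_apply, Prod.fst_sub, sub_eq_zero] at this

theorem Setup.exists_move [Finite K] (hn : ¬ (U : Subgroup X).Normal) :
    ∃ g : X, line (g : Equiv.Perm (K × K)) ≠ lineL K := by
  by_contra hc
  push Not at hc
  exact hn ⟨fun u hu g => (Subgroup.mem_normalizer_iff.1 (h.mem_normalizer (hc g)) u).1 hu⟩

/-- An upper element preserving a moved line fixes it pointwise. -/
theorem Setup.fix_of_line [Finite K] {g u : X} (hu : u ∈ U)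
    (hl : line ((u : Equiv.Perm (K × K)) * (g : Equiv.Perm (K × K))) = line (g : Equiv.Perm (K × K))) :
    ∀ v ∈ line (g : Equiv.Perm (K × K)), (u : Equiv.Perm (K × K)) v = v := by
  have h1 : line ((g⁻¹ * u * g : X) : Equiv.Perm (K × K)) = lineL K := by
    rw [show ((g⁻¹ * u * g : X) : Equiv.Perm (K × K)) = (g : Equiv.Perm (K × K))⁻¹ * ((u : Equiv.Perm (K × K)) * g) by simp [mul_assoc],
      line_mul, hl, ← line_mul, inv_mul_cancel, line_one]
  have h2 : g⁻¹ * u * g ∈ U := by
    have hn := h.mem_normalizer h1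
    obtain ⟨k, hk⟩ := U.2 ⟨u, hu⟩
    have hp : IsPGroup p (Subgroup.zpowers (g⁻¹ * u * g)) := by
      rintro ⟨x, j, rfl⟩
      refine ⟨k, Subtype.ext ?_⟩
      have hpow : (g⁻¹ * u * g) ^ p ^ k = 1 := by
        have hk' : u ^ p ^ k = 1 := congrArg Subtype.val hk
        have := conj_pow (i := p ^ k) (a := g⁻¹) (b := u)
        rw [inv_inv] at this
        rw [this, hk', mul_one, inv_mul_cancel]
      show ((g⁻¹ * u * g) ^ j) ^ p ^ k = 1
      rw [← zpow_natCast, ← zpow_mul, mul_comm, zpow_mul, zpow_natCast, hpow, one_zpow]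
    have hle : Subgroup.zpowers (g⁻¹ * u * g) ≤ Subgroup.normalizer ((U : Subgroup X) : Set X) :=
      Subgroup.zpowers_le.2 hn
    have := hp.to_sup_of_normal_right' U.2 hle
    exact SetLike.le_def.1 (U.3 this le_sup_right).le (Subgroup.mem_sup_left (Subgroup.mem_zpowers _))
  intro v hv
  have := (h.upp_shear h2).1 _ (mem_line.1 hv)
  have e2 : ((g⁻¹ * u * g : X) : Equiv.Perm (K × K)) ((g : Equiv.Perm (K × K))⁻¹ v) =
      (g : Equiv.Perm (K × K))⁻¹ ((u : Equiv.Perm (K × K)) ((g : Equiv.Perm (K × K)) ((g : Equiv.Perm (K × K))⁻¹ v))) := rfl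
  rw [e2, show (g : Equiv.Perm (K × K)) ((g : Equiv.Perm (K × K))⁻¹ v) = v from
    Equiv.apply_symm_apply _ v] at this
  exact ((g : Equiv.Perm (K × K))⁻¹).injective this

/-- Conjugates of the line meet the line trivially. -/
theorem Setup.inf_lineL [Finite K] {g : X} (hg : line (g : Equiv.Perm (K × K)) ≠ lineL K) {v : (K × K)}
    (hvL : v ∈ lineL K) (hvg : v ∈ line (g : Equiv.Perm (K × K))) : v = 0 := by
  by_contra hv0
  have : Nonempty {g : X // line (g : Equiv.Perm (K × K)) ≠ lineL K} := ⟨⟨g, hg⟩⟩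
  obtain ⟨⟨g₀, hg₀⟩, hmax⟩ := Finite.exists_max
    fun g : {g : X // line (g : Equiv.Perm (K × K)) ≠ lineL K} => (lineL K ∩ line (g.1 : Equiv.Perm (K × K))).ncard
  set D := lineL K ∩ line (g₀ : Equiv.Perm (K × K))
  have hzero : ∀ g : X, (0 : (K × K)) ∈ lineL K ∩ line (g : Equiv.Perm (K × K)) := fun g =>
    ⟨rfl, 0, rfl, h.map_zero g⟩
  obtain ⟨d, hd, hd0⟩ : ∃ d ∈ D, d ≠ 0 := by
    have h2 : 1 < (lineL K ∩ line (g : Equiv.Perm (K × K))).ncard :=
      (Set.one_lt_ncard_iff (Set.toFinite _)).2 ⟨v, 0, ⟨hvL, hvg⟩, hzero g, hv0⟩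
    exact Set.exists_ne_of_one_lt_ncard (lt_of_lt_of_le h2 (hmax ⟨g, hg⟩)) 0
  obtain ⟨w, hw, hwL⟩ : ∃ w ∈ line (g₀ : Equiv.Perm (K × K)), w ∉ lineL K := by
    by_contra hc
    push Not at hc
    refine hg₀ (Set.eq_of_subset_of_ncard_le hc ?_)
    rw [← line_one, ← Nat.card_coe_set_eq, ← Nat.card_coe_set_eq, natCard_line, natCard_line]
  have hw0 : w.1 ≠ 0 := hwL
  let u : X := ⟨upp (d.2 / w.1), h.upp_mem _⟩
  have hu : u ∈ U := (h.mem_iff u).2 ⟨_, rfl⟩
  have huw : (u : Equiv.Perm (K × K)) w = w + d := by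
    show upp (d.2 / w.1) w = w + d
    ext <;> simp [show d.1 = 0 from hd.1, hw0]
  by_cases hl : line ((u : Equiv.Perm (K × K)) * (g₀ : Equiv.Perm (K × K))) = line (g₀ : Equiv.Perm (K × K))
  · have := h.fix_of_line hu hl w hw
    rw [huw] at this
    exact hd0 (by simpa using this)
  · -- a larger intersection
    have hne' : line ((g₀⁻¹ * u * g₀ : X) : Equiv.Perm (K × K)) ≠ lineL K := fun e => hl (by
      rw [show (u : Equiv.Perm (K × K)) * (g₀ : Equiv.Perm (K × K)) =
        (g₀ : Equiv.Perm (K × K)) * ((g₀⁻¹ * u * g₀ : X) : Equiv.Perm (K × K)) by simp [mul_assoc],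
        line_mul, e, ← line_one, ← line_mul, mul_one])
    let E : Set (K × K) := line (g₀ : Equiv.Perm (K × K)) ∩ line ((u : Equiv.Perm (K × K)) * (g₀ : Equiv.Perm (K × K)))
    have hE : ((g₀ : Equiv.Perm (K × K))⁻¹ : Equiv.Perm (K × K)) '' E ⊆ lineL K ∩ line ((g₀⁻¹ * u * g₀ : X) : Equiv.Perm (K × K)) := by
      rintro _ ⟨x, ⟨hx1, hx2⟩, rfl⟩
      refine ⟨mem_line.1 hx1, ?_⟩
      rw [show ((g₀⁻¹ * u * g₀ : X) : Equiv.Perm (K × K)) =
        (g₀ : Equiv.Perm (K × K))⁻¹ * ((u : Equiv.Perm (K × K)) * (g₀ : Equiv.Perm (K × K))) by simp [mul_assoc],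
        line_mul]
      exact ⟨x, hx2, rfl⟩
    have hlt : D ⊂ E := by
      refine Set.ssubset_iff_subset_ne.2 ⟨fun x hx => ⟨hx.2, ?_⟩, fun e => ?_⟩
      · rw [line_mul]
        exact ⟨x, hx.2, (h.upp_shear hu).1 x hx.1⟩
      · have hwd : w + d ∈ E := by
          refine ⟨?_, ?_⟩
          · obtain ⟨w', hw', rfl⟩ := hw
            obtain ⟨d', hd', rfl⟩ := hd.2
            refine ⟨w' + d', ?_, h.map_add g₀ w' d'⟩
            show w'.1 + d'.1 = 0
            rw [show w'.1 = 0 from hw', show d'.1 = 0 from hd', add_zero]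
          · rw [line_mul]
            exact ⟨w, hw, huw⟩
        rw [← e] at hwd
        have : w.1 + d.1 = 0 := hwd.1
        rw [show d.1 = 0 from hd.1, add_zero] at this
        exact hw0 this
    have h1 := Set.ncard_lt_ncard hlt
    have h2 := Set.ncard_le_ncard hE
    rw [Set.ncard_image_of_injective _ ((g₀ : Equiv.Perm (K × K))⁻¹).injective] at h2
    exact absurd (hmax ⟨_, hne'⟩) (not_le.2 (lt_of_lt_of_le h1 h2))

/-- A moved line is a graph. -/
theorem Setup.exists_graph [Finite K] {g : X} (hg : line (g : Equiv.Perm (K × K)) ≠ lineL K) :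
    ∃ φ : K →+ K, ∀ v : (K × K), v ∈ line (g : Equiv.Perm (K × K)) ↔ v.2 = φ v.1 := by
  let A : AddSubgroup (K × K) :=
    { carrier := line (g : Equiv.Perm (K × K))
      zero_mem' := ⟨0, rfl, h.map_zero g⟩
      add_mem' := by
        rintro _ _ ⟨v, hv, rfl⟩ ⟨w, hw, rfl⟩
        exact ⟨v + w, show v.1 + w.1 = 0 by rw [show v.1 = 0 from hv, show w.1 = 0 from hw, add_zero],
          h.map_add g v w⟩
      neg_mem' := by
        rintro _ ⟨v, hv, rfl⟩
        exact ⟨0 - v, show (0 : K) - v.1 = 0 by rw [show v.1 = 0 from hv, sub_zero],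
          by rw [h.map_sub, h.map_zero, zero_sub]⟩ }
  let f : A →+ K := (AddMonoidHom.fst K K).comp A.subtype
  have hf : Function.Injective f := (injective_iff_map_eq_zero f).2 fun v hv =>
    Subtype.ext (h.inf_lineL hg hv v.2)
  haveI := Fintype.ofFinite K
  haveI := Fintype.ofFinite A
  have hb : Function.Bijective f := (Fintype.bijective_iff_injective_and_card f).2 ⟨hf, by
    rw [← Nat.card_eq_fintype_card, ← Nat.card_eq_fintype_card]
    exact natCard_line (g : Equiv.Perm (K × K))⟩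
  refine ⟨((AddMonoidHom.snd K K).comp A.subtype).comp (AddEquiv.ofBijective f hb).symm.toAddMonoidHom,
    fun v => ⟨fun hv => ?_, fun hv => ?_⟩⟩
  · have : (AddEquiv.ofBijective f hb).symm v.1 = ⟨v, hv⟩ :=
      (AddEquiv.ofBijective f hb).symm_apply_eq.2 rfl
    simp [this]
  · set w := (AddEquiv.ofBijective f hb).symm v.1
    have hw : (w : (K × K)).1 = v.1 := (AddEquiv.ofBijective f hb).apply_symm_apply v.1
    have : v = (w : (K × K)) := Prod.ext hw.symm hv
    exact this ▸ w.2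

/-- **The spread.** -/
theorem Setup.spread [Finite K] (hn : ¬ (U : Subgroup X).Normal) :
    ∃ φ : K →+ K, sl φ ≤ X ∧
      (∀ g : X, ∀ u ∈ U, ((g * u * g⁻¹ : X) : Equiv.Perm (K × K)) ∈ sl φ) ∧
      ∀ g : X, ∃ l : X, (l : Equiv.Perm (K × K)) ∈ sl φ ∧
        l * g ∈ Subgroup.normalizer ((U : Subgroup X) : Set X) := by
  obtain ⟨g₀, hg₀⟩ := h.exists_move hn
  obtain ⟨φ, hφ⟩ := h.exists_graph hg₀
  -- the other conjugates of the line
  have hlines : ∀ g : X, line (g : Equiv.Perm (K × K)) ≠ lineL K →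
      ∃ m : K, line (g : Equiv.Perm (K × K)) = line (upp m * (g₀ : Equiv.Perm (K × K))) := by
    intro g hg
    obtain ⟨ψ, hψ⟩ := h.exists_graph hg
    set m := ψ 1 - φ 1 with hm
    refine ⟨m, ?_⟩
    by_contra hne
    let k : X := ⟨upp m, h.upp_mem m⟩ * g₀
    have hne' : line (((g⁻¹ * k : X)) : Equiv.Perm (K × K)) ≠ lineL K := fun e => hne (by
      have : (k : Equiv.Perm (K × K)) = (g : Equiv.Perm (K × K)) * ((g⁻¹ * k : X) : Equiv.Perm (K × K)) := by simp
      show line (g : Equiv.Perm (K × K)) = line (k : Equiv.Perm (K × K))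
      rw [this, line_mul, e, ← line_one, ← line_mul, mul_one])
    have hw : ((1, ψ 1) : (K × K)) ∈ line (g : Equiv.Perm (K × K)) := (hψ _).2 rfl
    have hw2 : ((1, ψ 1) : (K × K)) ∈ line (k : Equiv.Perm (K × K)) := by
      show ((1, ψ 1) : (K × K)) ∈ line (upp m * (g₀ : Equiv.Perm (K × K)))
      rw [line_mul]
      refine ⟨(1, φ 1), (hφ _).2 rfl, ?_⟩
      show upp m (1, φ 1) = _
      simp [hm]
    have h0 : (g : Equiv.Perm (K × K))⁻¹ (1, ψ 1) = 0 := by
      refine h.inf_lineL hne' (mem_line.1 hw) ?_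
      rw [show ((g⁻¹ * k : X) : Equiv.Perm (K × K)) = (g : Equiv.Perm (K × K))⁻¹ * (k : Equiv.Perm (K × K)) by simp, line_mul]
      exact ⟨_, hw2, rfl⟩
    have h1 := congrArg (g : Equiv.Perm (K × K)) h0
    rw [show ∀ w, (g : Equiv.Perm (K × K)) ((g : Equiv.Perm (K × K))⁻¹ w) = w from
      Equiv.apply_symm_apply _, h.map_zero] at h1
    exact one_ne_zero (congrArg Prod.fst h1)
  -- the Sylow subgroup of the first moved line consists of shifted lower elements
  have hlow : ∀ u ∈ U, ∃ c, ((g₀ * u * g₀⁻¹ : X) : Equiv.Perm (K × K)) = lowS φ c := by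
    intro u hu
    set x : X := g₀ * u * g₀⁻¹ with hx
    set e : Equiv.Perm (K × K) := (g₀ : Equiv.Perm (K × K))
    have hxv : ∀ v, (x : Equiv.Perm (K × K)) v = e ((u : Equiv.Perm (K × K)) (e.symm v)) := fun v => rfl
    have hfix : ∀ v ∈ line (g₀ : Equiv.Perm (K × K)), (x : Equiv.Perm (K × K)) v = v := fun v hv => by
      rw [hxv, (h.upp_shear hu).1 (e.symm v) (mem_line.1 hv), e.apply_symm_apply]
    have hdiff : ∀ v, (x : Equiv.Perm (K × K)) v - v ∈ line (g₀ : Equiv.Perm (K × K)) := fun v => by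
      refine ⟨(u : Equiv.Perm (K × K)) (e.symm v) - e.symm v, ?_, ?_⟩
      · rw [mem_lineL, Prod.fst_sub, (h.upp_shear hu).2, sub_self]
      · show e _ = _
        rw [h.map_sub, e.apply_symm_apply, hxv]
    let ψ : K → K := fun y => ((x : Equiv.Perm (K × K)) (0, y)).1
    have hxL : ∀ y, (x : Equiv.Perm (K × K)) (0, y) = (ψ y, y + φ (ψ y)) := fun y => by
      have h1 := (hφ _).1 (hdiff (0, y))
      refine Prod.ext rfl ?_
      simp only [Prod.snd_sub, Prod.fst_sub, sub_zero] at h1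
      linear_combination h1
    have hall : ∀ v : (K × K), (x : Equiv.Perm (K × K)) v = (v.1 + ψ (v.2 - φ v.1), v.2 - φ v.1 + φ (v.1 + ψ (v.2 - φ v.1))) := by
      intro v
      have e1 : v = (v.1, φ v.1) + (0, v.2 - φ v.1) := by ext <;> simp
      conv_lhs => rw [e1]
      rw [h.map_add, hfix _ ((hφ _).2 rfl), hxL]
      ext
      · simp
      · simp [map_add]
        ring
    by_cases hx0 : line (x : Equiv.Perm (K × K)) = lineL K
    · have hψ0 : ∀ y, ψ y = 0 := fun y => by
        have := hx0 ▸ apply_mem_line (x : Equiv.Perm (K × K)) (show ((0, y) : (K × K)) ∈ lineL K from rfl)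
        exact this
      exact ⟨0, Equiv.ext fun v => by rw [hall, lowS_apply, hψ0, zero_mul]⟩
    · obtain ⟨m, hm⟩ := hlines x hx0
      have hm' : ∀ y, y + φ (ψ y) = φ (ψ y) + m * ψ y := fun y => by
        have := hm ▸ apply_mem_line (x : Equiv.Perm (K × K)) (show ((0, y) : (K × K)) ∈ lineL K from rfl)
        rw [hxL, line_mul] at this
        obtain ⟨w, hw, he⟩ := this
        change upp m w = _ at he
        rw [upp_apply, Prod.ext_iff] at he
        simp only at he
        rw [← he.2, (hφ w).1 hw, show w.1 = ψ y from he.1]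
      have hm0 : m ≠ 0 := fun e0 => by
        have := hm' 1
        rw [e0, zero_mul, add_zero, add_eq_right] at this
        exact one_ne_zero this
      refine ⟨m⁻¹, Equiv.ext fun v => ?_⟩
      rw [hall, lowS_apply, show ψ (v.2 - φ v.1) = m⁻¹ * (v.2 - φ v.1) by
        rw [eq_inv_mul_iff_mul_eq₀ hm0]
        exact ((add_comm _ _).trans (hm' (v.2 - φ v.1))) |> add_left_cancel |>.symm]
  -- all of them occur
  have hlowX : ∀ c, lowS φ c ∈ X := by
    haveI := Fintype.ofFinite K
    choose c hc using fun a : K => hlow ⟨upp a, h.upp_mem a⟩ ((h.mem_iff _).2 ⟨a, rfl⟩)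
    have hinj : Function.Injective c := fun a b e => by
      have h1 := (hc a).trans ((congrArg (lowS φ) e).trans (hc b).symm)
      have h2 : (⟨upp a, h.upp_mem a⟩ : X) = ⟨upp b, h.upp_mem b⟩ :=
        mul_left_cancel (mul_right_cancel (Subtype.ext h1))
      have h3 := congrArg (fun t : X => (t : Equiv.Perm (K × K)) (1, 0)) h2
      simpa using h3
    intro d
    obtain ⟨a, rfl⟩ := (Finite.injective_iff_surjective.1 hinj) d
    exact hc a ▸ Subtype.coe_prop _
  have hsl : sl φ ≤ X := by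
    rw [sl, Subgroup.closure_le]
    rintro _ (⟨a, rfl⟩ | ⟨c, rfl⟩)
    exacts [h.upp_mem a, hlowX c]
  have hw : line (weyl φ 1) = line (g₀ : Equiv.Perm (K × K)) := by
    refine Set.eq_of_subset_of_ncard_le ?_ (by rw [← Nat.card_coe_set_eq, ← Nat.card_coe_set_eq, natCard_line, natCard_line])
    rintro _ ⟨w, hw, rfl⟩
    refine (hφ _).2 ?_
    show (weyl φ 1 w).2 = φ (weyl φ 1 w).1
    rw [weyl_apply φ one_ne_zero, mem_lineL.1 hw]
    simp
  have htrans : ∀ g : X, ∃ l : X, (l : Equiv.Perm (K × K)) ∈ sl φ ∧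
      l * g ∈ Subgroup.normalizer ((U : Subgroup X) : Set X) := by
    intro g
    by_cases hg : line (g : Equiv.Perm (K × K)) = lineL K
    · exact ⟨1, one_mem _, by rw [one_mul]; exact h.mem_normalizer hg⟩
    · obtain ⟨m, hm⟩ := hlines g hg
      have hs : upp m * weyl φ 1 ∈ sl φ := mul_mem (upp_mem_sl φ m) (weyl_mem_sl φ 1)
      refine ⟨(⟨_, hsl hs⟩ : X)⁻¹, inv_mem hs, h.mem_normalizer ?_⟩
      show line ((upp m * weyl φ 1)⁻¹ * (g : Equiv.Perm (K × K))) = _
      rw [line_mul, hm, line_mul, ← hw, ← line_mul, ← line_mul, inv_mul_cancel, line_one]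
  refine ⟨φ, hsl, fun g u hu => ?_, htrans⟩
  obtain ⟨l, hl, hn'⟩ := htrans g
  have h1 : l * g * u * (l * g)⁻¹ ∈ U := (Subgroup.mem_normalizer_iff.1 hn' u).1 hu
  obtain ⟨a, ha⟩ := (h.mem_iff _).1 h1
  rw [show g * u * g⁻¹ = l⁻¹ * (l * g * u * (l * g)⁻¹) * l by group]
  exact mul_mem (mul_mem (inv_mem hl) (ha ▸ upp_mem_sl φ a)) hl

end

end Cfsg.Agent.SpFourCore.Spread
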